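import Cfsg.Agent.Lib.HSRecog.Rels
import Cfsg.Agent.Lib.HSRecog.Cert.CoverM
import Cfsg.Agent.Lib.HSRecog.Cert.CoverH
import Cfsg.Agent.Lib.HSRecog.Cert.CoverG
import Mathlib.GroupTheory.Index
import Mathlib.Algebra.Group.Subgroup.Pointwise
import Mathlib.Tactic.Group
import Mathlib.Tactic.Ring

/-!
# Index bounds from the three enumerations
-/

set_option autoImplicit false
set_option linter.style.haveILetI false
set_option synthInstance.maxSize 50000
set_option maxRecDepth 4000

namespace CfsgLib.HSRecog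

open Subgroup CfsgLib.Presented

/-- The word in the letters of `G` of a word in the letters of `H`. -/
def hWord (w : List ℕ) : List ℕ :=
  w.flatMap fun l => if l % 2 = 0 then hLetters.getD (l / 2) [] else iv (hLetters.getD (l / 2) [])

/-- The relators of `M` in the true case. -/
def mRels : List (List ℕ) := baseRels ++ [cRel (0, 0, 0), eRel (0, 0, 0)]

theorem coverM_data : CertCoverM.enum.A.eps = 8 ∧ (∀ x ∈ List.range 8, CertCoverM.enum.A.invl x = flipLet x) ∧
    CertCoverM.enum.rels = mRels.map rd ∧ CertCoverM.enum.subs = [[2], [4]] ∧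
    CertCoverM.cover.gens = [0, 2, 4, 6] ∧ CertCoverM.cover.n = 512 ∧
    (mRels.all fun w => w.all fun x => Nat.blt x 10) = true ∧
    ((mRels.map rd).all fun w => w.all fun x => Nat.blt x 8) = true := by decide +kernel

theorem coverH_data : CertCoverH.enum.A.eps = 12 ∧ (∀ x ∈ List.range 12, CertCoverH.enum.A.invl x = flipLet x) ∧
    CertCoverH.enum.rels = hRels ∧ CertCoverH.enum.subs = [[0], [2], [4], [6], [8]] ∧
    CertCoverH.cover.gens = [0, 2, 4, 6, 8, 10] ∧ CertCoverH.cover.n = 5 ∧
    (hRels.all fun w => w.all fun x => Nat.blt x 12) = true := by decide +kernel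

theorem coverG_data : CertCoverG.enum.A.eps = 10 ∧ (∀ x ∈ List.range 10, CertCoverG.enum.A.invl x = flipLet x) ∧
    CertCoverG.enum.rels = allRels.map rd ∧ CertCoverG.enum.subs = hLetters ∧
    CertCoverG.cover.gens = [0, 2, 4, 6, 8] ∧ CertCoverG.cover.n = 5775 ∧
    (allRels.all fun w => w.all fun x => Nat.blt x 10) = true := by decide +kernel

variable {W : Type*} [Group W]

theorem card_le_of_relIndex {L K : Subgroup W} (hle : L ≤ K) [Finite L] {n m : ℕ}
    (h : L.relIndex K ≠ 0 ∧ L.relIndex K ≤ n) (hL : Nat.card L ≤ m) : Finite K ∧ Nat.card K ≤ n * m := by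
  have e := (L.subgroupOf K).card_mul_index
  rw [Nat.card_congr (subgroupOfEquivOfLe hle).toEquiv] at e
  have hpos : 0 < Nat.card K := by
    rw [← e]
    exact Nat.mul_pos Nat.card_pos (Nat.pos_of_ne_zero h.1)
  refine ⟨Nat.finite_of_card_ne_zero hpos.ne', ?_⟩
  rw [← e, mul_comm n]
  exact Nat.mul_le_mul hL h.2

theorem flip_inv (a q y u s : W) {x : ℕ} (hx : x < 10) :
    evS a q y u s (flipLet x) * evS a q y u s x = 1 := by
  rw [evS_flip a q y u s hx, inv_mul_cancel]

/-- `⟨q, y⟩` has at most twenty-one elements. -/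
theorem card_qy_le {q y : W} (h7 : q ^ 7 = 1) (h3 : y ^ 3 = 1) (hqy : y⁻¹ * q * y = q * q) :
    Finite (closure ({q, y} : Set W)) ∧ Nat.card (closure ({q, y} : Set W)) ≤ 21 := by
  let S : Finset (Fin 7 × Fin 3) := Finset.univ
  have hyq : ∀ i : ℕ, y * q ^ i = q ^ (4 * i) * y := fun i => by
    have h4 : y * q * y⁻¹ = q ^ 4 := by
      have h2 : q * q = y⁻¹ * q * y := hqy.symm
      calc y * q * y⁻¹ = y * q ^ 8 * y⁻¹ := by rw [show 8 = 7 + 1 from rfl, pow_succ, h7, one_mul]
        _ = y * (q * q) ^ 4 * y⁻¹ := by rw [← pow_two, ← pow_mul]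
        _ = q ^ 4 := by
          rw [h2, show y⁻¹ * q * y = y⁻¹ * q * (y⁻¹)⁻¹ by rw [inv_inv], conj_pow]; group
    rw [pow_mul, ← h4, conj_pow]
    group
  have hyj : ∀ j i : ℕ, y ^ j * q ^ i = q ^ (4 ^ j * i) * y ^ j := by
    intro j
    induction j with
    | zero => intro i; simp
    | succ j ih =>
      intro i
      rw [pow_succ, mul_assoc, hyq, ← mul_assoc, ih, mul_assoc, ← pow_succ]
      congr 2
      ring
  let C : Subgroup W :=
    { carrier := {x | ∃ i j : ℕ, x = q ^ i * y ^ j}
      one_mem' := ⟨0, 0, by simp⟩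
      mul_mem' := by
        rintro _ _ ⟨i, j, rfl⟩ ⟨i', j', rfl⟩
        refine ⟨i + 4 ^ j * i', j + j', ?_⟩
        rw [pow_add, pow_add, ← mul_assoc, mul_assoc (q ^ i), hyj]
        simp only [mul_assoc]
      inv_mem' := by
        rintro _ ⟨i, j, rfl⟩
        refine ⟨4 ^ (2 * j) * (6 * i), 2 * j, ?_⟩
        have e1 : (y ^ j)⁻¹ = y ^ (2 * j) := inv_eq_of_mul_eq_one_right (by
          rw [← pow_add, show j + 2 * j = 3 * j by ring, pow_mul, h3, one_pow])
        have e2 : (q ^ i)⁻¹ = q ^ (6 * i) := inv_eq_of_mul_eq_one_right (by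
          rw [← pow_add, show i + 6 * i = 7 * i by ring, pow_mul, h7, one_pow])
        rw [mul_inv_rev, e1, e2, hyj] }
  have hle : closure ({q, y} : Set W) ≤ C := by
    rw [closure_le]
    rintro x (rfl | rfl)
    · exact ⟨1, 0, by simp⟩
    · exact ⟨0, 1, by simp⟩
  let f : Fin 7 × Fin 3 → C := fun p => ⟨q ^ (p.1 : ℕ) * y ^ (p.2 : ℕ), p.1, p.2, rfl⟩
  have hf : Function.Surjective f := by
    rintro ⟨_, i, j, rfl⟩
    refine ⟨(⟨i % 7, Nat.mod_lt _ (by norm_num)⟩, ⟨j % 3, Nat.mod_lt _ (by norm_num)⟩), Subtype.ext ?_⟩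
    show q ^ (i % 7) * y ^ (j % 3) = q ^ i * y ^ j
    conv_rhs => rw [← Nat.mod_add_div i 7, ← Nat.mod_add_div j 3, pow_add, pow_add, pow_mul, pow_mul, h7, h3,
      one_pow, one_pow, mul_one, mul_one]
  haveI : Finite C := Finite.of_surjective f hf
  refine ⟨Finite.of_injective _ (inclusion_injective hle), ?_⟩
  calc Nat.card (closure ({q, y} : Set W)) ≤ Nat.card C := Subgroup.card_le_of_le hle
    _ ≤ Nat.card (Fin 7 × Fin 3) := Nat.card_le_card_of_surjective f hf
    _ = 21 := by simp

variable {a q y u s : W}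

/-- The bound for `M`. -/
theorem card_M_le (h : ∀ w ∈ mRels, evW (evS a q y u s) w = 1) :
    Finite (closure ({a, q, y, u} : Set W)) ∧ Nat.card (closure ({a, q, y, u} : Set W)) ≤ 10752 := by
  obtain ⟨d1, d2, d3, d4, d5, d6, d7, d8⟩ := coverM_data
  have hrd := evW_map_rd a q y u s d7 h
  let ev : ℕ → W := fun n => if n < 8 then evS a q y u s n else 1
  have hev : ∀ w : List ℕ, (∀ x ∈ w, x < 8) → evW ev w = evW (evS a q y u s) w := fun w hw => by
    rw [evW, evW]
    refine congrArg List.prod (List.map_congr_left fun x hx => if_pos (hw x hx))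
  obtain ⟨f1, f2⟩ := card_qy_le (q := q) (y := y)
    (by have := h [2, 2, 2, 2, 2, 2, 2] (by simp [mRels, baseRels]); simpa [evS, pow_succ, mul_assoc] using this)
    (by have := h [4, 4, 4] (by simp [mRels, baseRels]); simpa [evS, pow_succ, mul_assoc] using this)
    (by
      have := h [5, 2, 4, 3, 3] (by simp [mRels, baseRels])
      simp only [evW_cons, evW_nil, evS, List.getD_cons_zero, List.getD_cons_succ, mul_one] at this
      have e : y⁻¹ * q * y * (q * q)⁻¹ = 1 := by rw [← this]; group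
      exact mul_inv_eq_one.1 e)
  have hidx := Cover.relIndex_le (ev := ev) (C := CertCoverM.cover) (H := closure ({q, y} : Set W))
    (K := closure ({a, q, y, u} : Set W)) CertCoverM.enum_valid CertCoverM.facts_ok CertCoverM.cover_ok
    (by rw [d1]; exact if_neg (lt_irrefl 8))
    (fun x hx => by
      rw [d1] at hx
      rw [d2 x (List.mem_range.2 hx)]
      have hlt : flipLet x < 8 := by unfold flipLet; split <;> omega
      simp only [ev, if_pos hlt, if_pos hx]
      exact flip_inv a q y u s (by omega))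
    (fun w hw => by
      rw [hev w fun x hx => by
        have := List.all_eq_true.1 (List.all_eq_true.1 d8 w (d3 ▸ hw)) x hx
        rwa [Nat.blt_eq] at this]
      exact hrd w (d3 ▸ hw))
    (fun w hw => by
      rw [d4] at hw
      simp only [List.mem_cons, List.not_mem_nil, or_false] at hw
      rcases hw with rfl | rfl <;> exact subset_closure (by simp [ev, evS]))
    (closure_mono (by
      rw [d5]
      rintro x (rfl | rfl | rfl | rfl)
      exacts [⟨0, by simp, rfl⟩, ⟨2, by simp, rfl⟩, ⟨4, by simp, rfl⟩, ⟨6, by simp, rfl⟩]))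
  rw [d6] at hidx
  exact card_le_of_relIndex (closure_mono (by rintro x (rfl | rfl) <;> simp)) hidx f2

/-- The values of the letters of `H`. -/
def evH (a q y u s : W) : ℕ → W := fun n => if n < 12 then evW (evS a q y u s) (hWord [n]) else 1

theorem hLetters_lt : ∀ n < 12, ∀ x ∈ hWord [n], x < 10 := by decide +kernel

theorem evW_hWord (a q y u s : W) : ∀ {w : List ℕ}, (∀ x ∈ w, x < 12) →
    evW (evH a q y u s) w = evW (evS a q y u s) (hWord w)
  | [], _ => rfl
  | x :: w, h => by
    rw [evW_cons, evW_hWord a q y u s fun z hz => h z (List.mem_cons_of_mem _ hz), evH,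
      if_pos (h x List.mem_cons_self), ← evW_append]
    refine congrArg _ ?_
    simp [hWord]

theorem evH_flip (a q y u s : W) {n : ℕ} (hn : n < 12) :
    evH a q y u s (flipLet n) * evH a q y u s n = 1 := by
  have hlt : flipLet n < 12 := by unfold flipLet; split <;> omega
  rw [evH, evH, if_pos hlt, if_pos hn]
  have key : ∀ n < 12, hWord [flipLet n] = iv (hWord [n]) ∨ hWord [n] = iv (hWord [flipLet n]) := by decide +kernel
  rcases key n hn with e | e
  · rw [e, evW_iv a q y u s (hLetters_lt n hn), inv_mul_cancel]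
  · rw [e, evW_iv a q y u s (hLetters_lt _ hlt), mul_inv_cancel]

/-- The five generators of the stabiliser of `t` in `M`. -/
def cSet (a q y u s : W) : Set W := (fun w => evW (evS a q y u s) w) '' {w | w ∈ hLetters.take 5}

/-- The six generators of `H`. -/
def kSet (a q y u s : W) : Set W := (fun w => evW (evS a q y u s) w) '' {w | w ∈ hLetters}

theorem cSet_subset (a q y u s : W) : cSet a q y u s ⊆ kSet a q y u s :=
  Set.image_mono fun _ hw => List.mem_of_mem_take hw

theorem hRel_index (h : ∀ w ∈ hRels, evW (evS a q y u s) (hWord w) = 1) :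
    (closure (cSet a q y u s)).relIndex (closure (kSet a q y u s)) ≠ 0 ∧
      (closure (cSet a q y u s)).relIndex (closure (kSet a q y u s)) ≤ 5 := by
  obtain ⟨d1, d2, d3, d4, d5, d6, d7⟩ := coverH_data
  have hsub : ∀ n ∈ [0, 1, 2, 3, 4, 5], evH a q y u s (2 * n) = evW (evS a q y u s) (hLetters.getD n []) := by
    intro n hn
    have h1 : ∀ n ∈ [0, 1, 2, 3, 4, 5], 2 * n < 12 ∧ hWord [2 * n] = hLetters.getD n [] := by decide +kernel
    rw [evH, if_pos (h1 n hn).1, (h1 n hn).2]
  have hidx := Cover.relIndex_le (ev := evH a q y u s) (C := CertCoverH.cover) (H := closure (cSet a q y u s))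
    (K := closure (kSet a q y u s)) CertCoverH.enum_valid CertCoverH.facts_ok CertCoverH.cover_ok
    (by rw [d1]; exact if_neg (lt_irrefl 12))
    (fun x hx => by rw [d1] at hx; rw [d2 x (List.mem_range.2 hx)]; exact evH_flip a q y u s hx)
    (fun w hw => by
      rw [d3] at hw
      rw [evW_hWord a q y u s fun x hx => by
        have := List.all_eq_true.1 (List.all_eq_true.1 d7 w hw) x hx
        rwa [Nat.blt_eq] at this]
      exact h w hw)
    (fun w hw => by
      rw [d4] at hw
      have : ∀ w ∈ ([[0], [2], [4], [6], [8]] : List (List ℕ)), ∃ n ∈ [0, 1, 2, 3, 4, 5],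
          w = [2 * n] ∧ hLetters.getD n [] ∈ hLetters.take 5 := by decide +kernel
      obtain ⟨n, hn, rfl, hm⟩ := this w hw
      rw [evW_cons, evW_nil, mul_one, hsub n hn]
      exact subset_closure ⟨_, hm, rfl⟩)
    (closure_mono (by
      rw [d5]
      rintro _ ⟨w, hw, rfl⟩
      have : ∀ w ∈ hLetters, ∃ n ∈ [0, 1, 2, 3, 4, 5],
          2 * n ∈ [0, 2, 4, 6, 8, 10] ∧ hLetters.getD n [] = w := by decide +kernel
      obtain ⟨n, hn, hm, rfl⟩ := this w hw
      exact ⟨2 * n, hm, hsub n hn⟩))
  rw [d6] at hidx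
  exact hidx

/-- The bound for `H`. -/
theorem card_K_le (h : ∀ w ∈ hRels, evW (evS a q y u s) (hWord w) = 1) [Finite (closure (cSet a q y u s))]
    (hC : Nat.card (closure (cSet a q y u s)) ≤ 1536) :
    Finite (closure (kSet a q y u s)) ∧ Nat.card (closure (kSet a q y u s)) ≤ 7680 :=
  card_le_of_relIndex (closure_mono (cSet_subset a q y u s)) (hRel_index h) hC

/-- The bound for the whole group. -/
theorem card_G_le (h : ∀ w ∈ allRels, evW (evS a q y u s) w = 1) [Finite (closure (kSet a q y u s))]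
    (hK : Nat.card (closure (kSet a q y u s)) ≤ 7680) :
    Finite (closure ({a, q, y, u, s} : Set W)) ∧ Nat.card (closure ({a, q, y, u, s} : Set W)) ≤ 44352000 := by
  obtain ⟨d1, d2, d3, d4, d5, d6, d7⟩ := coverG_data
  have hidx := Cover.relIndex_le (ev := evS a q y u s) (C := CertCoverG.cover) (H := closure (kSet a q y u s))
    (K := closure ({a, q, y, u, s} : Set W)) CertCoverG.enum_valid CertCoverG.facts_ok CertCoverG.cover_ok
    (by rw [d1]; rfl)
    (fun x hx => by rw [d1] at hx; rw [d2 x (List.mem_range.2 hx)]; exact flip_inv a q y u s hx)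
    (fun w hw => evW_map_rd a q y u s d7 h w (d3 ▸ hw))
    (fun w hw => subset_closure ⟨w, d4 ▸ hw, rfl⟩)
    (closure_mono (by
      rw [d5]
      rintro x (rfl | rfl | rfl | rfl | rfl)
      exacts [⟨0, by simp, rfl⟩, ⟨2, by simp, rfl⟩, ⟨4, by simp, rfl⟩, ⟨6, by simp, rfl⟩, ⟨8, by simp, rfl⟩]))
  rw [d6] at hidx
  refine card_le_of_relIndex ?_ hidx hK
  rw [closure_le]
  rintro _ ⟨w, hw, rfl⟩
  have hx : ∀ x, evS a q y u s x ∈ closure ({a, q, y, u, s} : Set W) := by
    intro x
    have m : ∀ z ∈ ({a, q, y, u, s} : Set W), z ∈ closure ({a, q, y, u, s} : Set W) := fun z => (subset_closure ·)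
    rcases x with _ | _ | _ | _ | _ | _ | _ | _ | _ | _ | n
    exacts [m a (by simp), inv_mem (m a (by simp)), m q (by simp), inv_mem (m q (by simp)), m y (by simp),
      inv_mem (m y (by simp)), m u (by simp), inv_mem (m u (by simp)), m s (by simp), inv_mem (m s (by simp)),
      one_mem _]
  exact list_prod_mem fun z hz => by obtain ⟨x, -, rfl⟩ := List.mem_map.1 hz; exact hx x

end CfsgLib.HSRecog
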