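import Cfsg.Agent.Lib.HSRecog.Frame
import Mathlib.Tactic.LinearCombination

/-!
# Coordinates on `A`
-/

set_option autoImplicit false
set_option linter.style.haveILetI false
set_option linter.unusedSectionVars false

namespace CfsgLib.HSRecog

open Subgroup

theorem val_add4 : ∀ i j : ZMod 4, (i + j).val % 4 = (i.val + j.val) % 4 := by decide

theorem half4 : ∀ x : ZMod 4, x + x = 0 → x = 0 ∨ x = 2 := by decide

theorem double4 : ∀ x : ZMod 4, x + x = 0 ∨ x + x = 2 := by decide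

theorem half_vec (v : V4) (h : v + v = 0) : ∃ w : V4, v = w + w := by
  obtain ⟨x, y, z⟩ := v
  simp only [Prod.mk_add_mk, Prod.mk_eq_zero] at h
  have k : ∀ x : ZMod 4, x + x = 0 → ∃ w, x = w + w := by decide
  obtain ⟨a, ha⟩ := k x h.1
  obtain ⟨b, hb⟩ := k y h.2.1
  obtain ⟨c, hc⟩ := k z h.2.2
  exact ⟨(a, b, c), by rw [ha, hb, hc]; rfl⟩

theorem double_vec (v : V4) : v + v = 0 ∨ v + v = (2, 0, 0) ∨ v + v = (0, 2, 0) ∨ v + v = (0, 0, 2) ∨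
    v + v = (2, 2, 0) ∨ v + v = (2, 0, 2) ∨ v + v = (0, 2, 2) ∨ v + v = (2, 2, 2) := by
  obtain ⟨x, y, z⟩ := v
  rcases double4 x with hx | hx <;> rcases double4 y with hy | hy <;> rcases double4 z with hz | hz <;>
    simp [hx, hy, hz, Prod.mk_eq_zero]

theorem nsmul_eq (i : ZMod 4) (v : V4) : i.val • v = (i * v.1, i * v.2.1, i * v.2.2) := by
  obtain ⟨p, q, r⟩ := v
  simp [Prod.smul_mk, nsmul_eq_mul, ZMod.natCast_zmod_val]

theorem app_eq (v : V4) (X : M4) : app v X = v.1.val • X.1 + v.2.1.val • X.2.1 + v.2.2.val • X.2.2 := by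
  simp only [nsmul_eq, app, Prod.mk_add_mk]

/-- The matrix of `q` for a candidate cubic. -/
def Lm (n : V4) : M4 := ((0, 1, 0), (0, 0, 1), n)

theorem cubic_cases : ∀ n : V4, mpow (Lm n) 7 = one4 →
    (∀ i ∈ List.range 6, app (2, 0, 0) (mpow (Lm n) (i + 1)) ≠ (2, 0, 0)) → n = (1, 3, 2) ∨ n = (1, 2, 1) := by
  decide +kernel

variable {G : Type*} [Group G] [Finite G] {t a : G} {H R V M A : Subgroup G}

namespace Loc

variable (L : Loc t a H R V M A) {q : G} (hq : q ∈ M) (hq7 : orderOf q = 7)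
include L hq hq7

theorem a1A : q⁻¹ * a * q ∈ A := L.conjA hq L.aA

theorem a2A : q⁻¹ * q⁻¹ * a * q * q ∈ A := by
  have := L.conjA hq (L.a1A hq hq7)
  rwa [show q⁻¹ * (q⁻¹ * a * q) * q = q⁻¹ * q⁻¹ * a * q * q by group] at this

theorem fv_mem (v : V4) : fv a q v ∈ A :=
  mul_mem (mul_mem (pow_mem L.aA _) (pow_mem (L.a1A hq hq7) _)) (pow_mem (L.a2A hq hq7) _)

theorem fv_zero : fv a q 0 = 1 := by simp [fv]

theorem fv_e0 : fv a q (1, 0, 0) = a := by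
  rw [fv, show (1 : ZMod 4).val = 1 from rfl, show (0 : ZMod 4).val = 0 from rfl]; simp

theorem fv_e1 : fv a q (0, 1, 0) = q⁻¹ * a * q := by
  rw [fv, show (1 : ZMod 4).val = 1 from rfl, show (0 : ZMod 4).val = 0 from rfl]; simp

theorem fv_e2 : fv a q (0, 0, 1) = q⁻¹ * q⁻¹ * a * q * q := by
  rw [fv, show (1 : ZMod 4).val = 1 from rfl, show (0 : ZMod 4).val = 0 from rfl]; simp

theorem fv_add (v w : V4) : fv a q (v + w) = fv a q v * fv a q w := by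
  have e1 := L.Aexp _ L.aA
  have e2 := L.Aexp _ (L.a1A hq hq7)
  have e3 := L.Aexp _ (L.a2A hq hq7)
  have hp : ∀ {x : G}, x ^ 4 = 1 → ∀ i j : ZMod 4, x ^ (i + j).val = x ^ i.val * x ^ j.val := by
    intro x hx i j
    rw [← pow_add]
    conv_lhs => rw [← Nat.mod_add_div (i + j).val 4, val_add4 i j, pow_add, pow_mul, hx, one_pow, mul_one]
    conv_rhs => rw [← Nat.mod_add_div (i.val + j.val) 4, pow_add, pow_mul, hx, one_pow, mul_one]
  simp only [fv, Prod.fst_add, Prod.snd_add, hp e1, hp e2, hp e3]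
  set x := a
  set x1 := q⁻¹ * a * q
  set x2 := q⁻¹ * q⁻¹ * a * q * q
  have A1 : x1 ∈ A := L.a1A hq hq7
  have A2 : x2 ∈ A := L.a2A hq hq7
  have c1 : x ^ w.1.val * (x1 ^ v.2.1.val * x2 ^ v.2.2.val) = x1 ^ v.2.1.val * x2 ^ v.2.2.val * x ^ w.1.val :=
    L.Aab _ (pow_mem L.aA _) _ (mul_mem (pow_mem A1 _) (pow_mem A2 _))
  have c2 : x1 ^ w.2.1.val * x2 ^ v.2.2.val = x2 ^ v.2.2.val * x1 ^ w.2.1.val :=
    L.Aab _ (pow_mem A1 _) _ (pow_mem A2 _)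
  calc x ^ v.1.val * x ^ w.1.val * (x1 ^ v.2.1.val * x1 ^ w.2.1.val) * (x2 ^ v.2.2.val * x2 ^ w.2.2.val)
      = x ^ v.1.val * x ^ w.1.val * x1 ^ v.2.1.val * (x1 ^ w.2.1.val * x2 ^ v.2.2.val) * x2 ^ w.2.2.val := by group
    _ = x ^ v.1.val * (x ^ w.1.val * (x1 ^ v.2.1.val * x2 ^ v.2.2.val)) * (x1 ^ w.2.1.val * x2 ^ w.2.2.val) := by
        rw [c2]; group
    _ = _ := by rw [c1]; group

theorem fv_nsmul (v : V4) : ∀ n : ℕ, fv a q (n • v) = fv a q v ^ n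
  | 0 => by rw [zero_smul, pow_zero, L.fv_zero hq hq7]
  | n + 1 => by rw [succ_nsmul, pow_succ, L.fv_add hq hq7, fv_nsmul v n]

theorem fv_two : fv a q (2, 0, 0) = t := by
  rw [show ((2, 0, 0) : V4) = (1, 0, 0) + (1, 0, 0) from by decide, L.fv_add hq hq7, L.fv_e0 hq hq7, L.a2]

theorem fv_ker {v : V4} (hv : fv a q v = 1) : v = 0 := by
  set t1 := q⁻¹ * t * q
  set t2 := q⁻¹ * q⁻¹ * t * q * q
  have h1 : fv a q (0, 2, 0) = t1 := by
    rw [show ((0, 2, 0) : V4) = (0, 1, 0) + (0, 1, 0) from by decide, L.fv_add hq hq7, L.fv_e1 hq hq7]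
    show _ = q⁻¹ * t * q
    rw [← L.a2]; group
  have h2 : fv a q (0, 0, 2) = t2 := by
    rw [show ((0, 0, 2) : V4) = (0, 0, 1) + (0, 0, 1) from by decide, L.fv_add hq hq7, L.fv_e2 hq hq7]
    show _ = q⁻¹ * q⁻¹ * t * q * q
    rw [← L.a2]; group
  have n1 : t1 ≠ t := fun e => L.seven_moves hq hq7 L.tV L.t1 (by
    conv_lhs => rw [← e]
    show q * (q⁻¹ * t * q) = _
    group)
  have hord : orderOf (q * q) = 7 := by rw [← pow_two, orderOf_pow, hq7]; rfl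
  have n2 : t2 ≠ t := fun e => L.seven_moves (mul_mem hq hq) hord L.tV L.t1 (by
    conv_lhs => rw [← e]
    show q * q * (q⁻¹ * q⁻¹ * t * q * q) = _
    group)
  have n3 : t2 ≠ t1 := fun e => n1 (by
    calc t1 = q * (q⁻¹ * q⁻¹ * t * q * q) * q⁻¹ := by show q⁻¹ * t * q = _; group
      _ = q * t1 * q⁻¹ := by rw [← e]
      _ = t := by show q * (q⁻¹ * t * q) * q⁻¹ = t; group)
  have n4 : t2 ≠ t * t1 := fun e => by
    have hord3 : orderOf (q * q * q) = 7 := by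
      rw [show q * q * q = q ^ 3 by rw [pow_succ, pow_two], orderOf_pow, hq7]; rfl
    refine L.seven_moves (mul_mem (mul_mem hq hq) hq) hord3 L.tV L.t1 ?_
    have e3 : (q * q * q)⁻¹ * t * (q * q * q) = t := by
      calc (q * q * q)⁻¹ * t * (q * q * q) = q⁻¹ * t2 * q := by show _ = q⁻¹ * (q⁻¹ * q⁻¹ * t * q * q) * q; group
        _ = q⁻¹ * (t * (q⁻¹ * t * q)) * q := by rw [e]
        _ = t1 * t2 := by
            show _ = q⁻¹ * t * q * (q⁻¹ * q⁻¹ * t * q * q)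
            group
        _ = t1 * (t * t1) := by rw [e]
        _ = t * (t1 * t1) := by
            show q⁻¹ * t * q * (t * (q⁻¹ * t * q)) = t * (q⁻¹ * t * q * (q⁻¹ * t * q))
            rw [← mul_assoc, L.Vab _ (L.conjV hq L.tV) _ L.tV, mul_assoc]
        _ = t := by rw [L.Vexp _ (L.conjV hq L.tV), mul_one]
    conv_lhs => rw [← e3]
    group
  have hinv : ∀ {x y : G}, x * x = 1 → x * y = 1 → y = x := fun {x y} hx hxy => by
    rw [← mul_one y, ← hx, ← mul_assoc]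
    have : y * x = 1 := by
      rw [eq_inv_of_mul_eq_one_right hxy, inv_mul_cancel]
    rw [this, one_mul]
  have key : ∀ u : V4, fv a q (u + u) = 1 → u + u = 0 := by
    intro u hu
    have hT := L.Vexp _ L.tV
    have hT1 := L.Vexp _ (L.conjV hq L.tV)
    rcases double_vec u with e | e | e | e | e | e | e | e <;> rw [e] at hu
    · exact e
    · rw [L.fv_two hq hq7] at hu; exact absurd hu L.t1
    · rw [h1] at hu
      exact absurd (by
        calc t = q * t1 * q⁻¹ := by show _ = q * (q⁻¹ * t * q) * q⁻¹; group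
          _ = 1 := by rw [hu]; group) L.t1
    · rw [h2] at hu
      exact absurd (by
        calc t = q * q * t2 * (q⁻¹ * q⁻¹) := by show _ = q * q * (q⁻¹ * q⁻¹ * t * q * q) * (q⁻¹ * q⁻¹); group
          _ = 1 := by rw [hu]; group) L.t1
    · rw [show ((2, 2, 0) : V4) = (2, 0, 0) + (0, 2, 0) from by decide, L.fv_add hq hq7, L.fv_two hq hq7, h1] at hu
      exact absurd (hinv hT hu) n1
    · rw [show ((2, 0, 2) : V4) = (2, 0, 0) + (0, 0, 2) from by decide, L.fv_add hq hq7, L.fv_two hq hq7, h2] at hu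
      exact absurd (hinv hT hu) n2
    · rw [show ((0, 2, 2) : V4) = (0, 2, 0) + (0, 0, 2) from by decide, L.fv_add hq hq7, h1, h2] at hu
      exact absurd (hinv hT1 hu) n3
    · rw [show ((2, 2, 2) : V4) = (2, 0, 0) + (0, 2, 0) + (0, 0, 2) from by decide, L.fv_add hq hq7,
        L.fv_add hq hq7, L.fv_two hq hq7, h1, h2] at hu
      refine absurd (hinv ?_ hu) n4
      show t * (q⁻¹ * t * q) * (t * (q⁻¹ * t * q)) = 1
      rw [mul_assoc, ← mul_assoc (q⁻¹ * t * q), L.Vab _ (L.conjV hq L.tV) _ L.tV, mul_assoc t (q⁻¹ * t * q),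
        hT1, mul_one, hT]
  have h := key v (by rw [L.fv_add hq hq7, hv, one_mul])
  obtain ⟨w, rfl⟩ := half_vec v h
  exact key w hv

theorem fv_injective : Function.Injective (fv a q) := by
  intro v w e
  have h : fv a q (v - w) = 1 := by
    have h1 := L.fv_add hq hq7 (v - w) w
    rw [sub_add_cancel, e] at h1
    exact mul_eq_right.1 h1.symm
  exact sub_eq_zero.1 (L.fv_ker hq hq7 h)

theorem exists_fv {x : G} (hx : x ∈ A) : ∃ v, fv a q v = x := by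
  let f : V4 → A := fun v => ⟨fv a q v, L.fv_mem hq hq7 v⟩
  have hf : Function.Bijective f := (Nat.bijective_iff_injective_and_card f).2
    ⟨fun v w e => L.fv_injective hq hq7 (congrArg Subtype.val e), by rw [L.cardA]; simp⟩
  obtain ⟨v, hv⟩ := hf.2 ⟨x, hx⟩
  exact ⟨v, congrArg Subtype.val hv⟩

theorem acts_of_basis {x : G} {X : M4} (h0 : x⁻¹ * a * x = fv a q X.1)
    (h1 : x⁻¹ * (q⁻¹ * a * q) * x = fv a q X.2.1)
    (h2 : x⁻¹ * (q⁻¹ * q⁻¹ * a * q * q) * x = fv a q X.2.2) : Acts a q x X := by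
  have hc : ∀ (z : G) (n : ℕ), x⁻¹ * z ^ n * x = (x⁻¹ * z * x) ^ n := fun z n => by
    have := conj_pow (a := x⁻¹) (b := z) (i := n)
    rw [inv_inv] at this
    exact this.symm
  intro v
  rw [app_eq, L.fv_add hq hq7, L.fv_add hq hq7, L.fv_nsmul hq hq7, L.fv_nsmul hq hq7, L.fv_nsmul hq hq7,
    ← h0, ← h1, ← h2, ← hc, ← hc, ← hc]
  show x⁻¹ * (a ^ v.1.val * (q⁻¹ * a * q) ^ v.2.1.val * (q⁻¹ * q⁻¹ * a * q * q) ^ v.2.2.val) * x = _
  group

theorem acts_unique {x : G} {X Y : M4} (hX : Acts a q x X) (hY : Acts a q x Y) : X = Y := by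
  have key : ∀ v, app v X = app v Y := fun v => L.fv_injective hq hq7 ((hX v).symm.trans (hY v))
  obtain ⟨⟨x1, x2, x3⟩, ⟨y1, y2, y3⟩, ⟨z1, z2, z3⟩⟩ := X
  obtain ⟨⟨x1', x2', x3'⟩, ⟨y1', y2', y3'⟩, ⟨z1', z2', z3'⟩⟩ := Y
  have k0 := key (1, 0, 0)
  have k1 := key (0, 1, 0)
  have k2 := key (0, 0, 1)
  simp [app] at k0 k1 k2
  simp [k0, k1, k2]

theorem acts_A {x : G} (hx : x ∈ A) : Acts a q x one4 := fun v => by
  rw [app_one4, mul_assoc, L.Aab _ (L.fv_mem hq hq7 v) _ hx, inv_mul_cancel_left]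

theorem actsQ_of {n : V4} (hn : q⁻¹ * q⁻¹ * q⁻¹ * a * q * q * q = fv a q n) : Acts a q q (Lm n) := by
  refine L.acts_of_basis hq hq7 ?_ ?_ ?_
  · exact (L.fv_e1 hq hq7).symm
  · show _ = fv a q (0, 0, 1)
    rw [L.fv_e2 hq hq7]; group
  · show _ = fv a q n
    rw [← hn]; group

theorem cubic_or : q⁻¹ * q⁻¹ * q⁻¹ * a * q * q * q = fv a q (1, 3, 2) ∨
    q⁻¹ * q⁻¹ * q⁻¹ * a * q * q * q = fv a q (1, 2, 1) := by
  obtain ⟨n, hn⟩ := L.exists_fv hq hq7 (show q⁻¹ * q⁻¹ * q⁻¹ * a * q * q * q ∈ A by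
    have := L.conjA hq (L.a2A hq hq7)
    rwa [show q⁻¹ * (q⁻¹ * q⁻¹ * a * q * q) * q = q⁻¹ * q⁻¹ * q⁻¹ * a * q * q * q by group] at this)
  have hQ := L.actsQ_of hq hq7 hn.symm
  have h7 : mpow (Lm n) 7 = one4 := by
    have := hQ.pow 7
    rw [← hq7, pow_orderOf_eq_one q, hq7] at this
    exact L.acts_unique hq hq7 this (Acts.one a q)
  have hne : ∀ i ∈ List.range 6, app (2, 0, 0) (mpow (Lm n) (i + 1)) ≠ (2, 0, 0) := by
    intro i hi e
    rw [List.mem_range] at hi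
    have h := hQ.pow (i + 1) (2, 0, 0)
    rw [e, L.fv_two hq hq7] at h
    refine L.seven_moves (pow_mem hq (i + 1)) ?_ L.tV L.t1 ?_
    swap
    · conv_lhs => rw [← h]
      group
    rw [orderOf_pow, hq7, Nat.Coprime.gcd_eq_one, Nat.div_one]
    exact ((by norm_num : Nat.Prime 7).coprime_iff_not_dvd.2 fun hd => by
      have := Nat.le_of_dvd (by omega) hd
      omega)
  rcases cubic_cases n h7 hne with rfl | rfl
  · exact Or.inl hn.symm
  · exact Or.inr hn.symm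

omit hq hq7 in
/-- The frame exists. -/
theorem exists_frame : ∃ q y : G, Frame t a q y M A := by
  obtain ⟨q, y, hq, hy, hq7, hy3, hqy, hyt, hya⟩ := L.exists_pair
  have e7 : q ^ 7 = 1 := hq7 ▸ pow_orderOf_eq_one q
  have e3 : y ^ 3 = 1 := hy3 ▸ pow_orderOf_eq_one y
  have q1 : q ≠ 1 := fun e => by rw [e, orderOf_one] at hq7; norm_num at hq7
  have y1 : y ≠ 1 := fun e => by rw [e, orderOf_one] at hy3; norm_num at hy3
  rcases L.cubic_or hq hq7 with hc | hc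
  · exact ⟨q, y, hq, hy, hyt, e7, e3, q1, y1, hqy, hya, hc⟩
  -- otherwise use `q⁻¹`
  refine ⟨q⁻¹, y, inv_mem hq, hy, hyt, by rw [inv_pow, e7, inv_one], e3, inv_ne_one.2 q1, y1, ?_, hya, ?_⟩
  · calc y⁻¹ * q⁻¹ * y = (y⁻¹ * q * y)⁻¹ := by group
      _ = q⁻¹ * q⁻¹ := by rw [hqy, mul_inv_rev]
  have hQ := L.actsQ_of hq hq7 hc
  have key : ∀ i : ℕ, (q ^ i)⁻¹ * a * q ^ i = fv a q (app (1, 0, 0) (mpow (Lm (1, 2, 1)) i)) := fun i => by
    rw [← hQ.pow i (1, 0, 0), L.fv_e0 hq hq7]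
  have e6 : q⁻¹ = q ^ 6 := inv_eq_of_mul_eq_one_right (by rw [← pow_succ', e7])
  have e5 : q⁻¹ * q⁻¹ = q ^ 5 := by
    rw [← mul_inv_rev]
    exact inv_eq_of_mul_eq_one_right (by rw [← pow_two, ← pow_add, e7])
  have e4 : q⁻¹ * q⁻¹ * q⁻¹ = q ^ 4 := by
    rw [← mul_inv_rev, ← mul_inv_rev]
    exact inv_eq_of_mul_eq_one_right (by rw [show q * (q * q) = q ^ 3 by rw [pow_succ', pow_two], ← pow_add, e7])
  show q⁻¹⁻¹ * q⁻¹⁻¹ * q⁻¹⁻¹ * a * q⁻¹ * q⁻¹ * q⁻¹ = a ^ 1 * (q⁻¹⁻¹ * a * q⁻¹) ^ 3 *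
    (q⁻¹⁻¹ * q⁻¹⁻¹ * a * q⁻¹ * q⁻¹) ^ 2
  have k4 := key 4
  have k5 := key 5
  have k6 := key 6
  rw [← e4] at k4
  rw [← e5] at k5
  rw [← e6] at k6
  have l4 : q⁻¹⁻¹ * q⁻¹⁻¹ * q⁻¹⁻¹ * a * q⁻¹ * q⁻¹ * q⁻¹ = fv a q (1, 3, 3) := by
    rw [show q⁻¹⁻¹ * q⁻¹⁻¹ * q⁻¹⁻¹ * a * q⁻¹ * q⁻¹ * q⁻¹ =
      (q⁻¹ * q⁻¹ * q⁻¹)⁻¹ * a * (q⁻¹ * q⁻¹ * q⁻¹) by simp only [mul_inv_rev, inv_inv, mul_assoc], k4]
    exact congrArg (fv a q) (by decide +kernel)
  have l5 : q⁻¹⁻¹ * q⁻¹⁻¹ * a * q⁻¹ * q⁻¹ = fv a q (3, 3, 2) := by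
    rw [show q⁻¹⁻¹ * q⁻¹⁻¹ * a * q⁻¹ * q⁻¹ = (q⁻¹ * q⁻¹)⁻¹ * a * (q⁻¹ * q⁻¹) by simp only [mul_inv_rev, inv_inv, mul_assoc], k5]
    exact congrArg (fv a q) (by decide +kernel)
  have l6 : q⁻¹⁻¹ * a * q⁻¹ = fv a q (2, 3, 1) := by
    rw [k6]
    exact congrArg (fv a q) (by decide +kernel)
  rw [l4, l5, l6, ← L.fv_nsmul hq hq7, ← L.fv_nsmul hq hq7, pow_one]
  conv_rhs => arg 1; arg 1; rw [← L.fv_e0 hq hq7]
  rw [← L.fv_add hq hq7, ← L.fv_add hq hq7]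
  exact congrArg (fv a q) (by decide +kernel)

end Loc

namespace Frame

variable {q y : G} (F : Frame t a q y M A)
include F

theorem orderQ : orderOf q = 7 := by
  haveI : Fact (Nat.Prime 7) := ⟨by norm_num⟩
  exact orderOf_eq_prime F.q7 F.q1

theorem orderY : orderOf y = 3 := by
  haveI : Fact (Nat.Prime 3) := ⟨by norm_num⟩
  exact orderOf_eq_prime F.y3 F.y1

theorem actsQ (L : Loc t a H R V M A) : Acts a q q Qm := L.actsQ_of F.qM F.orderQ F.cubic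

theorem actsY (L : Loc t a H R V M A) : Acts a q y Ym := by
  have hya : y⁻¹ * a * y = a := by rw [mul_assoc, ← F.ay, inv_mul_cancel_left]
  refine L.acts_of_basis F.qM F.orderQ ?_ ?_ ?_
  · show _ = fv a q (1, 0, 0)
    rw [L.fv_e0 F.qM F.orderQ, hya]
  · show _ = fv a q (0, 0, 1)
    rw [L.fv_e2 F.qM F.orderQ]
    calc y⁻¹ * (q⁻¹ * a * q) * y = (y⁻¹ * q * y)⁻¹ * (y⁻¹ * a * y) * (y⁻¹ * q * y) := by group
      _ = _ := by rw [F.qy, hya]; group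
  · have h4 := (F.actsQ L).pow 4 (1, 0, 0)
    rw [L.fv_e0 F.qM F.orderQ] at h4
    show _ = fv a q (2, 3, 3)
    rw [show ((2, 3, 3) : V4) = app (1, 0, 0) (mpow Qm 4) by decide +kernel, ← h4]
    calc y⁻¹ * (q⁻¹ * q⁻¹ * a * q * q) * y =
          (y⁻¹ * q * y)⁻¹ * (y⁻¹ * q * y)⁻¹ * (y⁻¹ * a * y) * (y⁻¹ * q * y) * (y⁻¹ * q * y) := by group
      _ = _ := by
          rw [F.qy, hya, show q ^ 4 = q * q * (q * q) by simp only [pow_succ, pow_zero, one_mul, mul_assoc]]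
          group

end Frame

end CfsgLib.HSRecog
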