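import Cfsg.Agent.Lib.HSRecog.Gens

/-!
# The parameters, and the relation of order three
-/

set_option autoImplicit false
set_option linter.style.haveILetI false
set_option linter.unusedSectionVars false

namespace CfsgLib.HSRecog

open Subgroup

local notation "S5" => Equiv.Perm (Fin 5)

/-- The possible values of `(q u)³`. -/
def cList : List V4 := [(0, 0, 0), (0, 2, 2), (2, 1, 1), (2, 3, 3)]

/-- The possible values of `(q y u)⁴`. -/
def eList : List V4 := [(0, 0, 0), (0, 0, 2), (2, 0, 1), (2, 0, 3)]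

set_option synthInstance.maxSize 2000 in
theorem fix_qu : ∀ v : V4, app v (mm Qm Um) = v → v ∈ cList := by decide +kernel

set_option synthInstance.maxSize 2000 in
theorem fix_qyu : ∀ v : V4, app v (mm (mm Qm Ym) Um) = v → v ∈ eList := by decide +kernel

theorem qu_order : modTwoEq (mpow (mm Qm Um) 3) one4 ∧ modTwoEq (mpow (mm (mm Qm Ym) Um) 4) one4 := by
  decide +kernel

variable {G : Type*} [Group G] [Finite G] {t a q y u s : G} {H R V M A : Subgroup G}

namespace Gens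

variable (g : Gens t a q y u s H R V M A)
include g

theorem uM : u ∈ M := g.loc.RM g.uR

theorem pow_mem_fixed {m : G} {X : M4} (hX : Acts a q m X) (n : ℕ) (hmod : modTwoEq (mpow X n) one4) :
    ∃ v, m ^ n = fv a q v ∧ app v X = v := by
  obtain ⟨v, hv⟩ := g.loc.exists_fv g.frame.qM g.frame.orderQ (g.frame.mem_A_of_mod_two g.loc (hX.pow n) hmod)
  refine ⟨v, hv.symm, g.loc.fv_injective g.frame.qM g.frame.orderQ ?_⟩
  rw [← hX v, hv, mul_assoc, ← pow_succ, pow_succ', inv_mul_cancel_left]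

theorem exists_c : ∃ c ∈ cList, (q * u) ^ 3 = fv a q c := by
  obtain ⟨v, hv, hfix⟩ := g.pow_mem_fixed ((g.frame.actsQ g.loc).mul g.actsU) 3 qu_order.1
  exact ⟨v, fix_qu v hfix, hv⟩

theorem exists_e : ∃ e ∈ eList, (q * y * u) ^ 4 = fv a q e := by
  obtain ⟨v, hv, hfix⟩ :=
    g.pow_mem_fixed (((g.frame.actsQ g.loc).mul (g.frame.actsY g.loc)).mul g.actsU) 4 qu_order.2
  exact ⟨v, fix_qyu v hfix, hv⟩

variable {φ : H →* S5}

theorem exists_shift (hφ : Function.Surjective φ) (hφR : ∀ h : H, φ h = 1 ↔ (h : G) ∈ R) :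
    ∃ s', Gens t a q y u s' H R V M A ∧
      ((s' * (q * u * q⁻¹)) ^ 3 = 1 ∨ (s' * (a * q * a * u * q⁻¹)) ^ 3 = 1) := by
  have L := g.loc
  have F := g.frame
  have hq := F.qM
  have h7 := F.orderQ
  obtain ⟨wM, wH, wa⟩ := L.w_facts F g.uR g.actsU
  set w := q * u * q⁻¹ with hw
  set α := a * (q * a * q⁻¹) with hα
  have hqa : q * a * q⁻¹ = fv a q (1, 2, 1) := by
    have h6 := (F.actsQ L).pow 6 (1, 0, 0)
    rw [L.fv_e0 hq h7, show app (1, 0, 0) (mpow Qm 6) = ((1, 2, 1) : V4) by decide +kernel,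
      show q ^ 6 = q⁻¹ from (inv_eq_of_mul_eq_one_right (by rw [← pow_succ', F.q7])).symm, inv_inv] at h6
    exact h6
  have hαf : α = fv a q (2, 2, 1) := by
    rw [hα, hqa]
    conv_lhs => arg 1; rw [← L.fv_e0 hq h7]
    rw [← L.fv_add hq h7]
    exact congrArg (fv a q) (by decide +kernel)
  have αA : α ∈ A := hαf ▸ L.fv_mem hq h7 _
  have αH : α ∈ H := by
    refine (L.memH α).2 (L.Aab α αA t L.tA)
  set k := a * q * a * u * q⁻¹ with hk
  have hkw : k = α * w := by rw [hk, hα, hw]; group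
  have ww : w * w = 1 := by
    calc w * w = q * (u * u) * q⁻¹ := by rw [hw]; group
      _ = 1 := by rw [g.uu]; group
  have kH : k ∈ H := hkw ▸ mul_mem αH wH
  have kM : k ∈ M := hkw ▸ mul_mem (L.AM αA) wM
  have ka : k⁻¹ * a * k = a ^ 3 := by
    rw [hkw]
    calc (α * w)⁻¹ * a * (α * w) = w⁻¹ * (α⁻¹ * (a * α)) * w := by group
      _ = a ^ 3 := by rw [L.Aab a L.aA α αA, inv_mul_cancel_left, wa]
  have hwinv : w⁻¹ = w := inv_eq_of_mul_eq_one_right ww
  have hkk : k * k ∈ R := by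
    refine L.VR ((F.mem_V L).2 ⟨(1, 0, 1), ?_⟩)
    have hW := L.wH F g.actsU (2, 2, 1)
    rw [← hαf, ← hw, hwinv] at hW
    calc k * k = α * (w * α * w) := by rw [hkw]; group
      _ = _ := by
        rw [hW, hαf, ← L.fv_add hq h7]
        exact congrArg (fv a q) (by decide +kernel)
  have hαR : α ∉ R := by
    intro h
    have e : α * α = fv a q (0, 0, 2) := by
      rw [hαf, ← L.fv_add hq h7]; exact congrArg (fv a q) (by decide +kernel)
    rcases L.sqR α h with k' | k'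
    · rw [e, ← L.fv_zero hq h7] at k'
      exact absurd (L.fv_injective hq h7 k') (by decide)
    · rw [e, ← L.fv_two hq h7] at k'
      exact absurd (L.fv_injective hq h7 k') (by decide)
  have hαα : α * α ∈ R := by
    refine L.VR ((F.mem_V L).2 ⟨(2, 2, 1), ?_⟩)
    rw [hαf, ← L.fv_add hq h7]
  set W : H := ⟨w, wH⟩ with hWd
  set K : H := ⟨k, kH⟩ with hKd
  set X : H := ⟨s, g.sH⟩ with hXd
  have pW : φ W * φ W = 1 := by rw [← map_mul, hφR]; show w * w ∈ R; rw [ww]; exact one_mem R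
  have pK : φ K * φ K = 1 := by rw [← map_mul, hφR]; exact hkk
  have pX : φ X * φ X = 1 := by
    rw [← map_mul, hφR]
    show s * s ∈ R
    rcases g.ss with e | e <;> rw [e]
    · exact one_mem R
    · exact L.tR
  have sW := sign_of_inv L hφ hφR (h := W) wa
  have sK := sign_of_inv L hφ hφR (h := K) ka
  have sX := sign_of_inv L hφ hφR (h := X) g.sa
  have cWK : φ K * φ W = φ W * φ K := by
    have e : φ K * φ W = φ ⟨α, αH⟩ := by
      rw [← map_mul]
      refine congrArg φ (Subtype.ext ?_)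
      show k * w = α
      rw [hkw, mul_assoc, ww, mul_one]
    have h2 : φ K * φ W * (φ K * φ W) = 1 := by rw [e, ← map_mul, hφR]; exact hαα
    calc φ K * φ W = (φ K * φ W)⁻¹ := eq_inv_of_mul_eq_one_left h2
      _ = (φ W)⁻¹ * (φ K)⁻¹ := mul_inv_rev _ _
      _ = φ W * φ K := by rw [inv_eq_of_mul_eq_one_right pW, inv_eq_of_mul_eq_one_right pK]
  have neWK : φ W ≠ φ K := by
    intro e
    rw [phi_eq L hφR] at e
    apply hαR
    have e' : w⁻¹ * k ∈ R := e
    have := L.Rconj w wH _ e'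
    rwa [hkw, show w * (w⁻¹ * (α * w)) * w⁻¹ = α by group] at this
  have neX : ∀ Z : H, (Z : G) ∈ M → φ X ≠ φ Z := fun Z hZ e => by
    rw [phi_eq L hφR] at e
    apply g.sM
    have e' : s⁻¹ * (Z : G) ∈ R := e
    rw [show s = (Z : G) * (s⁻¹ * Z)⁻¹ by group]
    exact mul_mem hZ (inv_mem (L.RM e'))
  have hnc : φ W * φ X ≠ φ X * φ W ∨ φ K * φ X ≠ φ X * φ K := by
    by_contra h
    push Not at h
    rcases five_swaps (φ X) pX sX (φ W) pW sW h.1 (φ K) pK sK h.2 cWK with e | e | e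
    · exact neX W wM e
    · exact neX K kM e
    · exact neWK e
  suffices main : ∀ Z : H, φ Z * φ Z = 1 → Equiv.Perm.sign (φ Z) = -1 → (Z : G)⁻¹ * a * Z = a ^ 3 →
      φ Z * φ X ≠ φ X * φ Z → ∃ s', Gens t a q y u s' H R V M A ∧ (s' * (Z : G)) ^ 3 = 1 by
    rcases hnc with h | h
    · obtain ⟨s', h1, h2⟩ := main W pW sW wa h
      exact ⟨s', h1, Or.inl h2⟩
    · obtain ⟨s', h1, h2⟩ := main K pK sK ka h
      exact ⟨s', h1, Or.inr h2⟩
  intro Z pZ sZ za hne
  obtain ⟨h3, h1⟩ := five_swaps_mul (φ X) pX sX (φ Z) pZ sZ hne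
  set p := s * (Z : G) with hp
  have hphi : φ (X * Z) ^ 3 = 1 ∧ φ (X * Z) ≠ 1 := by rw [map_mul]; exact ⟨h3, h1⟩
  have hrR : p ^ 3 ∈ R := by
    have := (hφR ((X * Z) ^ 3)).1 (by rw [map_pow, hphi.1])
    simpa using this
  set r := p ^ 3 with hr
  have r4 : r ^ 4 = 1 := by
    rw [show 4 = 2 * 2 from rfl, pow_mul, pow_two r]
    rcases L.sqR r hrR with e | e <;> rw [e]
    · exact one_pow 2
    · rw [pow_two, L.t2]
  have hrc : r ∈ zpowers a := by
    obtain ⟨hp3, hp1⟩ := phiY L F hφR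
    have hz4 : φ ((X * Z) ^ 4) = φ (X * Z) := by rw [map_pow, pow_succ, hphi.1, one_mul]
    obtain ⟨c, hc⟩ := five_three_conj _ hp3 hp1 _ hphi.1 hphi.2
    obtain ⟨h, rfl⟩ := hφ c
    have he : φ (h⁻¹ * ⟨y, F.yH L⟩ * h) = φ ((X * Z) ^ 4) := by rw [map_mul, map_mul, map_inv, hz4]; exact hc
    have hpow := conj_pow (a := (h : G)⁻¹) (b := y) (i := 3)
    rw [inv_inv, F.y3] at hpow
    obtain ⟨x, hx, hx'⟩ := conj_coset L hφR (z := h⁻¹ * ⟨y, F.yH L⟩ * h) (z' := (X * Z) ^ 4)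
      (by push_cast; rw [hpow]; group)
      (by rw [he, hz4]; exact hphi.2)
      (by push_cast; rw [← pow_mul, show 4 * 3 = 3 * 4 from rfl, pow_mul]; exact r4)
      he
    push_cast at hx'
    set hh := (h : G) * x with hhd
    have hhH : hh ∈ H := mul_mem h.2 (L.RH hx)
    have hp4 : hh⁻¹ * y * hh = p ^ 4 := by
      rw [hp, ← hx', hhd]; group
    have hcomm : r * p ^ 4 = p ^ 4 * r := pow_mul_comm p 3 4
    have hR' : hh * r * hh⁻¹ ∈ R := L.Rconj hh hhH r hrR
    have := F.cent_y_R L hR' (by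
      calc hh * r * hh⁻¹ * y = hh * (r * (hh⁻¹ * y * hh)) * hh⁻¹ := by group
        _ = hh * (hh⁻¹ * y * hh * r) * hh⁻¹ := by rw [hp4, hcomm]
        _ = y * (hh * r * hh⁻¹) := by group)
    have h2 := L.cyConj (inv_mem hhH) this
    rwa [inv_inv, show hh⁻¹ * (hh * r * hh⁻¹) * hh = r by group] at h2
  set b := r ^ 3 with hb
  have hbR : b ∈ R := pow_mem hrR 3
  have hbc : b ∈ zpowers a := pow_mem hrc 3
  have hs2 : ∀ x ∈ zpowers a, s⁻¹ * x * s = x ^ 3 := by
    intro x hx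
    obtain ⟨n, -, rfl⟩ := L.cy_cases hx
    have := conj_pow (a := s⁻¹) (b := a) (i := n)
    rw [inv_inv] at this
    rw [← this, g.sa, ← pow_mul, ← pow_mul, mul_comm]
  have hz2 : ∀ x ∈ zpowers a, (Z : G)⁻¹ * x * Z = x ^ 3 := by
    intro x hx
    obtain ⟨n, -, rfl⟩ := L.cy_cases hx
    have := conj_pow (a := (Z : G)⁻¹) (b := a) (i := n)
    rw [inv_inv] at this
    rw [← this, za, ← pow_mul, ← pow_mul, mul_comm]
  have hb4 : b ^ 4 = 1 := by rw [hb, ← pow_mul, mul_comm, pow_mul, r4, one_pow]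
  have hbb : (s * b) * (s * b) = s * s := by
    calc (s * b) * (s * b) = s * s * ((s⁻¹ * b * s) * b) := by group
      _ = s * s := by rw [hs2 b hbc, ← pow_succ, hb4, mul_one]
  have hbm : ∀ x ∈ R, b * x = x * b := ((L.centR b).2 hbc).2
  have hby : b * y = y * b := by
    obtain ⟨n, -, e⟩ := L.cy_cases hbc
    rw [e]
    exact (Commute.pow_left (show Commute a y from F.ay.symm) n).eq
  have hvR : (q⁻¹ * a * q) * (q⁻¹ * a * q) ∈ R := by
    rw [show (q⁻¹ * a * q) * (q⁻¹ * a * q) = q⁻¹ * (a * a) * q by group, L.a2]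
    exact L.VR (L.conjV hq L.tV)
  refine ⟨s * b, ⟨L, F, mul_mem g.sH (L.RH hbR), ?_, ?_, ?_, ?_, ?_, ?_, g.uR, g.uA, g.uu, g.uprod, g.actsU⟩, ?_⟩
  · intro h
    apply g.sM
    rw [show s = s * b * b⁻¹ by group]
    exact mul_mem h (inv_mem (L.RM hbR))
  · calc s * b * y = s * (b * y) := by group
      _ = y * (s * b) := by rw [hby, ← mul_assoc, g.sy, mul_assoc]
  · calc (s * b)⁻¹ * a * (s * b) = b⁻¹ * (s⁻¹ * a * s) * b := by group
      _ = a ^ 3 := by rw [g.sa, mul_assoc, ← hbm _ (pow_mem L.aR 3), inv_mul_cancel_left]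
  · rw [hbb]; exact g.ss
  · calc (s * b)⁻¹ * ((q⁻¹ * a * q) * (q⁻¹ * a * q)) * (s * b) =
          b⁻¹ * (s⁻¹ * ((q⁻¹ * a * q) * (q⁻¹ * a * q)) * s) * b := by group
      _ = u := by rw [g.sv, mul_assoc, ← hbm _ g.uR, inv_mul_cancel_left]
  · calc (s * b)⁻¹ * u * (s * b) = b⁻¹ * (s⁻¹ * u * s) * b := by group
      _ = _ := by rw [g.su, mul_assoc, ← hbm _ hvR, inv_mul_cancel_left]
  · have hsz : ∀ x ∈ zpowers a, x * p = p * x := by
      intro x hx
      have h1 := hs2 x hx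
      have h2 := hz2 _ (pow_mem hx 3)
      have e : p⁻¹ * x * p = x := by
        calc p⁻¹ * x * p = (Z : G)⁻¹ * (s⁻¹ * x * s) * Z := by rw [hp]; group
          _ = x := by
            rw [h1, h2, ← pow_mul]
            obtain ⟨n, -, rfl⟩ := L.cy_cases hx
            rw [← pow_mul, show n * (3 * 3) = 4 * (2 * n) + n by ring, pow_add, pow_mul, L.a4, one_pow, one_mul]
      conv_rhs => rw [← e]
      group
    have hbz : b * (Z : G) = (Z : G) * b ^ 3 := by
      rw [← hz2 b hbc]; group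
    calc (s * b * (Z : G)) ^ 3 = (p * b ^ 3) ^ 3 := by rw [mul_assoc, hbz, ← mul_assoc]
      _ = r * (b ^ 3) ^ 3 := (Commute.mul_pow (hsz _ (pow_mem hbc 3)).symm 3)
      _ = 1 := by
        rw [hb, ← pow_mul, ← pow_mul, ← pow_succ', show 3 * 3 * 3 + 1 = 4 * 7 from rfl, pow_mul, r4, one_pow]

end Gens

end CfsgLib.HSRecog
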