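import Cfsg.Agent.Lib.HSRecog.Cert.M02
import Cfsg.Agent.Lib.HSRecog.Cert.M03
import Cfsg.Agent.Lib.HSRecog.Cert.M10
import Cfsg.Agent.Lib.HSRecog.Cert.M11
import Cfsg.Agent.Lib.HSRecog.Cert.M20
import Cfsg.Agent.Lib.HSRecog.Cert.M21
import Cfsg.Agent.Lib.HSRecog.Cert.M22
import Cfsg.Agent.Lib.HSRecog.Cert.M23
import Cfsg.Agent.Lib.HSRecog.Cert.M30
import Cfsg.Agent.Lib.HSRecog.Cert.M31
import Cfsg.Agent.Lib.HSRecog.Cert.M32
import Cfsg.Agent.Lib.HSRecog.Cert.M33
import Cfsg.Agent.Lib.HSRecog.Cert.WT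
import Cfsg.Agent.Lib.HSRecog.Cert.W00
import Cfsg.Agent.Lib.HSRecog.Cert.W01
import Cfsg.Agent.Lib.HSRecog.Cert.W12
import Cfsg.Agent.Lib.HSRecog.Cert.W13
import Cfsg.Agent.Lib.HSRecog.Cert.K01
import Cfsg.Agent.Lib.HSRecog.Cert.K12
import Cfsg.Agent.Lib.HSRecog.Cert.K13
import Cfsg.Agent.Lib.HSRecog.Cert.KT00
import Cfsg.Agent.Lib.HSRecog.Cert.KT01
import Cfsg.Agent.Lib.HSRecog.Cert.KT12
import Cfsg.Agent.Lib.HSRecog.Cert.KT13
import Cfsg.Agent.Lib.HSRecog.Params
import Cfsg.Agent.Lib.HSRecog.Rels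

/-!
# Elimination of the parameters
-/

set_option autoImplicit false
set_option linter.style.haveILetI false
set_option linter.unusedSectionVars false
set_option synthInstance.maxSize 50000
set_option maxRecDepth 4000

namespace CfsgLib.HSRecog

open Subgroup CfsgLib.Presented

/-- A certificate matches a list of relators and of subgroup words. -/
def Matches (d : Enum) (spec : List (List ℕ)) (subs : List (List ℕ)) : Prop :=
  d.A.eps = 10 ∧ (∀ x ∈ List.range 10, d.A.invl x = flipLet x) ∧ d.rels = spec.map rd ∧ d.subs = subs ∧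
    (spec.all fun w => w.all fun x => Nat.blt x 10) = true

variable {G : Type*} [Group G] {t a q y u s : G}

theorem interp_of_matches {d : Enum} {spec subs : List (List ℕ)} (h : Matches d spec subs)
    (hspec : ∀ w ∈ spec, evW (evS a q y u s) w = 1) {K : Subgroup G}
    (hsubs : ∀ w ∈ subs, evW (evS a q y u s) w ∈ K) :
    d.Interp (evS a q y u s) ((1 : G) : G ⧸ K) := by
  obtain ⟨h1, h2, h3, h4, h5⟩ := h
  refine ⟨by rw [h1]; rfl, fun x hx => ?_, fun w hw => ?_, fun w hw => ?_⟩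
  · rw [h1] at hx
    rw [h2 x (List.mem_range.2 hx), evS_flip a q y u s hx, inv_mul_cancel]
  · exact evW_map_rd a q y u s h5 hspec w (h3 ▸ hw)
  · rw [MulAction.Quotient.smul_coe, smul_eq_mul, mul_one, QuotientGroup.eq, mul_one]
    exact inv_mem (hsubs w (h4 ▸ hw))

theorem mem_of_fix {K : Subgroup G} {x : G} (h : x • ((1 : G) : G ⧸ K) = ((1 : G) : G ⧸ K)) : x ∈ K := by
  rw [MulAction.Quotient.smul_coe, smul_eq_mul, mul_one, QuotientGroup.eq, mul_one] at h
  exact inv_mem_iff.1 h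

theorem qy_matrices : ∀ i < 7, ∀ j < 3, mm (mpow Qm i) (mpow Ym j) = one4 → i = 0 ∧ j = 0 := by decide +kernel

theorem m_matches : Matches CertM02.enum (baseRels ++ [cRel (0, 0, 0), eRel (2, 0, 1)]) [[2], [4]] ∧
    Matches CertM03.enum (baseRels ++ [cRel (0, 0, 0), eRel (2, 0, 3)]) [[2], [4]] ∧
    Matches CertM10.enum (baseRels ++ [cRel (0, 2, 2), eRel (0, 0, 0)]) [[2], [4]] ∧
    Matches CertM11.enum (baseRels ++ [cRel (0, 2, 2), eRel (0, 0, 2)]) [[2], [4]] ∧
    Matches CertM20.enum (baseRels ++ [cRel (2, 1, 1), eRel (0, 0, 0)]) [[2], [4]] ∧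
    Matches CertM21.enum (baseRels ++ [cRel (2, 1, 1), eRel (0, 0, 2)]) [[2], [4]] ∧
    Matches CertM22.enum (baseRels ++ [cRel (2, 1, 1), eRel (2, 0, 1)]) [[2], [4]] ∧
    Matches CertM23.enum (baseRels ++ [cRel (2, 1, 1), eRel (2, 0, 3)]) [[2], [4]] ∧
    Matches CertM30.enum (baseRels ++ [cRel (2, 3, 3), eRel (0, 0, 0)]) [[2], [4]] ∧
    Matches CertM31.enum (baseRels ++ [cRel (2, 3, 3), eRel (0, 0, 2)]) [[2], [4]] ∧
    Matches CertM32.enum (baseRels ++ [cRel (2, 3, 3), eRel (2, 0, 1)]) [[2], [4]] ∧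
    Matches CertM33.enum (baseRels ++ [cRel (2, 3, 3), eRel (2, 0, 3)]) [[2], [4]] := by
  unfold Matches; decide +kernel

theorem w_matches : Matches CertWT.enum (baseRels ++ sRels true ++ [zRel ww]) [[0], [2], [4], [6]] ∧
    Matches CertW00.enum (baseRels ++ [cRel (0, 0, 0), eRel (0, 0, 0)] ++ sRels false ++ [zRel ww]) [[0], [2], [4], [6]] ∧
    Matches CertW01.enum (baseRels ++ [cRel (0, 0, 0), eRel (0, 0, 2)] ++ sRels false ++ [zRel ww]) [[0], [2], [4], [6]] ∧
    Matches CertW12.enum (baseRels ++ [cRel (0, 2, 2), eRel (2, 0, 1)] ++ sRels false ++ [zRel ww]) [[0], [2], [4], [6]] ∧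
    Matches CertW13.enum (baseRels ++ [cRel (0, 2, 2), eRel (2, 0, 3)] ++ sRels false ++ [zRel ww]) [[0], [2], [4], [6]] := by
  unfold Matches; decide +kernel

theorem k_matches : Matches CertK01.enum (baseRels ++ [cRel (0, 0, 0), eRel (0, 0, 2)] ++ sRels false ++ [zRel kw]) [[0], [2], [4], [6]] ∧
    Matches CertK12.enum (baseRels ++ [cRel (0, 2, 2), eRel (2, 0, 1)] ++ sRels false ++ [zRel kw]) [[0], [2], [4], [6]] ∧
    Matches CertK13.enum (baseRels ++ [cRel (0, 2, 2), eRel (2, 0, 3)] ++ sRels false ++ [zRel kw]) [[0], [2], [4], [6]] ∧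
    Matches CertKT00.enum (baseRels ++ [cRel (0, 0, 0), eRel (0, 0, 0)] ++ sRels true ++ [zRel kw]) [[0], [2], [4], [6]] ∧
    Matches CertKT01.enum (baseRels ++ [cRel (0, 0, 0), eRel (0, 0, 2)] ++ sRels true ++ [zRel kw]) [[0], [2], [4], [6]] ∧
    Matches CertKT12.enum (baseRels ++ [cRel (0, 2, 2), eRel (2, 0, 1)] ++ sRels true ++ [zRel kw]) [[0], [2], [4], [6]] ∧
    Matches CertKT13.enum (baseRels ++ [cRel (0, 2, 2), eRel (2, 0, 3)] ++ sRels true ++ [zRel kw]) [[0], [2], [4], [6]] := by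
  unfold Matches; decide +kernel

namespace Gens

variable [Finite G] {H R V M A : Subgroup G} (g : Gens t a q y u s H R V M A)
include g

theorem ev_vecWord (v : V4) : evW (evS a q y u s) (vecWord v) = fv a q v := by
  simp only [vecWord, evW_append, evW_flatten_replicate, fv]
  refine congrArg₂ (· * ·) (congrArg₂ (· * ·) ?_ ?_) ?_
  · rw [evW, List.map_replicate, List.prod_replicate]; rfl
  · congr 1; simp [a1w, evS, mul_assoc]
  · congr 1; simp [a2w, evS, mul_assoc]

theorem ev_iv {w : List ℕ} (h : (w.all fun x => Nat.blt x 10) = true) :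
    evW (evS a q y u s) (iv w) = (evW (evS a q y u s) w)⁻¹ :=
  evW_iv a q y u s fun k hk => by have := List.all_eq_true.1 h k hk; rwa [Nat.blt_eq] at this

theorem base_rels : ∀ w ∈ baseRels, evW (evS a q y u s) w = 1 := by
  have F := g.frame
  have L := g.loc
  have hu : ∀ e, u * fv a q e * u = fv a q (app e Um) := fun e => by
    rw [← g.actsU e, inv_eq_of_mul_eq_one_right g.uu]
  have h1 : u * (q⁻¹ * a * q) * u = fv a q (0, 3, 0) := by
    rw [← L.fv_e1 F.qM F.orderQ, hu]; exact congrArg (fv a q) (by decide +kernel)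
  have h2 : u * (q⁻¹ * q⁻¹ * a * q * q) * u = fv a q (3, 2, 3) := by
    rw [← L.fv_e2 F.qM F.orderQ, hu]; exact congrArg (fv a q) (by decide +kernel)
  have h0 : u * a * u = a := by rw [mul_assoc, L.a_comm g.uR, ← mul_assoc, g.uu, one_mul]
  have c1 := L.Aab a L.aA _ (L.a1A F.qM F.orderQ)
  have c2 := L.Aab a L.aA _ (L.a2A F.qM F.orderQ)
  intro w hw
  simp only [baseRels, List.mem_cons, List.not_mem_nil, or_false] at hw
  rcases hw with rfl | rfl | rfl | rfl | rfl | rfl | rfl | rfl | rfl | rfl | rfl | rfl | rfl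
  · have := L.a4; simpa [pow_succ, evS, mul_assoc] using this
  · have := F.q7; simpa [pow_succ, evS, mul_assoc] using this
  · have := F.y3; simpa [pow_succ, evS, mul_assoc] using this
  · simp only [evW_cons, evW_nil, evS, List.getD_cons_zero, List.getD_cons_succ, mul_one]
    calc y⁻¹ * (q * (y * (q⁻¹ * q⁻¹))) = y⁻¹ * q * y * (q⁻¹ * q⁻¹) := by group
      _ = 1 := by rw [F.qy]; group
  · rw [evW_append, evW_append, evW_append, g.ev_iv (by decide), g.ev_iv (by decide)]
    simp only [a1w, evW_cons, evW_nil, evS, List.getD_cons_zero, List.getD_cons_succ, mul_one]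
    calc a⁻¹ * (q⁻¹ * (a * q))⁻¹ * a * (q⁻¹ * (a * q)) = a⁻¹ * (q⁻¹ * a * q)⁻¹ * (a * (q⁻¹ * a * q)) := by group
      _ = 1 := by rw [c1]; group
  · rw [evW_append, evW_append, evW_append, g.ev_iv (by decide), g.ev_iv (by decide)]
    simp only [a2w, evW_cons, evW_nil, evS, List.getD_cons_zero, List.getD_cons_succ, mul_one]
    calc a⁻¹ * (q⁻¹ * (q⁻¹ * (a * (q * q))))⁻¹ * a * (q⁻¹ * (q⁻¹ * (a * (q * q)))) =
        a⁻¹ * (q⁻¹ * q⁻¹ * a * q * q)⁻¹ * (a * (q⁻¹ * q⁻¹ * a * q * q)) := by group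
      _ = 1 := by rw [c2]; group
  · simp only [iv, flipLet, List.map_cons, List.map_nil, List.reverse_cons, List.reverse_nil, List.nil_append,
      List.cons_append, evW_cons, evW_nil, evS, mul_one]
    calc a⁻¹ * (y⁻¹ * (a * y)) = a⁻¹ * y⁻¹ * (a * y) := by group
      _ = 1 := by rw [← F.ay]; group
  · rw [evW_append, g.ev_iv (by decide), g.ev_vecWord, inv_mul_eq_one, ← F.cubic]
    simp [evS, mul_assoc]
  · have := g.uu; simpa [evS] using this
  · simp only [evW_cons, evW_nil, evS, List.getD_cons_zero, List.getD_cons_succ, mul_one]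
    rw [← mul_assoc, ← mul_assoc, h0, mul_inv_cancel]
  · rw [evW_append, evW_append, evW_append, g.ev_iv (by decide), g.ev_vecWord, mul_inv_eq_one, ← h1]
    simp [a1w, evS, mul_assoc]
  · rw [evW_append, evW_append, evW_append, g.ev_iv (by decide), g.ev_vecWord, mul_inv_eq_one, ← h2]
    simp [a2w, evS, mul_assoc]
  · simp only [evW_cons, evW_nil, evS, List.getD_cons_zero, List.getD_cons_succ, mul_one]
    have h := g.uprod
    have e : y⁻¹ = y * y := inv_eq_of_mul_eq_one_right (by rw [← mul_assoc]; simpa [pow_succ] using F.y3)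
    calc u * (y⁻¹ * (u * (y * (y * (u * y⁻¹))))) = u * (y⁻¹ * u * (y * y) * u * y⁻¹) := by group
      _ = u * (y⁻¹ * u * y⁻¹ * u * y⁻¹) := by rw [← e]
      _ = u * (y⁻¹ * u * (y * y) * u * y⁻¹) := by rw [← e]
      _ = u * (y⁻¹ * u * y) * (y * u * y⁻¹) := by group
      _ = 1 := h

theorem c_rel {c : V4} (h : (q * u) ^ 3 = fv a q c) (hc : ((vecWord c).all fun x => Nat.blt x 10) = true) :
    evW (evS a q y u s) (cRel c) = 1 := by
  rw [cRel, evW_append, g.ev_iv hc, g.ev_vecWord, mul_inv_eq_one, ← h]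
  simp [evS, pow_succ, mul_assoc]

theorem e_rel {e : V4} (h : (q * y * u) ^ 4 = fv a q e) (hc : ((vecWord e).all fun x => Nat.blt x 10) = true) :
    evW (evS a q y u s) (eRel e) = 1 := by
  rw [eRel, evW_append, g.ev_iv hc, g.ev_vecWord, mul_inv_eq_one, ← h]
  simp [evS, pow_succ, mul_assoc]

theorem s_rels (st : Bool) (hst : s * s = if st then t else 1) :
    ∀ w ∈ sRels st, evW (evS a q y u s) w = 1 := by
  intro w hw
  simp only [sRels, List.mem_cons, List.not_mem_nil, or_false] at hw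
  rcases hw with rfl | rfl | rfl | rfl | rfl
  · cases st
    · simpa [evS] using hst
    · simp only [↓reduceIte] at hst
      rw [if_pos rfl, evW_append, g.ev_iv (by decide), mul_inv_eq_one]
      simpa [evS, g.loc.a2] using hst
  · simp only [evW_cons, evW_nil, evS, List.getD_cons_zero, List.getD_cons_succ, mul_one]
    have h4 := g.loc.a4
    calc s⁻¹ * (a * (s * a)) = s⁻¹ * a * s * a := by group
      _ = 1 := by rw [g.sa, ← pow_succ, h4]
  · simp only [a1w, List.cons_append, List.nil_append, evW_cons, evW_nil, evS, List.getD_cons_zero,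
      List.getD_cons_succ, mul_one]
    calc s⁻¹ * (q⁻¹ * (a * (q * (q⁻¹ * (a * (q * (s * u⁻¹))))))) =
        s⁻¹ * ((q⁻¹ * a * q) * (q⁻¹ * a * q)) * s * u⁻¹ := by group
      _ = 1 := by rw [g.sv, mul_inv_cancel]
  · rw [evW_append, g.ev_iv (by decide), mul_inv_eq_one]
    simp only [a1w, List.cons_append, List.nil_append, evW_cons, evW_nil, evS, List.getD_cons_zero,
      List.getD_cons_succ, mul_one]
    rw [← mul_assoc, g.su]
    group
  · simp only [evW_cons, evW_nil, evS, List.getD_cons_zero, List.getD_cons_succ, mul_one]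
    calc s⁻¹ * (y * (s * y⁻¹)) = s⁻¹ * (y * s) * y⁻¹ := by group
      _ = 1 := by rw [← g.sy]; group

theorem z_rel {x : List ℕ} (h : (s * evW (evS a q y u s) x) ^ 3 = 1) :
    evW (evS a q y u s) (zRel x) = 1 := by
  rw [zRel, evW_append, evW_append, evW_append, ← h, pow_succ, pow_two]
  simp [evS]

theorem gens_mem : ∀ w ∈ [[0], [2], [4], [6]], evW (evS a q y u s) w ∈ M := by
  simp only [List.mem_cons, List.not_mem_nil, or_false]
  rintro w (rfl | rfl | rfl | rfl) <;> simp [evS, g.loc.AM g.loc.aA, g.frame.qM, g.frame.yM, g.uM]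

theorem not_loop_s {d : Enum} {spec : List (List ℕ)} (h : Matches d spec [[0], [2], [4], [6]])
    (hspec : ∀ w ∈ spec, evW (evS a q y u s) w = 1)
    (hloop : ∀ K : Subgroup G, d.Interp (evS a q y u s) ((1 : G) : G ⧸ K) →
      evW (evS a q y u s) [8] • ((1 : G) : G ⧸ K) = ((1 : G) : G ⧸ K)) : False := by
  have := mem_of_fix (hloop M (interp_of_matches h hspec g.gens_mem))
  exact g.sM (by simpa [evS] using this)

theorem not_loop_t {d : Enum} {spec : List (List ℕ)} (h : Matches d spec [[2], [4]])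
    (hspec : ∀ w ∈ spec, evW (evS a q y u s) w = 1)
    (hloop : ∀ K : Subgroup G, d.Interp (evS a q y u s) ((1 : G) : G ⧸ K) →
      evW (evS a q y u s) [0, 0] • ((1 : G) : G ⧸ K) = ((1 : G) : G ⧸ K)) : False := by
  have F := g.frame
  have L := g.loc
  let K : Subgroup G := closure {q, y}
  have := mem_of_fix (K := K) (hloop K (interp_of_matches h hspec (K := K) (by
    simp only [List.mem_cons, List.not_mem_nil, or_false]
    rintro w (rfl | rfl)
    · exact subset_closure (by simp [evS])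
    · exact subset_closure (by simp [evS]))))
  have htK : t ∈ K := by simpa [evS, L.a2] using this
  have hyq : ∀ i : ℕ, y * q ^ i = q ^ (4 * i) * y := fun i => by
    have h4 : y * q * y⁻¹ = q ^ 4 := by
      have h2 : q * q = y⁻¹ * q * y := F.qy.symm
      calc y * q * y⁻¹ = y * q ^ 8 * y⁻¹ := by rw [show 8 = 7 + 1 from rfl, pow_succ, F.q7, one_mul]
        _ = y * (q * q) ^ 4 * y⁻¹ := by rw [← pow_two, ← pow_mul]
        _ = q ^ 4 := by
          rw [h2, show y⁻¹ * q * y = y⁻¹ * q * (y⁻¹)⁻¹ by rw [inv_inv], conj_pow]; group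
    rw [pow_mul, ← h4, conj_pow]
    group
  have hform : ∀ x ∈ K, ∃ i j : ℕ, x = q ^ i * y ^ j := by
    intro x hx
    induction hx using closure_induction_left with
    | one => exact ⟨0, 0, by simp⟩
    | mul_left x hx z _ ih =>
      obtain ⟨i, j, rfl⟩ := ih
      rcases hx with rfl | rfl
      · exact ⟨i + 1, j, by rw [pow_succ', mul_assoc]⟩
      · exact ⟨4 * i, j + 1, by rw [pow_succ', ← mul_assoc, hyq, mul_assoc]⟩
    | inv_mul_cancel x hx z _ ih =>
      obtain ⟨i, j, rfl⟩ := ih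
      rcases hx with rfl | rfl
      · refine ⟨i + 6, j, ?_⟩
        rw [show x⁻¹ = x ^ 6 from inv_eq_of_mul_eq_one_right (by rw [← pow_succ', F.q7]), ← mul_assoc, ← pow_add,
          add_comm]
      · refine ⟨4 * (4 * i), j + 2, ?_⟩
        rw [show x⁻¹ = x * x from inv_eq_of_mul_eq_one_right (by rw [← mul_assoc]; simpa [pow_succ] using F.y3),
          mul_assoc x x, ← mul_assoc x (q ^ i), hyq, ← mul_assoc x, ← mul_assoc x, hyq, pow_add, pow_two]
        calc q ^ (4 * (4 * i)) * x * x * x ^ j = q ^ (4 * (4 * i)) * (x * x * x ^ j) := by group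
          _ = _ := by rw [← pow_two, ← pow_add, pow_two x, ← pow_two, ← pow_add, add_comm]
  obtain ⟨i, j, e⟩ := hform t htK
  rw [← Nat.mod_add_div i 7, ← Nat.mod_add_div j 3, pow_add, pow_add, pow_mul, pow_mul, F.q7, F.y3, one_pow,
    one_pow, mul_one, mul_one] at e
  have hA := L.acts_unique F.qM F.orderQ
    (e ▸ (((F.actsQ L).pow (i % 7)).mul ((F.actsY L).pow (j % 3)))) (L.acts_A F.qM F.orderQ L.tA)
  obtain ⟨hi, hj⟩ := qy_matrices _ (Nat.mod_lt _ (by norm_num)) _ (Nat.mod_lt _ (by norm_num)) hA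
  rw [hi, hj, pow_zero, pow_zero, one_mul] at e
  exact L.t1 e

theorem stage (hz : (s * (q * u * q⁻¹)) ^ 3 = 1 ∨ (s * (a * q * a * u * q⁻¹)) ^ 3 = 1) :
    s * s = 1 ∧ (q * u) ^ 3 = 1 ∧ (q * y * u) ^ 4 = 1 ∧ (s * (a * q * a * u * q⁻¹)) ^ 3 = 1 := by
  obtain ⟨c, hc, hc'⟩ := g.exists_c
  obtain ⟨e, he, he'⟩ := g.exists_e
  have hlc : ∀ c ∈ cList ++ eList, ((vecWord c).all fun x => Nat.blt x 10) = true := by decide +kernel
  have hC := g.c_rel hc' (hlc c (List.mem_append_left _ hc))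
  have hE := g.e_rel he' (hlc e (List.mem_append_right _ he))
  have hM : ∀ w ∈ baseRels ++ [cRel c, eRel e], evW (evS a q y u s) w = 1 := by
    intro w hw
    simp only [List.mem_append, List.mem_cons, List.not_mem_nil, or_false] at hw
    rcases hw with h | rfl | rfl
    · exact g.base_rels w h
    · exact hC
    · exact hE
  have hS : ∀ (st : Bool) (x : List ℕ), s * s = (if st then t else 1) →
      (s * evW (evS a q y u s) x) ^ 3 = 1 →
      ∀ w ∈ baseRels ++ [cRel c, eRel e] ++ sRels st ++ [zRel x], evW (evS a q y u s) w = 1 := by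
    intro st x hst hx w hw
    simp only [List.mem_append, List.mem_singleton] at hw
    rcases hw with (h | h) | rfl
    · exact hM w (List.mem_append.2 h)
    · exact g.s_rels st hst w h
    · exact g.z_rel hx
  have ek : evW (evS a q y u s) kw = a * q * a * u * q⁻¹ := by simp [kw, evS, mul_assoc]
  have ew : evW (evS a q y u s) ww = q * u * q⁻¹ := by simp [ww, evS, mul_assoc]
  -- the combinations incompatible inside `M`
  have hsurv : (c = (0, 0, 0) ∧ (e = (0, 0, 0) ∨ e = (0, 0, 2))) ∨ (c = (0, 2, 2) ∧ (e = (2, 0, 1) ∨ e = (2, 0, 3))) := by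
    simp only [cList, eList, List.mem_cons, List.not_mem_nil, or_false] at hc he
    rcases hc with rfl | rfl | rfl | rfl <;> rcases he with rfl | rfl | rfl | rfl
    · exact Or.inl ⟨rfl, Or.inl rfl⟩
    · exact Or.inl ⟨rfl, Or.inr rfl⟩
    · exact (g.not_loop_t m_matches.1 hM fun _ hI => CertM02.loop0 hI).elim
    · exact (g.not_loop_t m_matches.2.1 hM fun _ hI => CertM03.loop0 hI).elim
    · exact (g.not_loop_t m_matches.2.2.1 hM fun _ hI => CertM10.loop0 hI).elim
    · exact (g.not_loop_t m_matches.2.2.2.1 hM fun _ hI => CertM11.loop0 hI).elim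
    · exact Or.inr ⟨rfl, Or.inl rfl⟩
    · exact Or.inr ⟨rfl, Or.inr rfl⟩
    · exact (g.not_loop_t m_matches.2.2.2.2.1 hM fun _ hI => CertM20.loop0 hI).elim
    · exact (g.not_loop_t m_matches.2.2.2.2.2.1 hM fun _ hI => CertM21.loop0 hI).elim
    · exact (g.not_loop_t m_matches.2.2.2.2.2.2.1 hM fun _ hI => CertM22.loop0 hI).elim
    · exact (g.not_loop_t m_matches.2.2.2.2.2.2.2.1 hM fun _ hI => CertM23.loop0 hI).elim
    · exact (g.not_loop_t m_matches.2.2.2.2.2.2.2.2.1 hM fun _ hI => CertM30.loop0 hI).elim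
    · exact (g.not_loop_t m_matches.2.2.2.2.2.2.2.2.2.1 hM fun _ hI => CertM31.loop0 hI).elim
    · exact (g.not_loop_t m_matches.2.2.2.2.2.2.2.2.2.2.1 hM fun _ hI => CertM32.loop0 hI).elim
    · exact (g.not_loop_t m_matches.2.2.2.2.2.2.2.2.2.2.2 hM fun _ hI => CertM33.loop0 hI).elim
  rcases hz with hz | hz
  · exfalso
    rw [← ew] at hz
    rcases g.ss with hs | hs
    · have hS' := hS false ww (by simpa using hs) hz
      rcases hsurv with ⟨rfl, rfl | rfl⟩ | ⟨rfl, rfl | rfl⟩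
      · exact g.not_loop_s w_matches.2.1 hS' fun _ hI => CertW00.loop0 hI
      · exact g.not_loop_s w_matches.2.2.1 hS' fun _ hI => CertW01.loop0 hI
      · exact g.not_loop_s w_matches.2.2.2.1 hS' fun _ hI => CertW12.loop0 hI
      · exact g.not_loop_s w_matches.2.2.2.2 hS' fun _ hI => CertW13.loop0 hI
    · refine g.not_loop_s w_matches.1 ?_ fun _ hI => CertWT.loop0 hI
      intro w hw
      refine hS true ww (by simpa using hs) hz w ?_
      simp only [List.mem_append, List.mem_singleton] at hw ⊢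
      tauto
  · refine (?_ : s * s = 1 ∧ (q * u) ^ 3 = 1 ∧ (q * y * u) ^ 4 = 1 ∧ _)
    have hz' := hz
    rw [← ek] at hz
    rcases g.ss with hs | hs
    · have hS' := hS false kw (by simpa using hs) hz
      rcases hsurv with ⟨rfl, rfl | rfl⟩ | ⟨rfl, rfl | rfl⟩
      · have h0 : fv a q ((0, 0, 0) : V4) = 1 := g.loc.fv_zero g.frame.qM g.frame.orderQ
        rw [h0] at hc' he'
        exact ⟨hs, hc', he', hz'⟩
      · exact (g.not_loop_s k_matches.1 hS' fun _ hI => CertK01.loop0 hI).elim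
      · exact (g.not_loop_s k_matches.2.1 hS' fun _ hI => CertK12.loop0 hI).elim
      · exact (g.not_loop_s k_matches.2.2.1 hS' fun _ hI => CertK13.loop0 hI).elim
    · have hS' := hS true kw (by simpa using hs) hz
      rcases hsurv with ⟨rfl, rfl | rfl⟩ | ⟨rfl, rfl | rfl⟩
      · exact (g.not_loop_s k_matches.2.2.2.1 hS' fun _ hI => CertKT00.loop0 hI).elim
      · exact (g.not_loop_s k_matches.2.2.2.2.1 hS' fun _ hI => CertKT01.loop0 hI).elim
      · exact (g.not_loop_s k_matches.2.2.2.2.2.1 hS' fun _ hI => CertKT12.loop0 hI).elim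
      · exact (g.not_loop_s k_matches.2.2.2.2.2.2 hS' fun _ hI => CertKT13.loop0 hI).elim

end Gens

end CfsgLib.HSRecog
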