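import Mathlib.GroupTheory.Perm.Sign
import Mathlib.Data.Fintype.Perm

/-!
# Facts about `S₅`
-/

set_option autoImplicit false

namespace CfsgLib.HSRecog

open Equiv.Perm

local notation "S5" => Equiv.Perm (Fin 5)

theorem five_cent : ∀ p : S5, p ^ 3 = 1 → p ≠ 1 →
    ∃ x : S5, x * x = 1 ∧ x ≠ 1 ∧ x * p = p * x ∧ sign x = -1 := by decide +kernel

theorem five_cent_unique : ∀ p : S5, p ^ 3 = 1 → p ≠ 1 → ∀ x : S5, x * x = 1 → x ≠ 1 → x * p = p * x →
    ∀ z : S5, z * z = 1 → z ≠ 1 → z * p = p * z → x = z := by decide +kernel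

theorem five_swaps : ∀ x : S5, x * x = 1 → sign x = -1 → ∀ z : S5, z * z = 1 → sign z = -1 → z * x = x * z →
    ∀ r : S5, r * r = 1 → sign r = -1 → r * x = x * r → r * z = z * r → x = z ∨ x = r ∨ z = r := by
  decide +kernel

theorem five_swaps_mul : ∀ x : S5, x * x = 1 → sign x = -1 → ∀ z : S5, z * z = 1 → sign z = -1 →
    z * x ≠ x * z → (x * z) ^ 3 = 1 ∧ x * z ≠ 1 := by decide +kernel

theorem five_three_conj : ∀ p : S5, p ^ 3 = 1 → p ≠ 1 → ∀ r : S5, r ^ 3 = 1 → r ≠ 1 →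
    ∃ h : S5, h⁻¹ * p * h = r := by decide +kernel

theorem five_swap_conj : ∀ x : S5, x * x = 1 → sign x = -1 → ∀ z : S5, z * z = 1 → sign z = -1 →
    ∃ h : S5, h * x * h⁻¹ = z := by decide +kernel

theorem five_square : ∀ p : S5, sign p = 1 → ∃ z : S5, z * z = p := by decide +kernel

theorem sign_cases (p : S5) : sign p = 1 ∨ sign p = -1 := Int.units_eq_one_or _

end CfsgLib.HSRecog
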