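import Mathlib.Data.ZMod.Basic
import Cfsg.Agent.Lib.Presented.Word

/-!
# Linear algebra over `ZMod 4` in rank three, and the letters used to recognise HS

The letters `0, …, 9` are `a, a⁻¹, q, q⁻¹, y, y⁻¹, u, u⁻¹, s, s⁻¹`.
-/

set_option autoImplicit false

namespace CfsgLib.HSRecog

open CfsgLib.Presented

/-- Vectors of length three over `ZMod 4`. -/
abbrev V4 : Type := ZMod 4 × ZMod 4 × ZMod 4

/-- A matrix, by its rows. -/
abbrev M4 : Type := V4 × V4 × V4

/-- A row vector times a matrix. -/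
def app (v : V4) (X : M4) : V4 :=
  (v.1 * X.1.1 + v.2.1 * X.2.1.1 + v.2.2 * X.2.2.1,
    v.1 * X.1.2.1 + v.2.1 * X.2.1.2.1 + v.2.2 * X.2.2.2.1,
    v.1 * X.1.2.2 + v.2.1 * X.2.1.2.2 + v.2.2 * X.2.2.2.2)

/-- The product of two matrices. -/
def mm (X Y : M4) : M4 := (app X.1 Y, app X.2.1 Y, app X.2.2 Y)

/-- The identity matrix. -/
def one4 : M4 := ((1, 0, 0), (0, 1, 0), (0, 0, 1))

/-- Powers of a matrix. -/
def mpow (X : M4) : ℕ → M4
  | 0 => one4
  | n + 1 => mm (mpow X n) X

/-- The action of `q`. -/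
def Qm : M4 := ((0, 1, 0), (0, 0, 1), (1, 3, 2))

/-- The action of `y`. -/
def Ym : M4 := ((1, 0, 0), (0, 0, 1), (2, 3, 3))

/-- The action of `u`. -/
def Um : M4 := ((1, 0, 0), (0, 3, 0), (3, 2, 3))

/-- The matrices of the letters of `M`. -/
def letMat : ℕ → M4 := fun n =>
  [one4, one4, Qm, mpow Qm 6, Ym, mpow Ym 2, Um, Um].getD n one4

/-- The matrix of a word in the letters of `M`. -/
def wMat (w : List ℕ) : M4 := w.foldl (fun X x => mm X (letMat x)) one4

variable {W : Type*} [Group W]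

/-- The values of the letters. -/
def evS (a q y u s : W) : ℕ → W := fun n => [a, a⁻¹, q, q⁻¹, y, y⁻¹, u, u⁻¹, s, s⁻¹].getD n 1

theorem evS_map {W' : Type*} [Group W'] (φ : W →* W') (a q y u s : W) (n : ℕ) :
    φ (evS a q y u s n) = evS (φ a) (φ q) (φ y) (φ u) (φ s) n := by
  rcases n with _ | _ | _ | _ | _ | _ | _ | _ | _ | _ | n <;> simp [evS]

/-- The inverse letter. -/
def flipLet (k : ℕ) : ℕ := if k % 2 = 0 then k + 1 else k - 1

/-- The inverse word. -/
def iv (w : List ℕ) : List ℕ := (w.map flipLet).reverse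

theorem evS_flip (a q y u s : W) {k : ℕ} (hk : k < 10) :
    evS a q y u s (flipLet k) = (evS a q y u s k)⁻¹ := by
  rcases k with _ | _ | _ | _ | _ | _ | _ | _ | _ | _ | n <;>
    first | omega | simp [evS, flipLet]

theorem evW_iv (a q y u s : W) : ∀ {w : List ℕ}, (∀ k ∈ w, k < 10) →
    evW (evS a q y u s) (iv w) = (evW (evS a q y u s) w)⁻¹
  | [], _ => by simp [iv]
  | x :: xs, h => by
    have ih : evW (evS a q y u s) (iv xs) = _ := evW_iv a q y u s fun k hk => h k (List.mem_cons_of_mem _ hk)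
    simp only [iv] at ih ⊢
    rw [List.map_cons, List.reverse_cons, evW_append, ih, evW_cons, evW_nil, mul_one,
      evS_flip a q y u s (h x List.mem_cons_self), evW_cons, mul_inv_rev]

/-- The word of `a₁ = q⁻¹ a q`. -/
def a1w : List ℕ := [3, 0, 2]

/-- The word of `a₂ = q⁻² a q²`. -/
def a2w : List ℕ := [3, 3, 0, 2, 2]

/-- The word of a vector. -/
def vecWord (e : V4) : List ℕ :=
  List.replicate e.1.val 0 ++ (List.replicate e.2.1.val a1w).flatten ++ (List.replicate e.2.2.val a2w).flatten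

end CfsgLib.HSRecog
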