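import Cfsg.Agent.Lib.HSRecog.Local
import Cfsg.Agent.Lib.HSRecog.Lin
import Mathlib.GroupTheory.Perm.Cycle.Type
import Mathlib.Tactic.Ring

/-!
# The generators `a`, `q`, `y` of `M`
-/

set_option autoImplicit false
set_option linter.style.haveILetI false

namespace CfsgLib.HSRecog

open Subgroup

variable {G : Type*} [Group G]

/-- The point of `A` with given coordinates with respect to `a, q⁻¹ a q, q⁻² a q²`. -/
def fv (a q : G) (v : V4) : G :=
  a ^ v.1.val * (q⁻¹ * a * q) ^ v.2.1.val * (q⁻¹ * q⁻¹ * a * q * q) ^ v.2.2.val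

/-- `x` acts on the coordinates by the matrix `X`. -/
def Acts (a q x : G) (X : M4) : Prop := ∀ v, x⁻¹ * fv a q v * x = fv a q (app v X)

theorem app_one4 (v : V4) : app v one4 = v := by
  obtain ⟨i, j, k⟩ := v
  simp [app, one4]

theorem app_mm (v : V4) (X Y : M4) : app (app v X) Y = app v (mm X Y) := by
  simp only [app, mm, Prod.mk.injEq]
  exact ⟨by ring, by ring, by ring⟩

theorem Acts.mul {a q x y : G} {X Y : M4} (hx : Acts a q x X) (hy : Acts a q y Y) :
    Acts a q (x * y) (mm X Y) := fun v => by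
  rw [← app_mm, ← hy, ← hx]
  group

theorem Acts.one (a q : G) : Acts a q 1 one4 := fun v => by rw [app_one4]; group

theorem Acts.pow {a q x : G} {X : M4} (hx : Acts a q x X) : ∀ n : ℕ, Acts a q (x ^ n) (mpow X n)
  | 0 => by rw [pow_zero]; exact Acts.one a q
  | n + 1 => by rw [pow_succ]; exact (hx.pow n).mul hx

/-- The generators of `M` so far. -/
structure Frame (t a q y : G) (M A : Subgroup G) : Prop where
  qM : q ∈ M
  yM : y ∈ M
  yt : y * t = t * y
  q7 : q ^ 7 = 1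
  y3 : y ^ 3 = 1
  q1 : q ≠ 1
  y1 : y ≠ 1
  qy : y⁻¹ * q * y = q * q
  ay : y * a = a * y
  cubic : q⁻¹ * q⁻¹ * q⁻¹ * a * q * q * q = fv a q (1, 3, 2)

namespace Loc

variable {t a : G} {H R V M A : Subgroup G} (L : Loc t a H R V M A)
include L

theorem aR : a ∈ R := ((L.centR a).2 (mem_zpowers a)).1

theorem a_comm {r : G} (hr : r ∈ R) : a * r = r * a := ((L.centR a).2 (mem_zpowers a)).2 r hr

theorem tR : t ∈ R := L.a2 ▸ mul_mem L.aR L.aR

theorem aH : a ∈ H := L.RH L.aR

theorem a4 : a ^ 4 = 1 := by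
  rw [show 4 = 2 * 2 from rfl, pow_mul, pow_two a, L.a2, pow_two, L.t2]

theorem card_zpowers_a [Finite G] : Nat.card (zpowers a) = 4 := by
  rw [Nat.card_zpowers]
  have h1 : orderOf a ∣ 4 := orderOf_dvd_of_pow_eq_one L.a4
  have h2 : ¬ orderOf a ∣ 2 := fun h => L.t1 (by
    rw [← L.a2, ← pow_two]; exact orderOf_dvd_iff_pow_eq_one.1 h)
  have h3 := Nat.le_of_dvd (by norm_num) h1
  interval_cases h : orderOf a <;> simp_all

theorem ab_bound [Finite G] (B : Subgroup G) (hB : B ≤ R) (hab : ∀ x ∈ B, ∀ y ∈ B, x * y = y * x)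
    (ha : a ∈ B) : Nat.card B ≤ 16 := by
  by_contra hlt
  push Not at hlt
  have hdvd : Nat.card B ∣ 64 := L.cardR ▸ card_dvd_of_le hB
  have h4 := L.card_zpowers_a
  by_cases hBR : B = R
  · have : R ≤ zpowers a := fun r hr => (L.centR r).1 ⟨hr, fun r' hr' => hab r (hBR.symm ▸ hr) r' (hBR.symm ▸ hr')⟩
    have := Subgroup.card_le_of_le this
    rw [L.cardR, h4] at this
    omega
  obtain ⟨x, hxR, hxB⟩ : ∃ x ∈ R, x ∉ B := by
    by_contra h
    push Not at h
    exact hBR (le_antisymm hB h)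
  have h32 : Nat.card B = 32 := by
    have h64 : Nat.card B ≠ 64 := fun e => hBR (Subgroup.eq_of_le_of_card_ge hB (by rw [e, L.cardR]))
    obtain ⟨k, hk, hk'⟩ := (Nat.dvd_prime_pow Nat.prime_two).1 (show Nat.card B ∣ 2 ^ 6 by simpa using hdvd)
    interval_cases k <;> simp_all
  -- the centraliser of `x` in `B` is central in `R`
  let C : Subgroup G := B ⊓ centralizer {x}
  have hC : C ≤ zpowers a := by
    intro b hb
    refine (L.centR b).1 ⟨hB hb.1, fun r hr => ?_⟩
    have hbx : b * x = x * b := (mem_centralizer_singleton_iff.1 hb.2)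
    let D : Subgroup G := centralizer {b} ⊓ R
    have hle : B ≤ D := fun y hy => ⟨mem_centralizer_singleton_iff.2 (hab y hy b hb.1), hB hy⟩
    have hD : D = R := by
      refine Subgroup.eq_of_le_of_card_ge inf_le_right ?_
      have h1 : Nat.card D ∣ 64 := L.cardR ▸ card_dvd_of_le inf_le_right
      have h2 : 32 ∣ Nat.card D := h32 ▸ card_dvd_of_le hle
      have h3 : Nat.card D ≠ 32 := fun e => hxB (Subgroup.eq_of_le_of_card_ge hle (by rw [e, h32]) ▸
        ⟨mem_centralizer_singleton_iff.2 hbx.symm, hxR⟩)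
      obtain ⟨k, hk⟩ := h2
      have := Nat.le_of_dvd (by norm_num) h1
      rw [L.cardR]
      have hpos : 0 < Nat.card D := Nat.card_pos
      rcases k with _ | _ | _ | k <;> omega
    exact (mem_centralizer_singleton_iff.1 (hD.symm ▸ hr : r ∈ D).1).symm
  -- it has index at most two in `B`
  have h2 : Nat.card B ≤ 2 * Nat.card C := by
    classical
    let f : B → ↥(zpowers t) := fun b => ⟨b.1 * x * b.1⁻¹ * x⁻¹, by
      rcases L.commR b (hB b.2) x hxR with k | k <;> rw [k]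
      · exact one_mem _
      · exact mem_zpowers t⟩
    have hker : ∀ b b' : B, f b = f b' → b.1⁻¹ * b'.1 ∈ C := by
      intro b b' e
      refine Subgroup.mem_inf.2 ⟨mul_mem (inv_mem b.2) b'.2, mem_centralizer_singleton_iff.2 ?_⟩
      have e' : b.1 * x * b.1⁻¹ * x⁻¹ = b'.1 * x * b'.1⁻¹ * x⁻¹ := congrArg Subtype.val e
      have e'' : b.1 * x * b.1⁻¹ = b'.1 * x * b'.1⁻¹ := mul_right_cancel e'
      calc b.1⁻¹ * b'.1 * x = b.1⁻¹ * (b'.1 * x * b'.1⁻¹) * b'.1 := by group
        _ = x * (b.1⁻¹ * b'.1) := by rw [← e'']; group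
    let g : B → ↥(zpowers t) × C := fun b => (f b, ⟨(Classical.choose (⟨b, rfl⟩ : ∃ b' : B, f b' = f b)).1⁻¹ * b.1,
      hker _ _ (Classical.choose_spec (⟨b, rfl⟩ : ∃ b' : B, f b' = f b))⟩)
    have hg : Function.Injective g := by
      intro b b' e
      have e1 : f b = f b' := congrArg Prod.fst e
      have e2 : (Classical.choose (⟨b, rfl⟩ : ∃ c : B, f c = f b)).1⁻¹ * b.1 =
          (Classical.choose (⟨b', rfl⟩ : ∃ c : B, f c = f b')).1⁻¹ * b'.1 :=
        congrArg Subtype.val (congrArg Prod.snd e)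
      have e3 : ∀ v w : ↥(zpowers t), v = w → ∀ hv : ∃ c : B, f c = v, ∀ hw : ∃ c : B, f c = w,
          Classical.choose hv = Classical.choose hw := by rintro v w rfl hv hw; rfl
      rw [e3 _ _ e1 ⟨b, rfl⟩ ⟨b', rfl⟩] at e2
      exact Subtype.ext (mul_left_cancel e2)
    have := Nat.card_le_card_of_injective g hg
    rw [Nat.card_prod] at this
    refine this.trans (Nat.mul_le_mul_right _ ?_)
    rw [Nat.card_zpowers]
    exact Nat.le_of_dvd (by norm_num) (orderOf_dvd_of_pow_eq_one (by rw [pow_two, L.t2]))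
  have := Subgroup.card_le_of_le hC
  omega

theorem tV [Finite G] : t ∈ V := by
  by_contra htV
  -- otherwise `V` and `t` generate an elementary abelian group of order sixteen
  have hVC : ∀ x ∈ V, ∀ y ∈ zpowers a, x * y = y * x := fun x hx y hy =>
    (((L.centR y).2 hy).2 x (L.VR hx)).symm
  have h := card_sup_of_comm hVC
  have hinf : V ⊓ zpowers a = ⊥ := by
    classical
    rw [eq_bot_iff]
    intro x hxx
    obtain ⟨hx, hxa⟩ := Subgroup.mem_inf.1 hxx
    rw [mem_bot]
    rw [mem_zpowers_iff_mem_range_orderOf, ← Nat.card_zpowers, L.card_zpowers_a] at hxa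
    obtain ⟨n, hn, rfl⟩ := Finset.mem_image.1 hxa
    rw [Finset.mem_range] at hn
    have hsq := L.Vexp _ hx
    interval_cases n
    · simp
    · rw [pow_one, L.a2] at hsq
      exact absurd hsq L.t1
    · rw [pow_two, L.a2] at hx
      exact absurd hx htV
    · rw [← pow_add, show 3 + 3 = 4 + 2 from rfl, pow_add, L.a4, one_mul, pow_two, L.a2] at hsq
      exact absurd hsq L.t1
  rw [hinf, card_bot, mul_one, L.cardV, L.card_zpowers_a] at h
  have := L.ab_bound (V ⊔ zpowers a) (sup_le L.VR (zpowers_le.2 L.aR)) (by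
    have hle : V ⊔ zpowers a ≤ centralizer ((V : Set G) ∪ (zpowers a : Subgroup G)) := by
      refine sup_le (fun v hv => mem_centralizer_iff.2 ?_) (fun v hv => mem_centralizer_iff.2 ?_)
      · rintro z (hz | hz)
        · exact L.Vab z hz v hv
        · exact (hVC v hv z hz).symm
      · rintro z (hz | hz)
        · exact hVC z hz v hv
        · exact ((L.centR v).2 hv).2 z (((L.centR z).2 hz).1) |>.symm
    intro x hx y hy
    have h1 := mem_centralizer_iff.1 (hle hy)
    have hx' : x ∈ centralizer ({y} : Set G) := by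
      refine (sup_le (fun v hv => ?_) (fun v hv => ?_) : V ⊔ zpowers a ≤ centralizer {y}) hx
      · exact mem_centralizer_singleton_iff.2 (h1 v (Or.inl hv))
      · exact mem_centralizer_singleton_iff.2 (h1 v (Or.inr hv))
    exact mem_centralizer_singleton_iff.1 hx') (mem_sup_right (mem_zpowers a))
  omega

theorem RM [Finite G] : R ≤ M := by
  have key : ∀ r ∈ R, ∀ x ∈ V, r * x * r⁻¹ ∈ V := by
    intro r hr x hx
    have e : r * x * r⁻¹ = r * x * r⁻¹ * x⁻¹ * x := by group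
    rw [e]
    refine mul_mem ?_ hx
    rcases L.commR r hr x (L.VR hx) with k | k <;> rw [k]
    · exact one_mem _
    · exact L.tV
  intro r hr
  refine (L.memM r).2 fun x => ⟨key r hr x, fun hx => ?_⟩
  have e : x = r⁻¹ * (r * x * r⁻¹) * (r⁻¹)⁻¹ := by group
  rw [e]
  exact key _ (inv_mem hr) _ hx

theorem A_commV {g x : G} (hg : g ∈ A) (hx : x ∈ V) : g * x = x * g := L.Aab g hg x (L.VA hx)

theorem centV [Finite G] {g : G} (hg : ∀ x ∈ V, g * x = x * g) : g ∈ A := by
  let C : Subgroup G := centralizer (V : Set G)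
  have hCM : C ≤ M := by
    intro c hc
    refine (L.memM c).2 fun x => ⟨fun hx => ?_, fun hx => ?_⟩
    · rwa [← mem_centralizer_iff.1 hc x hx, mul_inv_cancel_right]
    · have h1 := mem_centralizer_iff.1 hc _ hx
      have e : x = c * x * c⁻¹ := by
        calc x = c⁻¹ * (c * x * c⁻¹ * c) := by group
          _ = c⁻¹ * (c * (c * x * c⁻¹)) := by rw [h1]
          _ = _ := by group
      rwa [e]
  have hA : A ≤ C := fun z hz => mem_centralizer_iff.2 fun x hx => (L.A_commV hz hx).symm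
  have hnorm : ∀ m ∈ M, ∀ n ∈ C, m * n * m⁻¹ ∈ C := by
    intro m hm n hn
    refine mem_centralizer_iff.2 fun x hx => ?_
    have hx' : m⁻¹ * x * m ∈ V := by
      have := ((L.memM m⁻¹).1 (inv_mem hm) x).1 hx
      rwa [inv_inv] at this
    have := mem_centralizer_iff.1 hn _ hx'
    calc x * (m * n * m⁻¹) = m * (m⁻¹ * x * m * n) * m⁻¹ := by group
      _ = m * n * m⁻¹ * x := by rw [this]; group
  rcases L.simple C hA hCM hnorm with h | h
  · rw [← h]
    exact mem_centralizer_iff.2 fun x hx => (hg x hx).symm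
  exfalso
  -- otherwise `A` is central in `M`
  let D : Subgroup G := centralizer (A : Set G) ⊓ M
  have hD : ∀ m ∈ M, ∀ n ∈ D, m * n * m⁻¹ ∈ D := by
    intro m hm n hn
    refine Subgroup.mem_inf.2 ⟨mem_centralizer_iff.2 fun x hx => ?_, mul_mem (mul_mem hm (Subgroup.mem_inf.1 hn).2) (inv_mem hm)⟩
    have hx' : m⁻¹ * x * m ∈ A := by
      have := L.Aconj m⁻¹ (inv_mem hm) x hx
      rwa [inv_inv] at this
    have := mem_centralizer_iff.1 hn.1 _ hx'
    calc x * (m * n * m⁻¹) = m * (m⁻¹ * x * m * n) * m⁻¹ := by group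
      _ = m * n * m⁻¹ * x := by rw [this]; group
  have hAD : A ≤ D := fun z hz => ⟨mem_centralizer_iff.2 fun x hx => L.Aab x hx z hz, L.AM hz⟩
  have hp : Fact (Nat.Prime 7) := ⟨by norm_num⟩
  obtain ⟨⟨x, hxM⟩, hx7⟩ := exists_prime_orderOf_dvd_card' (G := M) 7 (by rw [L.cardM]; norm_num)
  rw [← orderOf_injective M.subtype M.subtype_injective] at hx7
  change orderOf x = 7 at hx7
  have hx7' : x ^ 7 = 1 := hx7 ▸ pow_orderOf_eq_one x
  have hxV : ∀ v ∈ V, x * v = v * x := fun v hv =>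
    (mem_centralizer_iff.1 (h.symm ▸ hxM : x ∈ C) v hv).symm
  have hxD : x ∈ D := by
    refine ⟨mem_centralizer_iff.2 fun b hb => ?_, hxM⟩
    -- `d = b⁻¹ b^x` is an involution of `A`, so lies in `V`
    have hbx : x⁻¹ * b * x ∈ A := by
      have := L.Aconj x⁻¹ (inv_mem hxM) b hb
      rwa [inv_inv] at this
    set d := b⁻¹ * (x⁻¹ * b * x) with hd
    have hdA : d ∈ A := mul_mem (inv_mem hb) hbx
    have hVA : ∀ z ∈ A, z * z = 1 → z ∈ V := by
      intro z hz hz2
      have hsub : (V : Set G) ⊆ {w | w ∈ A ∧ w * w = 1} := fun w hw => ⟨L.VA hw, L.Vexp w hw⟩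
      have heq := Set.eq_of_subset_of_ncard_le hsub (le_of_eq (by
        rw [← Nat.card_coe_set_eq, ← Nat.card_coe_set_eq]
        exact L.cardA2.trans L.cardV.symm)) (Set.toFinite _)
      exact (heq.symm ▸ (⟨hz, hz2⟩ : z ∈ {w | w ∈ A ∧ w * w = 1}) : z ∈ (V : Set G))
    have hb2 : b * b ∈ V := hVA _ (mul_mem hb hb) (by
      rw [← mul_assoc]; simpa [pow_succ] using L.Aexp b hb)
    have hd2 : d * d = 1 := by
      have h1 : (x⁻¹ * b * x) * (x⁻¹ * b * x) = b * b := by
        calc (x⁻¹ * b * x) * (x⁻¹ * b * x) = x⁻¹ * (b * b) * x := by group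
          _ = b * b := by rw [mul_assoc, ← hxV _ hb2, inv_mul_cancel_left]
      calc d * d = b⁻¹ * ((x⁻¹ * b * x) * b⁻¹) * (x⁻¹ * b * x) := by rw [hd]; group
        _ = b⁻¹ * (b⁻¹ * (x⁻¹ * b * x)) * (x⁻¹ * b * x) := by rw [L.Aab _ hbx _ (inv_mem hb)]
        _ = b⁻¹ * b⁻¹ * ((x⁻¹ * b * x) * (x⁻¹ * b * x)) := by group
        _ = 1 := by rw [h1]; group
    have hdV : d ∈ V := hVA d hdA hd2
    have hn : ∀ n : ℕ, (x ^ n)⁻¹ * b * x ^ n = b * d ^ n := by
      intro n
      induction n with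
      | zero => simp
      | succ n ih =>
        have hdc : x⁻¹ * d ^ n * x = d ^ n := by
          rw [mul_assoc, ← hxV _ (pow_mem hdV n), inv_mul_cancel_left]
        calc (x ^ (n + 1))⁻¹ * b * x ^ (n + 1) = x⁻¹ * ((x ^ n)⁻¹ * b * x ^ n) * x := by
              rw [pow_succ]; group
          _ = (x⁻¹ * b * x) * (x⁻¹ * d ^ n * x) := by rw [ih]; group
          _ = b * (d * d ^ n) := by
              rw [hdc, show x⁻¹ * b * x = b * d by rw [hd, mul_inv_cancel_left], mul_assoc]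
          _ = _ := by rw [← pow_succ']
    have h7 := hn 7
    rw [hx7', show d ^ 7 = d by
      rw [show 7 = 2 * 3 + 1 from rfl, pow_succ, pow_mul, pow_two, hd2, one_pow, one_mul]] at h7
    have hd1 : d = 1 := by simpa using h7
    calc b * x = x * (b * d) := by rw [hd]; group
      _ = x * b := by rw [hd1, mul_one]
  have hxA : x ∉ A := fun hxA => by
    have := orderOf_dvd_of_pow_eq_one (L.Aexp x hxA)
    rw [hx7] at this
    norm_num at this
  rcases L.simple D hAD inf_le_right hD with h' | h'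
  · exact hxA (h' ▸ hxD)
  have hcen : R ⊓ A ≤ zpowers a := by
    rintro z ⟨hzR, hzA⟩
    refine (L.centR z).1 ⟨hzR, fun r hr => ?_⟩
    exact mem_centralizer_iff.1 ((h'.symm ▸ L.RM hr : r ∈ D)).1 z hzA
  have h8 := Subgroup.card_le_of_le ((le_inf L.VR L.VA).trans hcen)
  rw [L.cardV, L.card_zpowers_a] at h8
  omega

theorem mem_V_iff [Finite G] {x : G} : x ∈ V ↔ x ∈ A ∧ x * x = 1 := by
  refine ⟨fun h => ⟨L.VA h, L.Vexp x h⟩, fun h => ?_⟩
  have hsub : (V : Set G) ⊆ {w | w ∈ A ∧ w * w = 1} := fun w hw => ⟨L.VA hw, L.Vexp w hw⟩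
  have heq := Set.eq_of_subset_of_ncard_le hsub (le_of_eq (by
    rw [← Nat.card_coe_set_eq, ← Nat.card_coe_set_eq]
    exact L.cardA2.trans L.cardV.symm)) (Set.toFinite _)
  exact (heq.symm ▸ h : x ∈ (V : Set G))

theorem aA [Finite G] : a ∈ A := L.centV fun _ hx => L.a_comm (L.VR hx)

theorem tA [Finite G] : t ∈ A := L.VA L.tV

theorem conjV {g x : G} (hg : g ∈ M) (hx : x ∈ V) : g⁻¹ * x * g ∈ V := by
  have := ((L.memM g⁻¹).1 (inv_mem hg) x).1 hx
  rwa [inv_inv] at this

theorem conjA {g x : G} (hg : g ∈ M) (hx : x ∈ A) : g⁻¹ * x * g ∈ A := by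
  have := L.Aconj g⁻¹ (inv_mem hg) x hx
  rwa [inv_inv] at this

/-- An element of order seven of `M` moves every involution of `V`. -/
theorem seven_moves [Finite G] {x v : G} (hx : x ∈ M) (hx7 : orderOf x = 7) (hv : v ∈ V) (hv1 : v ≠ 1) :
    x * v ≠ v * x := by
  classical
  intro hfix
  have hxA : x ∉ A := fun hxA => by
    have := orderOf_dvd_of_pow_eq_one (L.Aexp x hxA)
    rw [hx7] at this
    norm_num at this
  apply hxA
  refine L.centV fun w hw => ?_
  by_contra hne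
  have hmem : ∀ i : ℕ, (x ^ i)⁻¹ * w * x ^ i ∈ V := fun i => L.conjV (pow_mem hx i) hw
  have hw1 : w ≠ 1 := fun e => hne (by rw [e, mul_one, one_mul])
  let S : Set G := (fun i : Fin 7 => (x ^ (i : ℕ))⁻¹ * w * x ^ (i : ℕ)) '' Set.univ
  have hinj : Function.Injective fun i : Fin 7 => (x ^ (i : ℕ))⁻¹ * w * x ^ (i : ℕ) := by
    intro i j e
    by_contra hij
    apply hne
    have hc : ∀ d, x ^ d * w = w * x ^ d → (Nat.Coprime d 7) → x * w = w * x := by
      intro d hd hcop
      obtain ⟨m, hm⟩ := exists_pow_eq_self_of_coprime (x := x) (n := d) (hx7.symm ▸ hcop)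
      have : x ^ d ∈ centralizer ({w} : Set G) := mem_centralizer_singleton_iff.2 hd
      exact mem_centralizer_singleton_iff.1 (hm ▸ pow_mem this m)
    wlog hlt : (i : ℕ) < (j : ℕ) generalizing i j
    · exact this e.symm (Ne.symm hij) (by
        have : (i : ℕ) ≠ j := fun h => hij (Fin.ext h)
        omega)
    refine hc (j - i) ?_ ?_
    · have h2 : x ^ (j : ℕ) = x ^ (i : ℕ) * x ^ ((j : ℕ) - i) := by rw [← pow_add]; congr 1; omega
      have e' : (x ^ (i : ℕ))⁻¹ * w * x ^ (i : ℕ) = (x ^ (j : ℕ))⁻¹ * w * x ^ (j : ℕ) := e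
      rw [h2] at e'
      have hcm : x ^ (i : ℕ) * x ^ ((j : ℕ) - i) = x ^ ((j : ℕ) - i) * x ^ (i : ℕ) := (pow_mul_comm x _ _)
      rw [hcm] at e'
      have e'' : w = (x ^ ((j : ℕ) - i))⁻¹ * w * x ^ ((j : ℕ) - i) := by
        calc w = x ^ (i : ℕ) * ((x ^ (i : ℕ))⁻¹ * w * x ^ (i : ℕ)) * (x ^ (i : ℕ))⁻¹ := by group
          _ = _ := by rw [e']; group
      conv_lhs => rw [e'']
      group
    · have h7 : Nat.Prime 7 := by norm_num
      refine (h7.coprime_iff_not_dvd.2 ?_).symm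
      intro h
      have := Nat.le_of_dvd (by omega) h
      omega
  have hsub : S ⊆ ((V : Set G) \ {1, v}) := by
    rintro _ ⟨i, -, rfl⟩
    refine ⟨hmem i, ?_⟩
    rintro (h | h)
    · have h' : (x ^ (i : ℕ))⁻¹ * w * x ^ (i : ℕ) = 1 := h
      exact hw1 (by
        calc w = x ^ (i : ℕ) * ((x ^ (i : ℕ))⁻¹ * w * x ^ (i : ℕ)) * (x ^ (i : ℕ))⁻¹ := by group
          _ = 1 := by rw [h']; group)
    · apply hne
      have h' : (x ^ (i : ℕ))⁻¹ * w * x ^ (i : ℕ) = v := h
      have hc : x ^ (i : ℕ) * v = v * x ^ (i : ℕ) := (Commute.pow_left hfix _).eq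
      have : w = v := by
        calc w = x ^ (i : ℕ) * ((x ^ (i : ℕ))⁻¹ * w * x ^ (i : ℕ)) * (x ^ (i : ℕ))⁻¹ := by group
          _ = x ^ (i : ℕ) * v * (x ^ (i : ℕ))⁻¹ := by rw [h']
          _ = v := by rw [hc, mul_inv_cancel_right]
      rw [this]; exact hfix
  have h1 := Set.ncard_le_ncard hsub (Set.toFinite _)
  rw [Set.ncard_image_of_injective _ hinj, Set.ncard_univ, Nat.card_fin,
    Set.ncard_diff (by
      rintro z (rfl | rfl)
      · exact one_mem V
      · exact hv)] at h1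
  rw [Set.ncard_pair (Ne.symm hv1), ← Nat.card_coe_set_eq] at h1
  change 7 ≤ Nat.card V - 2 at h1
  rw [L.cardV] at h1
  omega

/-- An element of order seven permutes the involutions of `V` transitively. -/
theorem seven_orbit [Finite G] {x v w : G} (hx : x ∈ M) (hx7 : orderOf x = 7) (hv : v ∈ V) (hv1 : v ≠ 1)
    (hw : w ∈ V) (hw1 : w ≠ 1) : ∃ i < 7, (x ^ i)⁻¹ * v * x ^ i = w := by
  classical
  let S : Set G := (fun i : Fin 7 => (x ^ (i : ℕ))⁻¹ * v * x ^ (i : ℕ)) '' Set.univ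
  have hinj : Function.Injective fun i : Fin 7 => (x ^ (i : ℕ))⁻¹ * v * x ^ (i : ℕ) := by
    intro i j e
    by_contra hij
    wlog hlt : (i : ℕ) < (j : ℕ) generalizing i j
    · exact this e.symm (Ne.symm hij) (by
        have : (i : ℕ) ≠ j := fun h => hij (Fin.ext h)
        omega)
    have h2 : x ^ (j : ℕ) = x ^ ((j : ℕ) - i) * x ^ (i : ℕ) := by rw [← pow_add]; congr 1; omega
    have e' : (x ^ (i : ℕ))⁻¹ * v * x ^ (i : ℕ) = (x ^ (j : ℕ))⁻¹ * v * x ^ (j : ℕ) := e
    rw [h2] at e'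
    have e'' : v = (x ^ ((j : ℕ) - i))⁻¹ * v * x ^ ((j : ℕ) - i) := by
      calc v = x ^ (i : ℕ) * ((x ^ (i : ℕ))⁻¹ * v * x ^ (i : ℕ)) * (x ^ (i : ℕ))⁻¹ := by group
        _ = _ := by rw [e']; group
    have hcop : Nat.Coprime ((j : ℕ) - i) 7 := by
      have h7 : Nat.Prime 7 := by norm_num
      refine (h7.coprime_iff_not_dvd.2 ?_).symm
      intro h
      have := Nat.le_of_dvd (by omega) h
      omega
    refine L.seven_moves (pow_mem hx ((j : ℕ) - i)) ?_ hv hv1 ?_
    · rw [orderOf_pow, hx7, Nat.Coprime.gcd_eq_one hcop.symm, Nat.div_one]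
    · conv_lhs => rw [e'']
      group
  have hsub : S ⊆ (V : Set G) \ {1} := by
    rintro _ ⟨i, -, rfl⟩
    refine ⟨L.conjV (pow_mem hx _) hv, fun h => hv1 ?_⟩
    have h' : (x ^ (i : ℕ))⁻¹ * v * x ^ (i : ℕ) = 1 := h
    calc v = x ^ (i : ℕ) * ((x ^ (i : ℕ))⁻¹ * v * x ^ (i : ℕ)) * (x ^ (i : ℕ))⁻¹ := by group
      _ = 1 := by rw [h']; group
  have h7 : S.ncard = 7 := by rw [Set.ncard_image_of_injective _ hinj, Set.ncard_univ, Nat.card_fin]
  have heq := Set.eq_of_subset_of_ncard_le hsub (le_of_eq (by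
    rw [Set.ncard_sdiff_singleton_of_mem (one_mem V), ← Nat.card_coe_set_eq, h7]
    exact Nat.sub_eq_of_eq_add (by rw [show Nat.card (↑(V : Set G)) = Nat.card V from rfl, L.cardV]))) (Set.toFinite _)
  obtain ⟨i, -, hi⟩ : w ∈ S := by rw [heq]; exact ⟨hw, hw1⟩
  exact ⟨i, i.2, hi⟩

/-- Elements of order seven and three in `M` fitting the frame, up to the choice of the cubic. -/
theorem exists_pair [Finite G] : ∃ q y : G, q ∈ M ∧ y ∈ M ∧ orderOf q = 7 ∧ orderOf y = 3 ∧
    y⁻¹ * q * y = q * q ∧ y * t = t * y ∧ y * a = a * y := by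
  classical
  haveI : Fact (Nat.Prime 7) := ⟨by norm_num⟩
  haveI : Fact (Nat.Prime 3) := ⟨by norm_num⟩
  obtain ⟨x, hx7⟩ := exists_prime_orderOf_dvd_card' (G := M) 7 (by rw [L.cardM]; norm_num)
  let P : Sylow 7 M := Sylow.ofCard (zpowers x) (by
    rw [Nat.card_zpowers, hx7, L.cardM, show 10752 = 7 * 1536 from rfl,
      Nat.factorization_mul (by norm_num) (by norm_num)]
    simp [Nat.Prime.factorization_self (show Nat.Prime 7 by norm_num),
      Nat.factorization_eq_zero_of_not_dvd (show ¬ 7 ∣ 1536 by norm_num)])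
  have hn1 : Nat.card (Sylow 7 M) ∣ 1536 := by
    refine (Sylow.card_dvd_index P).trans ?_
    have h := (zpowers x).card_mul_index
    rw [Nat.card_zpowers, hx7, L.cardM] at h
    show (P : Subgroup M).index ∣ 1536
    rw [Sylow.coe_ofCard]
    exact dvd_of_eq (by omega)
  have hn2 : Nat.card (Sylow 7 M) % 7 = 1 := card_sylow_modEq_one 7 M
  have h3 : ¬ 3 ∣ Nat.card (Sylow 7 M) := by
    have key : ∀ n : ℕ, n ∣ 1536 → n % 7 = 1 → ¬ 3 ∣ n := by
      intro n hn h7 h3
      obtain ⟨k, rfl⟩ := h3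
      have hk : k ∣ 2 ^ 9 := Nat.Coprime.dvd_of_dvd_mul_left (by
        have : k * 3 ∣ 512 * 3 := by rw [mul_comm k]; simpa using hn
        exact Nat.coprime_one_right k) (by
        rw [one_mul]
        exact Nat.dvd_of_mul_dvd_mul_left (by norm_num : 0 < 3) (by simpa using hn))
      obtain ⟨i, hi, rfl⟩ := (Nat.dvd_prime_pow Nat.prime_two).1 hk
      interval_cases i <;> norm_num at h7
    exact key _ hn1 hn2
  have hN : 3 ∣ Nat.card (normalizer ((P : Subgroup M) : Set M)) := by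
    have h := (normalizer ((P : Subgroup M) : Set M)).card_mul_index
    rw [show (normalizer ((P : Subgroup M) : Set M)).index = Nat.card (Sylow 7 M) from
      (Sylow.card_eq_index_normalizer P).symm, L.cardM] at h
    exact ((Nat.Prime.dvd_mul (by norm_num : Nat.Prime 3)).1 (h.symm ▸ by norm_num)).resolve_right h3
  obtain ⟨⟨y, hyN⟩, hy3⟩ := exists_prime_orderOf_dvd_card' (G := normalizer ((P : Subgroup M) : Set M)) 3 hN
  rw [← orderOf_injective (Subgroup.subtype _) (Subgroup.subtype_injective _)] at hy3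
  change orderOf y = 3 at hy3
  rw [Sylow.coe_ofCard] at hyN
  -- move to `G`
  have hx : orderOf (x : G) = 7 := by rw [← orderOf_injective M.subtype M.subtype_injective] at hx7; exact hx7
  have hy : orderOf (y : G) = 3 := by rw [← orderOf_injective M.subtype M.subtype_injective] at hy3; exact hy3
  have hconj : ∃ r : ℕ, r < 7 ∧ (y : G)⁻¹ * x * y = (x : G) ^ r := by
    have h := (mem_normalizer_iff.1 (inv_mem hyN) x).1 (mem_zpowers x)
    rw [mem_zpowers_iff_mem_range_orderOf, hx7] at h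
    obtain ⟨r, hr, e⟩ := Finset.mem_image.1 h
    refine ⟨r, Finset.mem_range.1 hr, ?_⟩
    have := congrArg Subtype.val e
    simpa [inv_inv] using this.symm
  obtain ⟨r, hr7, hr⟩ := hconj
  -- a fixed involution
  have hx1 : (x : G) ^ 7 = 1 := hx ▸ pow_orderOf_eq_one _
  have hy1 : (y : G) ^ 3 = 1 := hy ▸ pow_orderOf_eq_one _
  obtain ⟨⟨w, hw, hw1⟩, hfix⟩ : ∃ w : {w : G // w ∈ V ∧ w ≠ 1}, (y : G) * w = w * y := by
    haveI : Fintype {w : G // w ∈ V ∧ w ≠ 1} := Fintype.ofFinite _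
    have hcard : Fintype.card {w : G // w ∈ V ∧ w ≠ 1} = 7 := by
      rw [← Nat.card_eq_fintype_card, show Nat.card {w : G // w ∈ V ∧ w ≠ 1} = ((V : Set G) \ {1}).ncard from
        Nat.card_coe_set_eq ((V : Set G) \ {1}), Set.ncard_sdiff_singleton_of_mem (one_mem V),
        ← Nat.card_coe_set_eq, show Nat.card (↑(V : Set G)) = Nat.card V from rfl, L.cardV]
    have hcl : ∀ z : G, z ∈ V ∧ z ≠ 1 → (y : G)⁻¹ * z * y ∈ V ∧ (y : G)⁻¹ * z * y ≠ 1 := fun z hz =>
      ⟨L.conjV y.2 hz.1, fun e => hz.2 (by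
        calc z = (y : G) * ((y : G)⁻¹ * z * y) * (y : G)⁻¹ := by group
          _ = 1 := by rw [e]; group)⟩
    let σ : Equiv.Perm {w : G // w ∈ V ∧ w ≠ 1} := Equiv.ofBijective
      (fun z => ⟨(y : G)⁻¹ * z.1 * y, hcl z.1 z.2⟩)
      (Finite.injective_iff_bijective.1 fun z z' e => Subtype.ext
        (mul_left_cancel (mul_right_cancel (congrArg Subtype.val e))))
    have hσ : ∀ n : ℕ, ∀ z, ((σ ^ n) z).1 = ((y : G) ^ n)⁻¹ * z.1 * (y : G) ^ n := by
      intro n
      induction n with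
      | zero => intro z; simp
      | succ n ih =>
        intro z
        rw [pow_succ', Equiv.Perm.mul_apply]
        show (y : G)⁻¹ * ((σ ^ n) z).1 * y = _
        rw [ih, pow_succ]
        group
    obtain ⟨z, hz⟩ := Equiv.Perm.exists_fixed_point_of_prime (p := 3) (n := 1) (by rw [hcard]; norm_num)
      (σ := σ) (Equiv.ext fun z => Subtype.ext (by rw [hσ, pow_one, hy1]; simp))
    refine ⟨z, ?_⟩
    have e : (y : G)⁻¹ * z.1 * y = z.1 := congrArg Subtype.val hz
    conv_lhs => rw [← e]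
    group
  obtain ⟨i, -, hi⟩ := L.seven_orbit x.2 hx hw hw1 L.tV L.t1
  set z := ((x : G) ^ i)⁻¹ * y * (x : G) ^ i with hz
  have hzM : z ∈ M := mul_mem (mul_mem (inv_mem (pow_mem x.2 i)) y.2) (pow_mem x.2 i)
  have hz3 : orderOf z = 3 := by
    rw [hz, show ((x : G) ^ i)⁻¹ * y * (x : G) ^ i = MulAut.conj ((x : G) ^ i)⁻¹ (y : G) by
      rw [MulAut.conj_apply, inv_inv], MulEquiv.orderOf_eq, hy]
  have hzt : z * t = t * z := by
    rw [← hi, hz]
    calc _ = ((x : G) ^ i)⁻¹ * ((y : G) * w) * (x : G) ^ i := by group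
      _ = _ := by rw [hfix]; group
  have hzx : z⁻¹ * x * z = (x : G) ^ r := by
    rw [hz]
    have hc : ∀ n : ℕ, (x : G) ^ i * (x : G) ^ n = (x : G) ^ n * (x : G) ^ i := fun n => pow_mul_comm _ _ _
    calc _ = ((x : G) ^ i)⁻¹ * ((y : G)⁻¹ * ((x : G) ^ i * (x : G) ^ 1 * ((x : G) ^ i)⁻¹) * y) * (x : G) ^ i := by
          group
      _ = ((x : G) ^ i)⁻¹ * ((y : G)⁻¹ * (x : G) * y) * (x : G) ^ i := by rw [hc, mul_inv_cancel_right, pow_one]
      _ = _ := by rw [hr, mul_assoc, ← hc, inv_mul_cancel_left]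
  have hza : z * a = a * z := by
    have hzH : z ∈ H := (L.memH z).2 hzt
    have hcen : z * a * z⁻¹ ∈ zpowers a := by
      refine (L.centR _).1 ⟨L.Rconj z hzH a L.aR, fun s hs => ?_⟩
      have hs' : z⁻¹ * s * z ∈ R := by
        have := L.Rconj z⁻¹ (inv_mem hzH) s hs
        rwa [inv_inv] at this
      calc z * a * z⁻¹ * s = z * (a * (z⁻¹ * s * z)) * z⁻¹ := by group
        _ = s * (z * a * z⁻¹) := by rw [L.a_comm hs']; group
    rw [mem_zpowers_iff_mem_range_orderOf, ← Nat.card_zpowers, L.card_zpowers_a] at hcen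
    obtain ⟨n, hn, e⟩ := Finset.mem_image.1 hcen
    rw [Finset.mem_range] at hn
    have hp : ∀ k : ℕ, z * a ^ k * z⁻¹ = (a ^ n) ^ k := fun k => by rw [e, conj_pow]
    have hz1 : z ^ 3 = 1 := hz3 ▸ pow_orderOf_eq_one z
    have h27 : a ^ (n * n * n) = a := by
      calc a ^ (n * n * n) = z * (z * (z * a * z⁻¹) * z⁻¹) * z⁻¹ := by
            rw [← e, hp, ← pow_mul, hp, ← pow_mul, ← mul_assoc n n n]
        _ = z ^ 3 * a * (z ^ 3)⁻¹ := by rw [pow_succ, pow_two]; group
        _ = a := by rw [hz1]; group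
    have hmod : (n * n * n) % 4 = 1 := by
      rw [← pow_mod_orderOf, ← Nat.card_zpowers, L.card_zpowers_a] at h27
      have h4 := L.card_zpowers_a
      rw [Nat.card_zpowers] at h4
      have := pow_injOn_Iio_orderOf (x := a) (x₁ := (n * n * n) % 4) (x₂ := 1)
        (by rw [Set.mem_Iio, h4]; omega) (by rw [Set.mem_Iio, h4]; omega) (by simpa using h27)
      exact this
    have hn1 : n = 1 ∨ n = 3 := by interval_cases n <;> omega
    rcases hn1 with rfl | rfl
    · calc z * a = z * a * z⁻¹ * z := by group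
        _ = a * z := by rw [← e, pow_one]
    · norm_num at hmod
  have hz1 : z ^ 3 = 1 := hz3 ▸ pow_orderOf_eq_one z
  have hrr : r = 2 ∨ r = 4 := by
    have hpw : ∀ k : ℕ, z⁻¹ * (x : G) ^ k * z = (x : G) ^ (r * k) := fun k => by
      have := conj_pow (a := z⁻¹) (b := (x : G)) (i := k)
      rw [inv_inv] at this
      rw [← this, hzx, ← pow_mul]
    have h3 : (x : G) ^ (r * r * r) = x := by
      calc (x : G) ^ (r * r * r) = z⁻¹ * (z⁻¹ * (z⁻¹ * x * z) * z) * z := by
            rw [hzx, hpw, hpw, ← mul_assoc r r r]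
        _ = (z ^ 3)⁻¹ * x * z ^ 3 := by rw [pow_succ z 2, pow_two]; group
        _ = x := by rw [hz1]; group
    have h3' : r * r * r % 7 = 1 := by
      rw [← pow_mod_orderOf, hx] at h3
      exact pow_injOn_Iio_orderOf (x := (x : G)) (by rw [Set.mem_Iio, hx]; omega)
        (by rw [Set.mem_Iio, hx]; omega) (by simpa using h3)
    have hne1 : r ≠ 1 := by
      rintro rfl
      rw [pow_one] at hzx
      have hcomm : z * x = x * z := by
        conv_lhs => rw [← hzx]
        group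
      apply (by
        intro e
        have := orderOf_dvd_of_pow_eq_one (L.Aexp z e)
        rw [hz3] at this
        norm_num at this : z ∉ A)
      refine L.centV fun v hv => ?_
      rcases eq_or_ne v 1 with rfl | hv1
      · simp
      obtain ⟨j, -, rfl⟩ := L.seven_orbit x.2 hx L.tV L.t1 hv hv1
      have hj : z * (x : G) ^ j = (x : G) ^ j * z := (Commute.pow_right hcomm j).eq
      have hjt : z * ((x : G) ^ j)⁻¹ = ((x : G) ^ j)⁻¹ * z := (Commute.inv_right hj).eq
      calc z * (((x : G) ^ j)⁻¹ * t * (x : G) ^ j) = z * ((x : G) ^ j)⁻¹ * t * (x : G) ^ j := by group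
        _ = ((x : G) ^ j)⁻¹ * (z * t) * (x : G) ^ j := by rw [hjt]; group
        _ = ((x : G) ^ j)⁻¹ * t * (z * (x : G) ^ j) := by rw [hzt]; group
        _ = _ := by rw [hj]; group
    interval_cases r <;> simp_all
  rcases hrr with rfl | rfl
  · exact ⟨x, z, x.2, hzM, hx, hz3, by rw [hzx, pow_two], hzt, hza⟩
  · refine ⟨x, z * z, x.2, mul_mem hzM hzM, hx, ?_, ?_, ?_, ?_⟩
    · rw [← pow_two, orderOf_pow, hz3]; rfl
    · calc (z * z)⁻¹ * x * (z * z) = z⁻¹ * (z⁻¹ * x * z) * z := by group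
        _ = z⁻¹ * (x : G) ^ 4 * z := by rw [hzx]
        _ = (z⁻¹ * x * z) ^ 4 := by
            have := conj_pow (a := z⁻¹) (b := (x : G)) (i := 4)
            rw [inv_inv] at this
            exact this.symm
        _ = (x : G) ^ 16 := by rw [hzx, ← pow_mul]
        _ = (x : G) * x := by rw [show 16 = 7 * 2 + 2 from rfl, pow_add, pow_mul, hx1]; simp [pow_two]
    · calc z * z * t = z * (z * t) := by group
        _ = t * (z * z) := by rw [hzt, ← mul_assoc, hzt]; group
    · calc z * z * a = z * (z * a) := by group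
        _ = a * (z * z) := by rw [hza, ← mul_assoc, hza]; group

end Loc

end CfsgLib.HSRecog
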