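import Cfsg.Agent.Lib.HSRecog.Sigma

/-!
# The five generators and their relations up to two parameters
-/

set_option autoImplicit false
set_option linter.style.haveILetI false
set_option linter.unusedSectionVars false

namespace CfsgLib.HSRecog

open Subgroup

local notation "S5" => Equiv.Perm (Fin 5)

/-- A candidate matrix for `u`. -/
def Xmat (n1 n2 : V4) : M4 := ((1, 0, 0), n1, n2)

set_option synthInstance.maxSize 2000 in
theorem u_cases : ∀ n1 : V4, n1 + n1 = (0, 2, 0) → ∀ n2 : V4, n2 + n2 = (2, 0, 2) →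
    mm (Xmat n1 n2) (Xmat n1 n2) = one4 →
    mm (mm (Xmat n1 n2) (mm (mm (mpow Ym 2) (Xmat n1 n2)) Ym)) (mm (mm Ym (Xmat n1 n2)) (mpow Ym 2)) = one4 →
    (modTwoEq (mpow (mm (Xmat n1 n2) (mpow Qm 3)) 4) one4 → mpow (mm (Xmat n1 n2) (mpow Qm 3)) 4 = one4) →
    Xmat n1 n2 = Um := by decide +kernel

/-- The relations found so far. -/
structure Gens {G : Type*} [Group G] (t a q y u s : G) (H R V M A : Subgroup G) : Prop where
  loc : Loc t a H R V M A
  frame : Frame t a q y M A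
  sH : s ∈ H
  sM : s ∉ M
  sy : s * y = y * s
  sa : s⁻¹ * a * s = a ^ 3
  ss : s * s = 1 ∨ s * s = t
  sv : s⁻¹ * ((q⁻¹ * a * q) * (q⁻¹ * a * q)) * s = u
  su : s⁻¹ * u * s = (q⁻¹ * a * q) * (q⁻¹ * a * q)
  uR : u ∈ R
  uA : u ∉ A
  uu : u * u = 1
  uprod : u * (y⁻¹ * u * y) * (y * u * y⁻¹) = 1
  actsU : Acts a q u Um

variable {G : Type*} [Group G] [Finite G] {t a q y : G} {H R V M A : Subgroup G}

theorem Loc.wH (L : Loc t a H R V M A) (F : Frame t a q y M A) {u : G} (hU : Acts a q u Um) :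
    Acts a q (q * u * q⁻¹) (mm (mm Qm Um) (mpow Qm 6)) := by
  have e : q⁻¹ = q ^ 6 := inv_eq_of_mul_eq_one_right (by rw [← pow_succ', F.q7])
  rw [e]
  exact ((F.actsQ L).mul hU).mul ((F.actsQ L).pow 6)

theorem Loc.w_facts (L : Loc t a H R V M A) (F : Frame t a q y M A) {u : G} (hu : u ∈ R)
    (hU : Acts a q u Um) :
    q * u * q⁻¹ ∈ M ∧ q * u * q⁻¹ ∈ H ∧ (q * u * q⁻¹)⁻¹ * a * (q * u * q⁻¹) = a ^ 3 := by
  have hW := L.wH F hU
  have h1 := hW (2, 0, 0)
  have h2 := hW (1, 0, 0)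
  rw [show app (2, 0, 0) (mm (mm Qm Um) (mpow Qm 6)) = ((2, 0, 0) : V4) by decide +kernel,
    L.fv_two F.qM F.orderQ] at h1
  rw [show app (1, 0, 0) (mm (mm Qm Um) (mpow Qm 6)) = (3 : ℕ) • ((1, 0, 0) : V4) by decide +kernel,
    L.fv_nsmul F.qM F.orderQ, L.fv_e0 F.qM F.orderQ] at h2
  refine ⟨mul_mem (mul_mem F.qM (L.RM hu)) (inv_mem F.qM), (L.memH _).2 ?_, h2⟩
  generalize q * u * q⁻¹ = g at h1 ⊢
  calc g * t = g * (g⁻¹ * t * g) := by rw [h1]
    _ = t * g := by group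

variable {φ : H →* S5}

theorem phiY (L : Loc t a H R V M A) (F : Frame t a q y M A)
    (hφR : ∀ h : H, φ h = 1 ↔ (h : G) ∈ R) :
    φ ⟨y, F.yH L⟩ ^ 3 = 1 ∧ φ ⟨y, F.yH L⟩ ≠ 1 := by
  refine ⟨?_, fun e => ?_⟩
  · rw [← map_pow, show (⟨y, F.yH L⟩ : H) ^ 3 = 1 from Subtype.ext (by push_cast; exact F.y3), map_one]
  · have hy := F.cent_y_R L ((hφR _).1 e) rfl
    obtain ⟨n, -, e'⟩ := L.cy_cases hy
    have e2 : y = a ^ n := e'
    have h4 : y ^ 4 = 1 := by rw [e2, ← pow_mul, mul_comm, pow_mul, L.a4, one_pow]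
    exact F.y1 (by rwa [pow_succ, F.y3, one_mul] at h4)

/-- An element inverting `a` is odd on the five points. -/
theorem sign_of_inv (L : Loc t a H R V M A) (hφ : Function.Surjective φ)
    (hφR : ∀ h : H, φ h = 1 ↔ (h : G) ∈ R) {h : H} (ha : (h : G)⁻¹ * a * h = a ^ 3) :
    Equiv.Perm.sign (φ h) = -1 := by
  rcases sign_cases (φ h) with e | e
  · exfalso
    obtain ⟨z, hz⟩ := five_square _ e
    obtain ⟨g, rfl⟩ := hφ z
    rw [← map_mul, phi_eq L hφR] at hz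
    set r := ((g * g : H) : G)⁻¹ * h with hr
    have hh : (h : G) = g * g * r := by rw [hr]; push_cast; group
    have hgg : ((g : G) * g)⁻¹ * a * (g * g) = a := by
      rcases L.conj_a g.2 with k | k
      · calc ((g : G) * g)⁻¹ * a * (g * g) = (g : G)⁻¹ * ((g : G)⁻¹ * a * g) * g := by group
          _ = a := by rw [k, k]
      · calc ((g : G) * g)⁻¹ * a * (g * g) = (g : G)⁻¹ * ((g : G)⁻¹ * a * g) * g := by group
          _ = ((g : G)⁻¹ * a * g) ^ 3 := by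
              rw [k]
              have := conj_pow (a := (g : G)⁻¹) (b := a) (i := 3)
              rw [inv_inv, k] at this
              exact this.symm
          _ = a := by rw [k, ← pow_mul, show 3 * 3 = 4 * 2 + 1 from rfl, pow_succ, pow_mul, L.a4, one_pow, one_mul]
    apply L.ne_a3
    rw [← ha, hh]
    calc (↑g * ↑g * r)⁻¹ * a * (↑g * ↑g * r) = r⁻¹ * (((g : G) * g)⁻¹ * a * (g * g)) * r := by group
      _ = a := by rw [hgg, mul_assoc, L.a_comm hz, inv_mul_cancel_left]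
  · exact e

/-- The five generators exist. -/
theorem exists_gens (L : Loc t a H R V M A) (hφ : Function.Surjective φ)
    (hφR : ∀ h : H, φ h = 1 ↔ (h : G) ∈ R) :
    ∃ q y u s : G, Gens t a q y u s H R V M A := by
  obtain ⟨q, y, F⟩ := L.exists_frame
  refine ⟨q, y, ?_⟩
  obtain ⟨hp3, hp1⟩ := phiY L F hφR
  set Y : H := ⟨y, F.yH L⟩ with hY
  obtain ⟨x, hxx, hx1, hxp, hxs⟩ := five_cent _ hp3 hp1
  -- a lift centralising `y`
  obtain ⟨g, hg⟩ := hφ x
  have he : φ Y = φ (g⁻¹ * Y * g) := by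
    rw [map_mul, map_mul, map_inv, hg, mul_assoc, ← hxp, inv_mul_cancel_left]
  obtain ⟨r, hr, hr'⟩ := conj_coset L hφR (z := Y) (z' := g⁻¹ * Y * g) F.y3 hp1 (by
    push_cast
    have := conj_pow (a := (g : G)⁻¹) (b := y) (i := 3)
    rw [inv_inv] at this
    rw [this, F.y3]
    group) he
  push_cast at hr'
  set s : G := g * r⁻¹ with hs
  have sH : s ∈ H := mul_mem g.2 (inv_mem (L.RH hr))
  have sy : s * y = y * s := by
    have e : s⁻¹ * y * s = y := by
      calc s⁻¹ * y * s = r * ((g : G)⁻¹ * y * g) * r⁻¹ := by rw [hs]; group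
        _ = r * (r⁻¹ * y * r) * r⁻¹ := by rw [hr']
        _ = y := by group
    conv_lhs => rw [← e]
    group
  have hphis : φ ⟨s, sH⟩ = x := by
    rw [← hg, eq_comm, phi_eq L hφR]
    show (g : G)⁻¹ * s ∈ R
    rw [hs, inv_mul_cancel_left]
    exact inv_mem hr
  have sM : s ∉ M := by
    intro hsM
    obtain ⟨k, i, e⟩ := F.cent_y L hsM sH sy
    have hai : φ ⟨a ^ i, pow_mem L.aH i⟩ = 1 := (hφR _).2 (pow_mem L.aR i)
    have h1 : x = φ Y ^ k := by
      rw [← hphis, show (⟨s, sH⟩ : H) = Y ^ k * ⟨a ^ i, pow_mem L.aH i⟩ from Subtype.ext (by push_cast; exact e),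
        map_mul, map_pow, hai, mul_one]
    apply hx1
    calc x = x * x * x := by rw [hxx, one_mul]
      _ = φ Y ^ (3 * k) := by rw [h1, ← pow_add, ← pow_add]; congr 1; omega
      _ = 1 := by rw [pow_mul, hp3, one_pow]
  have hs2 : s * s ∈ zpowers a := by
    refine F.cent_y_R L ((hφR ⟨s * s, mul_mem sH sH⟩).1 ?_) ?_
    · rw [show (⟨s * s, mul_mem sH sH⟩ : H) = ⟨s, sH⟩ * ⟨s, sH⟩ from rfl, map_mul, hphis, hxx]
    · calc s * s * y = s * (s * y) := by group
        _ = y * (s * s) := by rw [sy, ← mul_assoc, sy]; group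
  have hq := F.qM
  have h7 := F.orderQ
  set v : G := (q⁻¹ * a * q) * (q⁻¹ * a * q) with hv
  have hvf : v = fv a q (0, 2, 0) := by
    rw [show ((0, 2, 0) : V4) = (0, 1, 0) + (0, 1, 0) from by decide, L.fv_add hq h7, L.fv_e1 hq h7]
  have hvy : y⁻¹ * v * y = fv a q (0, 0, 2) := by
    rw [hvf, F.actsY L]; exact congrArg (fv a q) (by decide +kernel)
  have hvV : v ∈ V := (F.mem_V L).2 ⟨(0, 1, 0), by rw [hvf]; rfl⟩
  have hvyV : y⁻¹ * v * y ∈ V := L.conjV F.yM hvV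
  have hvR : v ∈ R := L.VR hvV
  set u : G := s⁻¹ * v * s with hu
  have uR : u ∈ R := by
    have := L.Rconj s⁻¹ (inv_mem sH) v hvR
    rwa [inv_inv] at this
  have uu : u * u = 1 := by
    calc u * u = s⁻¹ * (v * v) * s := by rw [hu]; group
      _ = 1 := by rw [L.Vexp v hvV]; group
  have su : s⁻¹ * u * s = v := by
    calc s⁻¹ * u * s = (s * s)⁻¹ * (v * (s * s)) := by rw [hu]; group
      _ = (s * s)⁻¹ * ((s * s) * v) := by rw [((L.centR _).2 hs2).2 v hvR]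
      _ = v := by group
  have hVgen : ∀ w : V4, ∃ i j k : ℕ, fv a q (w + w) = t ^ i * v ^ j * (y⁻¹ * v * y) ^ k := by
    intro w
    refine ⟨w.1.val, w.2.1.val, w.2.2.val, ?_⟩
    rw [← L.fv_two hq h7, hvy, hvf, ← L.fv_nsmul hq h7, ← L.fv_nsmul hq h7, ← L.fv_nsmul hq h7,
      ← L.fv_add hq h7, ← L.fv_add hq h7]
    refine congrArg (fv a q) ?_
    obtain ⟨i, j, k⟩ := w
    simp only [nsmul_eq, mul_zero, Prod.mk_add_mk, add_zero, zero_add, Prod.mk.injEq]
    exact ⟨by ring, by ring, by ring⟩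
  have hcomm_y : ∀ z : G, s⁻¹ * (y⁻¹ * z * y) * s = y⁻¹ * (s⁻¹ * z * s) * y := by
    intro z
    have e : s⁻¹ * y⁻¹ = y⁻¹ * s⁻¹ := by rw [← mul_inv_rev, ← mul_inv_rev, sy]
    calc s⁻¹ * (y⁻¹ * z * y) * s = (s⁻¹ * y⁻¹) * z * (y * s) := by group
      _ = _ := by rw [e, ← sy]; group
  have hts : s⁻¹ * t * s = t := by
    rw [mul_assoc, ← (L.memH s).1 sH, inv_mul_cancel_left]
  have uA : u ∉ A := by
    intro huA
    have huV : u ∈ V := (L.mem_V_iff).2 ⟨huA, uu⟩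
    apply sM
    have hconj : ∀ z ∈ V, s⁻¹ * z * s ∈ V := by
      intro z hz
      obtain ⟨w, rfl⟩ := (F.mem_V L).1 hz
      obtain ⟨i, j, k, e⟩ := hVgen w
      rw [e]
      have := conj_pow (a := s⁻¹) (b := t) (i := i)
      have c1 : s⁻¹ * t ^ i * s ∈ V := by
        rw [inv_inv] at this; rw [← this, hts]; exact pow_mem L.tV i
      have c2 : s⁻¹ * v ^ j * s ∈ V := by
        have := conj_pow (a := s⁻¹) (b := v) (i := j)
        rw [inv_inv] at this; rw [← this]; exact pow_mem huV j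
      have c3 : s⁻¹ * (y⁻¹ * v * y) ^ k * s ∈ V := by
        have := conj_pow (a := s⁻¹) (b := y⁻¹ * v * y) (i := k)
        rw [inv_inv] at this; rw [← this, hcomm_y]; exact pow_mem (L.conjV F.yM huV) k
      rw [show s⁻¹ * (t ^ i * v ^ j * (y⁻¹ * v * y) ^ k) * s =
        (s⁻¹ * t ^ i * s) * (s⁻¹ * v ^ j * s) * (s⁻¹ * (y⁻¹ * v * y) ^ k * s) by group]
      exact mul_mem (mul_mem c1 c2) c3
    have hcs : ∀ z ∈ V, (s * s)⁻¹ * z * (s * s) = z := by
      intro z hz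
      rw [mul_assoc, ← ((L.centR _).2 hs2).2 z (L.VR hz), inv_mul_cancel_left]
    refine (L.memM s).2 fun z => ⟨fun hz => ?_, fun hz => ?_⟩
    · have h1 := hconj z hz
      have h2 := hcs _ (mul_mem (one_mem V) hz)
      rw [one_mul] at h2
      have : s * z * s⁻¹ = s⁻¹ * z * s := by
        calc s * z * s⁻¹ = s * ((s * s)⁻¹ * z * (s * s)) * s⁻¹ := by rw [h2]
          _ = _ := by group
      rw [this]
      exact h1
    · have h1 := hconj _ hz
      rwa [show s⁻¹ * (s * z * s⁻¹) * s = z by group] at h1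
  -- the product
  have hprodv : v * (y⁻¹ * v * y) * (y * v * y⁻¹) = 1 := by
    have e : y⁻¹ * (y⁻¹ * v * y) * y = y * v * y⁻¹ := by
      have h2 : y⁻¹ * y⁻¹ = y := by
        rw [← mul_inv_rev]
        exact inv_eq_of_mul_eq_one_right (by rw [← pow_two, ← pow_succ, F.y3])
      have h2' : y * y = y⁻¹ := eq_inv_of_mul_eq_one_left (by rw [← pow_two, ← pow_succ, F.y3])
      calc y⁻¹ * (y⁻¹ * v * y) * y = (y⁻¹ * y⁻¹) * v * (y * y) := by group
        _ = _ := by rw [h2, h2']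
    rw [← e, hvy, F.actsY L, hvf, ← L.fv_add hq h7, ← L.fv_add hq h7, ← L.fv_zero hq h7]
    exact congrArg (fv a q) (by decide +kernel)
  have hyinv : ∀ z : G, s⁻¹ * (y * z * y⁻¹) * s = y * (s⁻¹ * z * s) * y⁻¹ := by
    intro z
    have h := hcomm_y (y * z * y⁻¹)
    rw [show y⁻¹ * (y * z * y⁻¹) * y = z by group] at h
    calc s⁻¹ * (y * z * y⁻¹) * s = y * (y⁻¹ * (s⁻¹ * (y * z * y⁻¹) * s) * y) * y⁻¹ := by group
      _ = _ := by rw [← h]
  have uprod : u * (y⁻¹ * u * y) * (y * u * y⁻¹) = 1 := by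
    rw [hu, ← hcomm_y, ← hyinv]
    calc s⁻¹ * v * s * (s⁻¹ * (y⁻¹ * v * y) * s) * (s⁻¹ * (y * v * y⁻¹) * s) =
        s⁻¹ * (v * (y⁻¹ * v * y) * (y * v * y⁻¹)) * s := by group
      _ = 1 := by rw [hprodv]; group
  -- `u` on `V`
  have ha : u⁻¹ * a * u = a := by rw [mul_assoc, L.a_comm uR, inv_mul_cancel_left]
  have uinv : u⁻¹ = u := inv_eq_of_mul_eq_one_right uu
  have hut : u⁻¹ * t * u = t := by
    rw [mul_assoc, ← (L.memH u).1 (L.RH uR), inv_mul_cancel_left]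
  have hcases : ∀ z ∈ V, u⁻¹ * z * u = z ∨ u⁻¹ * z * u = t * z := by
    intro z hz
    rcases L.commR u⁻¹ (inv_mem uR) z (L.VR hz) with k | k
    · refine Or.inl ?_
      rw [inv_inv] at k
      exact mul_inv_eq_one.1 k
    · refine Or.inr ?_
      rw [inv_inv] at k
      rw [← k]; group
  have hcenV : ∀ {g : G}, g⁻¹ * v * g = v → g⁻¹ * (y⁻¹ * v * y) * g = y⁻¹ * v * y → g⁻¹ * t * g = t →
      g ∈ A := by
    intro g g1 g2 g3
    refine L.centV fun z hz => ?_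
    obtain ⟨w, rfl⟩ := (F.mem_V L).1 hz
    obtain ⟨i, j, k, e⟩ := hVgen w
    rw [e]
    have c : ∀ z : G, g⁻¹ * z * g = z → Commute g z := fun z hz => by
      show g * z = z * g
      conv_lhs => rw [← hz]
      group
    exact ((((c t g3).pow_right i).mul_right ((c v g1).pow_right j)).mul_right ((c _ g2).pow_right k)).eq
  have hyy : y * (y * v * y⁻¹) * y⁻¹ = y⁻¹ * v * y := by
    have h2' : y * y = y⁻¹ := eq_inv_of_mul_eq_one_left (by rw [← pow_two, ← pow_succ, F.y3])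
    calc y * (y * v * y⁻¹) * y⁻¹ = (y * y) * v * (y * y)⁻¹ := by group
      _ = _ := by rw [h2', inv_inv]
  -- `u` moves `v^y` and fixes `v`
  have hsymm : (u⁻¹ * (y⁻¹ * v * y) * u = y⁻¹ * v * y) → u⁻¹ * (y * v * y⁻¹) * u = y * v * y⁻¹ := by
    intro h
    have h1 : (s⁻¹ * u * s)⁻¹ * (s⁻¹ * (y⁻¹ * v * y) * s) * (s⁻¹ * u * s) = s⁻¹ * (y⁻¹ * v * y) * s := by
      calc _ = s⁻¹ * (u⁻¹ * (y⁻¹ * v * y) * u) * s := by group
        _ = _ := by rw [h]
    rw [su, hcomm_y, ← hu] at h1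
    have h2 : Commute v (y⁻¹ * u * y) := by
      show v * (y⁻¹ * u * y) = y⁻¹ * u * y * v
      conv_lhs => rw [← h1]
      group
    have h3 : (y * v * y⁻¹) * u = u * (y * v * y⁻¹) := by
      have := h2.eq
      calc (y * v * y⁻¹) * u = y * (v * (y⁻¹ * u * y)) * y⁻¹ := by group
        _ = _ := by rw [this]; group
    rw [mul_assoc, h3, inv_mul_cancel_left]
  have hmove : u⁻¹ * (y⁻¹ * v * y) * u = t * (y⁻¹ * v * y) := by
    refine (hcases _ hvyV).resolve_left fun h => ?_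
    have h' := hsymm h
    apply uA
    refine hcenV ?_ h hut
    have ev : v = ((y⁻¹ * v * y) * (y * v * y⁻¹))⁻¹ := by
      rw [eq_inv_iff_mul_eq_one, ← mul_assoc]; exact hprodv
    rw [ev]
    calc u⁻¹ * ((y⁻¹ * v * y) * (y * v * y⁻¹))⁻¹ * u =
        ((u⁻¹ * (y⁻¹ * v * y) * u) * (u⁻¹ * (y * v * y⁻¹) * u))⁻¹ := by group
      _ = _ := by rw [h, h']
  have hvyyV : y * v * y⁻¹ ∈ V := ((L.memM y).1 F.yM v).1 hvV
  have hmove' : u⁻¹ * (y * v * y⁻¹) * u = t * (y * v * y⁻¹) := by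
    refine (hcases _ hvyyV).resolve_left fun h => ?_
    -- conjugate back
    have hu' : Commute (y * v * y⁻¹) u := by
      show _ = _
      conv_lhs => arg 1; rw [← h]
      rw [mul_assoc _ u u, uu, mul_one, uinv]
    have h2 : Commute v (y⁻¹ * u * y) := by
      show v * (y⁻¹ * u * y) = y⁻¹ * u * y * v
      calc v * (y⁻¹ * u * y) = y⁻¹ * ((y * v * y⁻¹) * u) * y := by group
        _ = _ := by rw [hu'.eq]; group
    have h3 : Commute u (y⁻¹ * v * y) := by
      have e1 : u = s⁻¹ * v * s := hu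
      have e2 : y⁻¹ * v * y = s⁻¹ * (y⁻¹ * u * y) * s := by rw [hcomm_y, su]
      rw [e2]
      show u * _ = _ * u
      calc u * (s⁻¹ * (y⁻¹ * u * y) * s) = s⁻¹ * (v * (y⁻¹ * u * y)) * s := by rw [e1]; group
        _ = _ := by rw [h2.eq, e1]; group
    rw [mul_assoc u⁻¹, ← h3.eq, inv_mul_cancel_left] at hmove
    exact L.t1 (mul_eq_right.1 hmove.symm)
  have hvfix : u⁻¹ * v * u = v := by
    have ev : v = ((y⁻¹ * v * y) * (y * v * y⁻¹))⁻¹ := by
      rw [eq_inv_iff_mul_eq_one, ← mul_assoc]; exact hprodv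
    conv_lhs => rw [ev]
    calc u⁻¹ * ((y⁻¹ * v * y) * (y * v * y⁻¹))⁻¹ * u =
        ((u⁻¹ * (y⁻¹ * v * y) * u) * (u⁻¹ * (y * v * y⁻¹) * u))⁻¹ := by group
      _ = (t * ((y⁻¹ * v * y) * t) * (y * v * y⁻¹))⁻¹ := by rw [hmove, hmove']; group
      _ = (t * t * ((y⁻¹ * v * y) * (y * v * y⁻¹)))⁻¹ := by rw [L.Vab _ hvyV _ L.tV]; group
      _ = v := by rw [L.t2, one_mul, ← ev]
  -- the matrix of `u`
  obtain ⟨⟨n0, n1, n2⟩, hX⟩ := F.exists_acts L (L.RM uR)
  have h0 : n0 = (1, 0, 0) := L.fv_injective hq h7 (by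
    have := hX (1, 0, 0)
    rw [L.fv_e0 hq h7, ha] at this
    rw [L.fv_e0 hq h7]
    conv_rhs => rw [this]
    exact congrArg (fv a q) (by simp [app]))
  subst h0
  have h1 : n1 + n1 = (0, 2, 0) := L.fv_injective hq h7 (by
    have := hX (0, 2, 0)
    rw [← hvf, hvfix] at this
    rw [← hvf, this]
    refine congrArg (fv a q) ?_
    simp only [app, Prod.mk_add_mk, Prod.ext_iff, Prod.fst_add, Prod.snd_add]
    refine ⟨?_, ?_, ?_⟩ <;> ring)
  have h2 : n2 + n2 = (2, 0, 2) := L.fv_injective hq h7 (by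
    have := hX (0, 0, 2)
    rw [← hvy, hmove, hvy, ← L.fv_two hq h7, ← L.fv_add hq h7] at this
    rw [show ((2, 0, 2) : V4) = (2, 0, 0) + (0, 0, 2) from by decide, this]
    refine congrArg (fv a q) ?_
    simp only [app, Prod.mk_add_mk, Prod.ext_iff, Prod.fst_add, Prod.snd_add]
    refine ⟨?_, ?_, ?_⟩ <;> ring)
  have ey : y⁻¹ = y ^ 2 := inv_eq_of_mul_eq_one_right (by rw [← pow_succ', F.y3])
  have hid : ∀ {g : G} {Z : M4}, Acts a q g Z → g = 1 → Z = one4 := fun {g Z} hg e =>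
    L.acts_unique hq h7 hg (e ▸ Acts.one a q)
  have c1 : mm (Xmat n1 n2) (Xmat n1 n2) = one4 := hid (hX.mul hX) uu
  have c2 : mm (mm (Xmat n1 n2) (mm (mm (mpow Ym 2) (Xmat n1 n2)) Ym))
      (mm (mm Ym (Xmat n1 n2)) (mpow Ym 2)) = one4 := by
    refine hid ((hX.mul ((((F.actsY L).pow 2).mul hX).mul (F.actsY L))).mul
      ((((F.actsY L)).mul hX).mul ((F.actsY L).pow 2))) ?_
    rw [← ey]
    exact uprod
  have c3 : modTwoEq (mpow (mm (Xmat n1 n2) (mpow Qm 3)) 4) one4 →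
      mpow (mm (Xmat n1 n2) (mpow Qm 3)) 4 = one4 := fun hm => by
    have hA := (hX.mul ((F.actsQ L).pow 3)).pow 4
    exact L.acts_unique hq h7 hA (L.acts_A hq h7 (F.mem_A_of_mod_two L hA hm))
  have hU : Acts a q u Um := by
    rw [← u_cases n1 h1 n2 h2 c1 c2 c3]
    exact hX
  -- `s` inverts `a`
  obtain ⟨wM, wH, wa⟩ := L.w_facts F uR hU
  have sa : s⁻¹ * a * s = a ^ 3 := by
    refine (L.conj_a sH).resolve_left fun hsa => ?_
    have hw := sign_of_inv L hφ hφR (h := ⟨q * u * q⁻¹, wH⟩) wa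
    -- every odd involution centralises `a`
    let C : Subgroup H := {
      carrier := {h : H | (h : G) * a = a * h}
      one_mem' := by simp
      mul_mem' := fun {g g'} hg hg' => by
        show (g : G) * g' * a = a * ((g : G) * g')
        rw [mul_assoc, hg', ← mul_assoc, hg, mul_assoc]
      inv_mem' := fun {g} hg => by
        show (g : G)⁻¹ * a = a * (g : G)⁻¹
        exact (Commute.inv_left hg).eq }
    have hsC : (⟨s, sH⟩ : H) ∈ C := by
      show s * a = a * s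
      conv_lhs => rw [← hsa]
      group
    have hCn : C.Normal := ⟨fun n hn g => by
      show ((g : G) * n * (g : G)⁻¹) * a = a * ((g : G) * n * (g : G)⁻¹)
      have hgi : ((g : G)⁻¹ * a * g) ∈ zpowers a := by
        rcases L.conj_a g.2 with k | k <;> rw [k]
        · exact mem_zpowers a
        · exact npow_mem_zpowers a 3
      obtain ⟨m, hm⟩ := mem_zpowers_iff.1 hgi
      have hnm : (n : G) * a ^ m = a ^ m * n := (Commute.zpow_right hn m).eq
      calc (g : G) * n * (g : G)⁻¹ * a = (g : G) * (n * ((g : G)⁻¹ * a * g)) * (g : G)⁻¹ := by group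
        _ = _ := by rw [← hm, hnm, hm]; group⟩
    have hN : (C.map φ).Normal := hCn.map φ hφ
    have htop : C.map φ = ⊤ := by
      rw [eq_top_iff, ← Equiv.Perm.closure_isSwap, closure_le]
      intro p hp
      obtain ⟨i, j, hij, rfl⟩ := hp
      obtain ⟨h, hh⟩ := five_swap_conj x hxx hxs (Equiv.swap i j) (Equiv.swap_mul_self i j)
        (Equiv.Perm.sign_swap hij)
      rw [← hh]
      exact hN.conj_mem x ⟨⟨s, sH⟩, hsC, hphis⟩ h
    obtain ⟨c, hc, hc'⟩ := (htop.symm ▸ mem_top (φ ⟨q * u * q⁻¹, wH⟩) : _ ∈ C.map φ)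
    rw [phi_eq L hφR] at hc'
    apply L.ne_a3
    rw [← wa]
    have e : q * u * q⁻¹ = (c : G) * ((c : G)⁻¹ * (q * u * q⁻¹)) := by group
    rw [e]
    set r := (c : G)⁻¹ * (q * u * q⁻¹) with hr0
    have hca : (c : G) * a = a * c := hc
    calc ((c : G) * r)⁻¹ * a * ((c : G) * r) = r⁻¹ * (c : G)⁻¹ * (a * c) * r := by group
      _ = r⁻¹ * a * r := by rw [← hca]; group
      _ = a := by rw [mul_assoc, L.a_comm hc', inv_mul_cancel_left]
  refine ⟨u, s, L, F, sH, sM, sy, sa, ?_, rfl, su, uR, uA, uu, uprod, hU⟩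
  obtain ⟨m, hm, e⟩ := L.cy_cases hs2
  interval_cases m
  · exact Or.inl (by rw [e, pow_zero])
  · exfalso
    apply L.ne_a3
    rw [pow_one] at e
    rw [← sa, ← e]
    group
  · exact Or.inr (by rw [e, pow_two, L.a2])
  · exfalso
    apply L.ne_a3
    have h9 : (s⁻¹ * a * s) ^ 3 = s⁻¹ * a ^ 3 * s := by
      have := conj_pow (a := s⁻¹) (b := a) (i := 3)
      rw [inv_inv] at this
      exact this
    rw [sa, ← pow_mul, ← e, show s⁻¹ * (s * s) * s = s * s by group, e,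
      show 3 * 3 = 4 * 2 + 1 from rfl, pow_succ, pow_mul, L.a4, one_pow, one_mul] at h9
    exact h9.symm

end CfsgLib.HSRecog
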