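import Cfsg.Agent.Lib.HSRecog.Rels

/-! Generated chains of conjugations along `zWord`. -/

set_option autoImplicit false
set_option maxRecDepth 4000

namespace CfsgLib.HSRecog

/-- The word of `zBase` in the letters of `H`. -/
def kBaseH : List ℕ := [5, 10, 2, 6]

/-- Start and end of the four chains, as words in the letters of `H`. -/
def chainEnds : List (List ℕ × List ℕ) := [([0, 0], [0, 0]), ([5, 8], [0, 0, 4, 8]), ([5, 6, 4], [2, 2]), ([5, 2, 2, 4], [2, 2, 6])]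

/-- The intermediate values along the four chains, with words in the letters of `H` for the steps by `s`. -/
def chains : List (List (List ℕ × List ℕ)) := [
  [([3, 0, 2, 3, 0, 2], []),
   ([6], [11, 2, 2, 10, 7]),
   ([5, 6, 2, 6, 3, 5, 6], []),
   ([0, 0, 5, 6, 2, 6, 3, 5, 6], []),
   ([3, 0, 2, 3, 0, 2, 6], []),
   ([5, 3, 0, 2, 3, 0, 2, 6, 4], []),
   ([0, 0, 3, 0, 2, 3, 0, 2, 4, 2, 6, 3, 5, 6], []),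
   ([4, 2, 6, 3, 5, 6, 6], [10, 0, 0, 2, 2, 4, 8, 11, 7, 9, 5]),
   ([5, 2, 6, 3, 5, 6], []),
   ([2, 6, 2, 2, 6], []),
   ([4, 6, 5], []),
   ([4, 3, 0, 2, 3, 0, 2, 5], [10, 4, 6, 5, 11, 4, 3, 3, 5]),
   ([0, 0, 3, 0, 2, 3, 0, 2], []),
   ([5, 3, 0, 2, 3, 0, 2, 4], []),
   ([3, 0, 2, 3, 0, 2], []),
   ([0, 0], [])],
  [([4, 2, 6, 3, 5, 6, 6], []),
   ([0, 0, 3, 0, 2, 3, 0, 2, 4, 2, 6, 3, 5, 6], [11, 4, 8, 6, 10, 9, 5, 3, 3, 1, 1]),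
   ([5, 3, 0, 2, 3, 0, 2, 6, 4], []),
   ([5, 3, 0, 2, 3, 0, 2, 6, 4], []),
   ([0, 0, 3, 0, 2, 3, 0, 2, 4, 2, 6, 3, 5, 6], []),
   ([3, 0, 2, 5, 3, 1, 2, 2, 6, 3, 5, 6, 3, 0, 2], []),
   ([0, 0, 4, 2, 6, 3, 5, 6, 6], []),
   ([3, 0, 2, 3, 0, 2, 4, 2, 6, 3, 5, 6], [10, 0, 0, 4, 8, 6, 11, 9, 5, 3, 3]),
   ([0, 0, 5, 6, 4], []),
   ([2, 0, 0, 5, 6, 4, 3], []),
   ([0, 3, 1, 2, 4, 6, 5, 3, 1, 2, 2, 6, 3, 5, 6], []),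
   ([4, 3, 0, 2, 3, 0, 2, 6, 5, 2, 6, 3, 5, 6], [10, 0, 3, 4, 6, 5, 3, 8, 11, 9, 4, 7, 3, 3, 5]),
   ([0, 0, 3, 0, 0, 4, 3, 6], []),
   ([0, 0, 2, 0, 0, 6, 2, 5], []),
   ([0, 5, 3, 0, 6, 2, 0, 4], []),
   ([0, 0, 4, 2, 6, 3, 5, 6], [])],
  [([4, 2, 6, 3, 5, 6], []),
   ([0, 0, 4, 2, 6, 3, 5, 6], [11, 4, 8, 10, 9, 5, 1, 1]),
   ([0, 3, 0, 2, 5, 6, 4, 3, 0, 2], []),
   ([0, 3, 0, 2, 5, 6, 4, 3, 0, 2], []),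
   ([0, 0, 4, 2, 6, 3, 5, 6], []),
   ([0, 0, 5, 2, 6, 3, 5, 6], []),
   ([3, 0, 2, 3, 0, 2, 4, 2, 6, 3, 5, 6, 6], []),
   ([0, 0, 3, 0, 2, 3, 0, 2, 4, 2, 6, 3, 5, 6, 6], [10, 2, 2, 4, 8, 6, 11, 7, 9, 5, 3, 3, 1, 1]),
   ([5, 3, 0, 2, 3, 0, 2, 2, 6, 3, 5, 6], []),
   ([2, 6, 2, 0, 0, 2, 6], []),
   ([0, 0, 4, 6, 5], []),
   ([0, 0, 4, 3, 0, 2, 3, 0, 2, 5], [10, 0, 0, 4, 6, 5, 11, 4, 3, 3, 5, 1, 1]),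
   ([4, 3, 0, 2, 3, 0, 2, 5], []),
   ([0, 0, 3, 0, 2, 3, 0, 2], []),
   ([5, 3, 0, 2, 3, 0, 2, 4], []),
   ([3, 0, 2, 3, 0, 2], [])],
  [([0, 0, 3, 0, 2, 3, 0, 2], []),
   ([0, 0, 6], [11, 0, 0, 2, 2, 10, 7, 1, 1]),
   ([6, 5, 3, 0, 2, 3, 0, 2, 2, 6, 3, 5, 6, 6], []),
   ([5, 3, 0, 2, 3, 0, 2, 6, 2, 6, 3, 5, 6], []),
   ([0, 0, 3, 0, 2, 3, 0, 2, 6], []),
   ([0, 3, 0, 2, 5, 6, 4, 3, 0, 2], []),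
   ([0, 0, 4, 2, 6, 3, 5, 6], []),
   ([4, 2, 6, 3, 5, 6], [10, 0, 0, 4, 8, 11, 9, 5]),
   ([5, 6, 4], []),
   ([3, 3, 6, 5], []),
   ([6, 2, 6, 3, 5, 6, 6], []),
   ([3, 0, 2, 4, 3, 1, 2, 5, 2, 6, 3, 5, 6, 3, 0, 2], [10, 6, 8, 6, 11, 3, 9, 4, 2, 5, 3]),
   ([4, 3, 0, 0, 3, 6, 4], []),
   ([0, 3, 3, 1, 6, 2, 2, 0], []),
   ([0, 3, 1, 6, 2, 0], []),
   ([3, 0, 2, 3, 0, 2, 6], [])]]

/-- Representatives of the five cosets of `M ∩ H` in `H`. -/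
def hCosets : List (List ℕ) := [[], [10], [10, 2], [10, 2, 4], [10, 2, 5]]

end CfsgLib.HSRecog
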