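import Cfsg.Agent.Lib.HSRecog.Ident
import Cfsg.Agent.Lib.HSRecog.PathData

/-!
# The elements of `M ∩ H` centralising the four images
-/

set_option autoImplicit false
set_option maxRecDepth 16000
set_option synthInstance.maxSize 50000

namespace CfsgLib.HSRecog

open CfsgLib.Presented

/-- A check for one element of `M ∩ H`. -/
noncomputable def mhCentB (v : V4) (w : List ℕ) : Bool :=
  ((vecWord v ++ hWord w).all fun x => Nat.blt x 8) &&
    (((chainEnds.drop 1).any fun x => moved (iv (vecWord v ++ hWord w) ++ hWord x.2 ++ (vecWord v ++ hWord w) ++ iv (hWord x.2))) ||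
      (List.range 16).any fun j => triv (vecWord v ++ hWord w ++ iv (zCent.getD j [])))

theorem cent_check00 : ∀ c : ZMod 4, cReps.all (mhCentB (0, 0, c)) = true := by decide +kernel

theorem cent_check01 : ∀ c : ZMod 4, cReps.all (mhCentB (0, 1, c)) = true := by decide +kernel

theorem cent_check02 : ∀ c : ZMod 4, cReps.all (mhCentB (0, 2, c)) = true := by decide +kernel

theorem cent_check03 : ∀ c : ZMod 4, cReps.all (mhCentB (0, 3, c)) = true := by decide +kernel

theorem cent_check10 : ∀ c : ZMod 4, cReps.all (mhCentB (1, 0, c)) = true := by decide +kernel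

theorem cent_check11 : ∀ c : ZMod 4, cReps.all (mhCentB (1, 1, c)) = true := by decide +kernel

theorem cent_check12 : ∀ c : ZMod 4, cReps.all (mhCentB (1, 2, c)) = true := by decide +kernel

theorem cent_check13 : ∀ c : ZMod 4, cReps.all (mhCentB (1, 3, c)) = true := by decide +kernel

theorem cent_check20 : ∀ c : ZMod 4, cReps.all (mhCentB (2, 0, c)) = true := by decide +kernel

theorem cent_check21 : ∀ c : ZMod 4, cReps.all (mhCentB (2, 1, c)) = true := by decide +kernel

theorem cent_check22 : ∀ c : ZMod 4, cReps.all (mhCentB (2, 2, c)) = true := by decide +kernel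

theorem cent_check23 : ∀ c : ZMod 4, cReps.all (mhCentB (2, 3, c)) = true := by decide +kernel

theorem cent_check30 : ∀ c : ZMod 4, cReps.all (mhCentB (3, 0, c)) = true := by decide +kernel

theorem cent_check31 : ∀ c : ZMod 4, cReps.all (mhCentB (3, 1, c)) = true := by decide +kernel

theorem cent_check32 : ∀ c : ZMod 4, cReps.all (mhCentB (3, 2, c)) = true := by decide +kernel

theorem cent_check33 : ∀ c : ZMod 4, cReps.all (mhCentB (3, 3, c)) = true := by decide +kernel

theorem cent_check : ∀ v : V4, cReps.all (mhCentB v) = true := by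
  have four : ∀ x : ZMod 4, x = 0 ∨ x = 1 ∨ x = 2 ∨ x = 3 := by decide
  rintro ⟨a, b, c⟩
  rcases four a with rfl | rfl | rfl | rfl <;> rcases four b with rfl | rfl | rfl | rfl
  · exact cent_check00 c
  · exact cent_check01 c
  · exact cent_check02 c
  · exact cent_check03 c
  · exact cent_check10 c
  · exact cent_check11 c
  · exact cent_check12 c
  · exact cent_check13 c
  · exact cent_check20 c
  · exact cent_check21 c
  · exact cent_check22 c
  · exact cent_check23 c
  · exact cent_check30 c
  · exact cent_check31 c
  · exact cent_check32 c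
  · exact cent_check33 c

theorem cent_facts (v : V4) (w : List ℕ) (hw : w ∈ cReps) :
    ((vecWord v ++ hWord w).all fun x => Nat.blt x 8) = true ∧
    ((∃ x ∈ chainEnds, moved (iv (vecWord v ++ hWord w) ++ hWord x.2 ++ (vecWord v ++ hWord w) ++ iv (hWord x.2)) = true) ∨
      ∃ j < 16, triv (vecWord v ++ hWord w ++ iv (zCent.getD j [])) = true) := by
  have h := List.all_eq_true.1 (cent_check v) w hw
  simp only [mhCentB, Bool.and_eq_true, Bool.or_eq_true, List.any_eq_true, List.mem_range] at h
  exact ⟨h.1, h.2.imp_left fun ⟨x, hx, hm⟩ => ⟨x, List.mem_of_mem_drop hx, hm⟩⟩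

end CfsgLib.HSRecog
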