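import Cfsg.Agent.Lib.HSRecog.Ident
import Cfsg.Agent.Lib.HSRecog.PathCent
import Cfsg.Agent.Lib.HSRecog.Cert.P1
import Cfsg.Agent.Lib.HSRecog.Cert.P2
import Cfsg.Agent.Lib.HSRecog.Cert.P3
import Cfsg.Agent.Lib.HSRecog.Cert.P4
import Cfsg.Agent.Lib.HSRecog.Cert.P5
import Cfsg.Agent.Lib.HSRecog.Cert.P6
import Cfsg.Agent.Lib.HSRecog.Cert.P7
import Cfsg.Agent.Lib.HSRecog.Cert.P8
import Cfsg.Agent.Lib.HSRecog.Cert.P9
import Cfsg.Agent.Lib.HSRecog.Cert.P10
import Cfsg.Agent.Lib.HSRecog.Cert.P11
import Cfsg.Agent.Lib.HSRecog.Cert.P12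
import Cfsg.Agent.Lib.HSRecog.Cert.P13
import Cfsg.Agent.Lib.HSRecog.Cert.P14
import Cfsg.Agent.Lib.HSRecog.Cert.P15

/-!
# The last relation
-/

set_option autoImplicit false
set_option linter.style.haveILetI false
set_option linter.unusedSectionVars false
set_option maxRecDepth 16000
set_option synthInstance.maxSize 50000

namespace CfsgLib.HSRecog

open Subgroup CfsgLib.Presented

local notation "S5" => Equiv.Perm (Fin 5)

/-- Checks one chain of conjugations along a word. -/
noncomputable def chainB : List ℕ → List ℕ → List (List ℕ × List ℕ) → Bool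
  | [], _, [] => true
  | l :: z, w, (w', h) :: rest =>
    Nat.blt l 10 && w'.all (fun x => Nat.blt x 10) &&
      (((flipLet l :: (w ++ l :: iv w')).all (fun x => Nat.blt x 8) && triv (flipLet l :: (w ++ l :: iv w'))) ||
        (h.all (fun x => Nat.blt x 12) && decide (hWord h = flipLet l :: (w ++ l :: iv w')) && triv (hWord h))) &&
      chainB z w' rest
  | _, _, _ => false

/-- The end of a chain. -/
def chainLast : List ℕ → List (List ℕ × List ℕ) → List ℕ
  | w, [] => w
  | _, (w', _) :: rest => chainLast w' rest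

theorem chains_ok : ((chainEnds.zip chains).all fun p =>
    chainB zWord (hWord p.1.1) p.2 && decide (chainLast (hWord p.1.1) p.2 = hWord p.1.2) &&
      (iv kBaseH ++ p.1.1 ++ kBaseH ++ iv p.1.2).all (fun x => Nat.blt x 12) &&
      triv (hWord (iv kBaseH ++ p.1.1 ++ kBaseH ++ iv p.1.2))) = true := by decide +kernel

theorem path_facts : hWord kBaseH = zBase ∧ chainEnds.map (fun p => hWord p.2) =
    [[0, 0], [0, 0, 4, 2, 6, 3, 5, 6], a1w ++ a1w, a1w ++ a1w ++ [6]] ∧
    chainEnds.length = 4 ∧ chains.length = 4 ∧ (∀ p ∈ chainEnds, hWord p.1 = [0, 0] → hWord p.2 = [0, 0]) ∧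
    hWord (chainEnds.getD 0 ([], [])).1 = [0, 0] ∧ (hWord kBaseH).all (fun x => Nat.blt x 10) = true ∧
    zWord.all (fun x => Nat.blt x 10) = true ∧ (∀ i < 6, ∀ x ∈ hWord [2 * i], x < 10) := by decide +kernel

/-- The eight vectors of `V`. -/
def vList : List (List ℕ) :=
  [[], [0, 0], [2, 2], [0, 0, 2, 2], [5, 2, 2, 4], [0, 0, 5, 2, 2, 4], [2, 2, 5, 2, 2, 4], [0, 0, 2, 2, 5, 2, 2, 4]]

theorem coset_facts : hCosets.length = 5 ∧ (hCosets.all fun r => r.all fun x => Nat.blt x 12) = true ∧
    hCosets.getD 0 [1] = [] ∧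
    ((List.range 5).all fun i => (List.range i).all fun j =>
      vList.any fun v => vList.all fun v' =>
        moved (hWord (hCosets.getD i [] ++ iv (hCosets.getD j []) ++ v ++
          (hCosets.getD j [] ++ iv (hCosets.getD i [])) ++ iv v'))) = true ∧
    ((List.range 5).all fun i => i == 0 || vList.all fun v' =>
      moved (hWord (hCosets.getD i [] ++ [2, 2] ++ iv (hCosets.getD i []) ++ iv v'))) = true ∧
    (vList.all fun v => v.all (fun x => Nat.blt x 10) && (hWord v).all fun x => Nat.blt x 8) = true ∧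
    (∀ w : V4, ∃ v ∈ vList, triv (hWord v ++ iv (vecWord (w + w))) = true ∧
      (vecWord (w + w)).all (fun x => Nat.blt x 8) = true) ∧
    (∀ v ∈ vList, ∃ w : V4, triv (hWord v ++ iv (vecWord (w + w))) = true) := by decide +kernel

theorem cent_letters : (∀ w ∈ zCent, ∀ x ∈ w, x < 8) ∧ (∀ x ∈ chainEnds, ∀ k ∈ hWord x.2, k < 8) ∧
    zCent.length = 16 ∧ zVals.length = 16 := by decide +kernel

theorem p_matches : Matches CertP1.enum (stageRels ++ [gRel 2, pathRel 1]) [[0], [2], [4], [6]] ∧
    Matches CertP2.enum (stageRels ++ [gRel 2, pathRel 2]) [[0], [2], [4], [6]] ∧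
    Matches CertP3.enum (stageRels ++ [gRel 2, pathRel 3]) [[0], [2], [4], [6]] ∧
    Matches CertP4.enum (stageRels ++ [gRel 2, pathRel 4]) [[0], [2], [4], [6]] ∧
    Matches CertP5.enum (stageRels ++ [gRel 2, pathRel 5]) [[0], [2], [4], [6]] ∧
    Matches CertP6.enum (stageRels ++ [gRel 2, pathRel 6]) [[0], [2], [4], [6]] ∧
    Matches CertP7.enum (stageRels ++ [gRel 2, pathRel 7]) [[0], [2], [4], [6]] ∧
    Matches CertP8.enum (stageRels ++ [gRel 2, pathRel 8]) [[0], [2], [4], [6]] ∧
    Matches CertP9.enum (stageRels ++ [gRel 2, pathRel 9]) [[0], [2], [4], [6]] ∧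
    Matches CertP10.enum (stageRels ++ [gRel 2, pathRel 10]) [[0], [2], [4], [6]] ∧
    Matches CertP11.enum (stageRels ++ [gRel 2, pathRel 11]) [[0], [2], [4], [6]] ∧
    Matches CertP12.enum (stageRels ++ [gRel 2, pathRel 12]) [[0], [2], [4], [6]] ∧
    Matches CertP13.enum (stageRels ++ [gRel 2, pathRel 13]) [[0], [2], [4], [6]] ∧
    Matches CertP14.enum (stageRels ++ [gRel 2, pathRel 14]) [[0], [2], [4], [6]] ∧
    Matches CertP15.enum (stageRels ++ [gRel 2, pathRel 15]) [[0], [2], [4], [6]] := by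
  unfold Matches; decide +kernel

variable {G : Type*} [Group G] [Finite G] {t a q y u s : G} {H R V M A : Subgroup G}

/-- All relations hold. -/
theorem Stage.all_rels (S : Stage t a q y u s H R V M A) {φ : H →* S5}
    (hφR : ∀ h : H, φ h = 1 ↔ (h : G) ∈ R) : ∀ w ∈ allRels, evW (evS a q y u s) w = 1 := by
  classical
  have g := S.gens
  have L := g.loc
  have F := g.frame
  set ev := evS a q y u s with hev
  have hblt : ∀ {n : ℕ} {w : List ℕ}, (w.all fun x => Nat.blt x n) = true → ∀ x ∈ w, x < n := fun h x hx => by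
    have := List.all_eq_true.1 h x hx; rwa [Nat.blt_eq] at this
  have hiv : ∀ {w : List ℕ}, (∀ x ∈ w, x < 10) → evW ev (iv w) = (evW ev w)⁻¹ := fun h => evW_iv a q y u s h
  -- a checked chain
  have chain : ∀ (z w : List ℕ) (l : List (List ℕ × List ℕ)), (∀ x ∈ z, x < 10) → (∀ x ∈ w, x < 10) →
      chainB z w l = true → (evW ev z)⁻¹ * evW ev w * evW ev z = evW ev (chainLast w l) := by
    intro z
    induction z with
    | nil =>
      intro w l _ _ h
      cases l with
      | nil => simp [chainLast]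
      | cons p l => simp [chainB] at h
    | cons k z ih =>
      intro w l hz hw h
      cases l with
      | nil => simp [chainB] at h
      | cons p l =>
        obtain ⟨w', hh⟩ := p
        simp only [chainB, Bool.and_eq_true, Bool.or_eq_true, decide_eq_true_eq] at h
        obtain ⟨⟨⟨hk, hw'⟩, hstep⟩, hrest⟩ := h
        have hk' : k < 10 := by rwa [Nat.blt_eq] at hk
        have e : evW ev (flipLet k :: (w ++ k :: iv w')) = 1 := by
          rcases hstep with ⟨h1, h2⟩ | ⟨⟨h1, h2⟩, h3⟩
          · exact S.m_triv h1 h2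
          · rw [← h2]; exact S.h_triv hφR (hblt h1) h3
        rw [evW_cons, evW_append, evW_cons, hiv (hblt hw')] at e
        have e' : (ev k)⁻¹ * evW ev w * ev k = evW ev w' := by
          rw [← evS_flip a q y u s hk', ← mul_inv_eq_one]
          simpa [hev, mul_assoc] using e
        rw [evW_cons, mul_inv_rev, show (evW ev z)⁻¹ * (ev k)⁻¹ * evW ev w * (ev k * evW ev z) =
          (evW ev z)⁻¹ * ((ev k)⁻¹ * evW ev w * ev k) * evW ev z by group, e', chainLast]
        exact ih w' l (fun x hx => hz x (List.mem_cons_of_mem _ hx)) (hblt hw') hrest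
  obtain ⟨pk, pX, pl1, pl2, pt, pt0, pk10, pz10, p6⟩ := path_facts
  have hw10 : ∀ w : List ℕ, (∀ x ∈ w, x < 12) → ∀ x ∈ hWord w, x < 10 := by
    intro w hw x hx
    simp only [hWord, List.mem_flatMap] at hx
    obtain ⟨k, hk, hx⟩ := hx
    exact hLetters_lt k (hw k hk) x (by simpa [hWord] using hx)
  -- the conjugates of the ends
  have hends : ∀ p ∈ chainEnds,
      (evW ev zWord)⁻¹ * evW ev (hWord p.1) * evW ev zWord = evW ev (hWord p.2) ∧
      (evW ev zBase)⁻¹ * evW ev (hWord p.1) * evW ev zBase = evW ev (hWord p.2) := by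
    intro p hp
    obtain ⟨i, hi, rfl⟩ := List.getElem_of_mem hp
    have hz : (chainEnds[i], chains[i]'(by omega)) ∈ chainEnds.zip chains := by
      have hi2 : i < (chainEnds.zip chains).length := by simp; omega
      have := List.getElem_mem hi2
      rwa [List.getElem_zip] at this
    have h := List.all_eq_true.1 chains_ok _ hz
    simp only [Bool.and_eq_true, decide_eq_true_eq] at h
    obtain ⟨⟨⟨h1, h2⟩, h3⟩, h4⟩ := h
    have hl := hblt h3
    simp only [List.mem_append, or_imp, forall_and] at hl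
    obtain ⟨⟨⟨-, hd⟩, hk⟩, hxi⟩ := hl
    have hx : ∀ x ∈ chainEnds[i].2, x < 12 := fun x hx => by
      have hf : flipLet x < 12 := hxi (flipLet x) (by simp only [iv, List.mem_reverse]; exact List.mem_map_of_mem hx)
      unfold flipLet at hf; split at hf <;> omega
    refine ⟨?_, ?_⟩
    · rw [← h2]; exact chain _ _ _ (hblt pz10) (hw10 _ hd) h1
    · have e := S.h_triv hφR (hblt h3) h4
      have hmul : ∀ v w : List ℕ, hWord (v ++ w) = hWord v ++ hWord w := fun v w => by simp [hWord]
      have hivh : ∀ w : List ℕ, (∀ x ∈ w, x < 12) → evW ev (hWord (iv w)) = (evW ev (hWord w))⁻¹ := by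
        intro w
        induction w with
        | nil => intro _; simp [hWord, iv]
        | cons x w ih =>
          intro hw
          have key : ∀ x < 12, hWord [flipLet x] = iv (hWord [x]) ∨ hWord [x] = iv (hWord [flipLet x]) := by
            decide +kernel
          have hx12 := hw x List.mem_cons_self
          have hfl : flipLet x < 12 := by unfold flipLet; split <;> omega
          have hflip : evW ev (hWord [flipLet x]) = (evW ev (hWord [x]))⁻¹ := by
            rcases key x hx12 with k | k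
            · rw [k, hiv (hLetters_lt x hx12)]
            · rw [k, hiv (hLetters_lt _ hfl), inv_inv]
          rw [show iv (x :: w) = iv w ++ [flipLet x] by simp [iv], hmul, evW_append,
            ih fun z hz => hw z (List.mem_cons_of_mem _ hz), hflip, show x :: w = [x] ++ w from rfl, hmul,
            evW_append, mul_inv_rev]
      rw [hmul, hmul, hmul, evW_append, evW_append, evW_append, hivh _ hk, hivh _ hx, pk, mul_inv_eq_one] at e
      exact e
  -- `h = zBase⁻¹ z` lies in `H` and centralises the four images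
  set h := (evW ev zBase)⁻¹ * evW ev zWord with hh
  have hcent : ∀ p ∈ chainEnds, h⁻¹ * evW ev (hWord p.2) * h = evW ev (hWord p.2) := by
    intro p hp
    obtain ⟨e1, e2⟩ := hends p hp
    calc h⁻¹ * evW ev (hWord p.2) * h =
        h⁻¹ * ((evW ev zBase)⁻¹ * evW ev (hWord p.1) * evW ev zBase) * h := by rw [e2]
      _ = (evW ev zWord)⁻¹ * evW ev (hWord p.1) * evW ev zWord := by rw [hh]; group
      _ = _ := e1
  have h2 : ∀ i (hi : i < chainEnds.length), hWord chainEnds[i].2 =
      [[0, 0], [0, 0, 4, 2, 6, 3, 5, 6], a1w ++ a1w, a1w ++ a1w ++ [6]].getD i [] := by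
    intro i hi
    rw [← pX, List.getD_eq_getElem _ _ (by simpa using hi), List.getElem_map]
  have et : evW ev [0, 0] = t := by simp [hev, evS, L.a2]
  have hcomm : ∀ p ∈ chainEnds, h * evW ev (hWord p.2) = evW ev (hWord p.2) * h := fun p hp => by
    calc h * evW ev (hWord p.2) = h * (h⁻¹ * evW ev (hWord p.2) * h) := by rw [hcent p hp]
      _ = _ := by group
  have hhH : h ∈ H := by
    refine (L.memH h).2 ?_
    have := hcomm _ (List.getElem_mem (n := 0) (by omega : 0 < chainEnds.length))
    rwa [h2 0 (by omega), List.getD_cons_zero, et] at this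
  obtain ⟨q5, q12, q0, qd, qn, qv, qV, qV'⟩ := coset_facts
  obtain ⟨hC, hC'⟩ := S.closure_c_eq
  have hvl : ∀ v ∈ vList, (∀ x ∈ v, x < 10) ∧ ∀ x ∈ hWord v, x < 8 := fun v hv => by
    have := List.all_eq_true.1 qv v hv
    simp only [Bool.and_eq_true] at this
    exact ⟨hblt this.1, hblt this.2⟩
  have hvec : ∀ w : V4, evW ev (vecWord w) = fv a q w := fun w => g.ev_vecWord w
  have hmeq : ∀ (v : List ℕ) (w : V4), (∀ x ∈ hWord v, x < 8) → triv (hWord v ++ iv (vecWord (w + w))) = true →
      evW ev (hWord v) = fv a q (w + w) := by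
    intro v w hv ht
    rw [← hvec]
    have hw : ∀ w : V4, (vecWord w).all (fun x => Nat.blt x 8) = true := by decide +kernel
    exact S.m_eq (by simpa [List.all_eq_true, Nat.blt_eq] using hv) (hw _) ht
  have inV : ∀ x, x ∈ V → ∃ v ∈ vList, x = evW ev (hWord v) := by
    intro x hx
    obtain ⟨w, rfl⟩ := (Frame.mem_V F L).1 hx
    obtain ⟨v, hv, ht, -⟩ := qV w
    exact ⟨v, hv, (hmeq v w (hvl v hv).2 ht).symm⟩
  have inV' : ∀ v ∈ vList, evW ev (hWord v) ∈ V := fun v hv => by
    obtain ⟨w, ht⟩ := qV' v hv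
    exact (Frame.mem_V F L).2 ⟨w, hmeq v w (hvl v hv).2 ht⟩
  -- the five cosets
  let r : Fin 5 → G := fun i => evW ev (hWord (hCosets.getD i []))
  have hr12 : ∀ i : ℕ, ∀ x ∈ hCosets.getD i [], x < 12 := by
    intro i x hx
    rw [List.getD_eq_getElem?_getD] at hx
    cases e : hCosets[i]? with
    | none => simp [e] at hx
    | some w =>
      rw [e] at hx
      exact hblt (List.all_eq_true.1 q12 w (List.mem_of_getElem? e)) x hx
  have hrH : ∀ i, r i ∈ H := fun i => S.closure_k_eq ▸ evW_hWord_mem (hr12 i)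
  have hrev : ∀ i : ℕ, evW ev (hWord (iv (hCosets.getD i []))) = (evW ev (hWord (hCosets.getD i [])))⁻¹ := by
    intro i
    have key : ∀ j < 5, hWord (iv (hCosets.getD j [])) = iv (hWord (hCosets.getD j [])) := by decide +kernel
    rcases Nat.lt_or_ge i 5 with hi | hi
    · rw [key i hi, hiv (hw10 _ (hr12 i))]
    · rw [List.getD_eq_default _ _ (by omega)]; simp [hWord, iv]
  have hmul : ∀ v w : List ℕ, hWord (v ++ w) = hWord v ++ hWord w := fun v w => by simp [hWord]
  have hvinv : ∀ v ∈ vList, evW ev (hWord (iv v)) = (evW ev (hWord v))⁻¹ := by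
    intro v hv
    have key : ∀ v ∈ vList, hWord (iv v) = iv (hWord v) := by decide +kernel
    rw [key v hv, hiv fun x hx => by have := (hvl v hv).2 x hx; omega]
  have hiv12 : ∀ {w : List ℕ}, (∀ x ∈ w, x < 12) → ∀ x ∈ iv w, x < 12 := by
    intro w hw x hx
    simp only [iv, List.mem_reverse, List.mem_map] at hx
    obtain ⟨k, hk, rfl⟩ := hx
    have := hw k hk
    unfold flipLet; split <;> omega
  have hv12 : ∀ v ∈ vList, ∀ x ∈ v, x < 12 := fun v hv x hx => by have := (hvl v hv).1 x hx; omega
  have hdist : ∀ i j : Fin 5, (j : ℕ) < i → r i * (r j)⁻¹ ∉ M := by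
    intro i j hij hmem
    have h0 := List.all_eq_true.1 qd i (List.mem_range.2 i.2)
    obtain ⟨v, hv, hv'⟩ := List.any_eq_true.1 (List.all_eq_true.1 h0 j (List.mem_range.2 hij))
    obtain ⟨v', hv1, e⟩ := inV _ (((L.memM _).1 hmem _).1 (inV' v hv))
    refine S.h_moved hφR ?_ (List.all_eq_true.1 hv' v' hv1) ?_
    · intro x hx
      simp only [List.mem_append] at hx
      rcases hx with (((hx | hx) | hx) | (hx | hx)) | hx
      exacts [hr12 i x hx, hiv12 (hr12 j) x hx, hv12 v hv x hx, hr12 j x hx, hiv12 (hr12 i) x hx,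
        hiv12 (hv12 v' hv1) x hx]
    · simp only [hmul, evW_append, ← hev, hrev, hvinv v' hv1]
      rw [mul_inv_eq_one, ← e]
      simp only [r]
      group
  have hcover : ∀ x ∈ H, ∃ i, x * (r i)⁻¹ ∈ M ⊓ H := by
    intro x hx
    let K : Subgroup H := (M ⊓ H).subgroupOf H
    have hK : K.index = 5 := by
      have h1 := K.card_mul_index
      rw [Nat.card_congr (subgroupOfEquivOfLe (inf_le_right : M ⊓ H ≤ H)).toEquiv, hC', L.cardH] at h1
      omega
    let f : Fin 5 → H ⧸ K := fun i => ((⟨(r i)⁻¹, inv_mem (hrH i)⟩ : H) : H ⧸ K)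
    have hf : Function.Injective f := by
      intro i j e
      rw [QuotientGroup.eq, mem_subgroupOf] at e
      have em : r i * (r j)⁻¹ ∈ M := by simpa using e.1
      by_contra hne
      rcases lt_or_gt_of_ne (fun hc : (i : ℕ) = j => hne (Fin.ext hc)) with hlt | hgt
      · refine hdist j i hlt ?_
        have := inv_mem em
        simpa using this
      · exact hdist i j hgt em
    haveI : Fintype (H ⧸ K) := Fintype.ofFinite _
    have hb := (Fintype.bijective_iff_injective_and_card f).2 ⟨hf, by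
      rw [Fintype.card_fin, ← Nat.card_eq_fintype_card]; exact hK.symm⟩
    obtain ⟨i, hi⟩ := hb.2 ((⟨x⁻¹, inv_mem hx⟩ : H) : H ⧸ K)
    refine ⟨i, ?_⟩
    rw [QuotientGroup.eq, mem_subgroupOf] at hi
    have := inv_mem (show r i * x⁻¹ ∈ M ⊓ H by simpa using hi)
    simpa using this
  obtain ⟨i, hi⟩ := hcover h hhH
  have hi0 : i = 0 := by
    by_contra hne
    have hn := List.all_eq_true.1 qn i (List.mem_range.2 i.2)
    simp only [Bool.or_eq_true, beq_iff_eq] at hn
    rcases hn with hn | hn
    · exact hne (Fin.ext hn)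
    set c := h * (r i)⁻¹ with hc
    have hv : evW ev (hWord [2, 2]) ∈ V := inV' [2, 2] (by decide +kernel)
    have ev2 : hWord [2, 2] = a1w ++ a1w := by decide +kernel
    have hhv : h * evW ev (hWord [2, 2]) = evW ev (hWord [2, 2]) * h := by
      have := hcomm _ (List.getElem_mem (n := 2) (by omega : 2 < chainEnds.length))
      rw [h2 2 (by omega)] at this
      simpa [ev2] using this
    have hmem : r i * evW ev (hWord [2, 2]) * (r i)⁻¹ ∈ V := by
      have e : r i * evW ev (hWord [2, 2]) * (r i)⁻¹ = c⁻¹ * evW ev (hWord [2, 2]) * c⁻¹⁻¹ := by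
        rw [hc, mul_inv_rev, inv_inv, show r i * h⁻¹ * evW ev (hWord [2, 2]) * (r i * h⁻¹)⁻¹ =
          r i * (h⁻¹ * (evW ev (hWord [2, 2]) * h)) * (r i)⁻¹ by group, ← hhv]
        group
      rw [e]
      exact ((L.memM _).1 (inv_mem hi.1) _).1 hv
    obtain ⟨v', hv1, e⟩ := inV _ hmem
    refine S.h_moved hφR ?_ (List.all_eq_true.1 hn v' hv1) ?_
    · intro x hx
      simp only [List.mem_append] at hx
      rcases hx with ((hx | hx) | hx) | hx
      exacts [hr12 i x hx, by simp at hx; omega, hiv12 (hr12 i) x hx, hiv12 (hv12 v' hv1) x hx]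
    · simp only [hmul, evW_append, ← hev, hrev, hvinv v' hv1]
      rw [mul_inv_eq_one]
      exact e
  have hM : h ∈ M ⊓ H := by
    have hr0 : r 0 = 1 := by
      have : hCosets.getD 0 [] = [] := by decide +kernel
      simp only [r]
      rw [show ((0 : Fin 5) : ℕ) = 0 from rfl, this]
      rfl
    rwa [hi0, hr0, inv_one, mul_one] at hi
  obtain ⟨v, w, hw, he⟩ := S.c_elem hM
  rw [← hev] at he
  obtain ⟨hl8, hcase⟩ := cent_facts v w hw
  have hl := hblt hl8
  obtain ⟨cz8, cx8, cz16, cv16⟩ := cent_letters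
  rcases hcase with ⟨x, hx, hmv⟩ | ⟨j, hj, htr⟩
  · exfalso
    have hl' : ∀ k ∈ iv (vecWord v ++ hWord w) ++ hWord x.2 ++ (vecWord v ++ hWord w) ++ iv (hWord x.2), k < 8 := by
      intro k hk
      have hivl : ∀ {w : List ℕ}, (∀ x ∈ w, x < 8) → ∀ x ∈ iv w, x < 8 := by
        intro w hw x hx
        simp only [iv, List.mem_reverse, List.mem_map] at hx
        obtain ⟨k, hk, rfl⟩ := hx
        have := hw k hk
        unfold flipLet; split <;> omega
      simp only [List.mem_append] at hk
      rcases hk with ((hk | hk) | hk) | hk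
      exacts [hivl hl k hk, cx8 x hx k hk, hl k (List.mem_append.2 hk), hivl (cx8 x hx) k hk]
    refine moved_ne hmv ((S.m_iso hl').1 ?_)
    rw [evW_append, evW_append, evW_append, ← hev, hiv fun k hk => by have := hl k hk; omega,
      hiv fun k hk => by have := cx8 x hx k hk; omega, ← he, hcent x hx, mul_inv_cancel]
  have hjl : zCent.getD j [] ∈ zCent := by
    rw [List.getD_eq_getElem _ _ (by omega)]; exact List.getElem_mem _
  have hej : h = evW ev (zCent.getD j []) := by
    rw [he]
    exact S.m_eq hl8 (by simpa [List.all_eq_true, Nat.blt_eq] using cz8 _ hjl) htr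
  have hzv : zVals.getD j [] = zBase ++ zCent.getD j [] := by
    rw [List.getD_eq_getElem _ _ (by omega), List.getD_eq_getElem _ _ (by omega)]
    simp [zVals]
  have hpath : evW ev (pathRel j) = 1 := by
    rw [pathRel, evW_append, hzv, hiv fun k hk => ?_, evW_append, ← hej, hh, mul_inv_cancel_left, mul_inv_cancel]
    rcases List.mem_append.1 hk with hk | hk
    · exact hblt (pk ▸ pk10) k hk
    · have := cz8 _ hjl k hk; omega
  have hspec : ∀ w ∈ stageRels ++ [gRel 2, pathRel j], evW ev w = 1 := by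
    intro w hw
    simp only [List.mem_append, List.mem_cons, List.not_mem_nil, or_false] at hw
    rcases hw with h | rfl | rfl
    exacts [S.stage_rels w h, S.g_rel hφR, hpath]
  obtain ⟨m1, m2, m3, m4, m5, m6, m7, m8, m9, m10, m11, m12, m13, m14, m15⟩ := p_matches
  interval_cases j
  · exact hspec
  · exact (g.not_loop_s m1 hspec fun _ hI => CertP1.loop0 hI).elim
  · exact (g.not_loop_s m2 hspec fun _ hI => CertP2.loop0 hI).elim
  · exact (g.not_loop_s m3 hspec fun _ hI => CertP3.loop0 hI).elim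
  · exact (g.not_loop_s m4 hspec fun _ hI => CertP4.loop0 hI).elim
  · exact (g.not_loop_s m5 hspec fun _ hI => CertP5.loop0 hI).elim
  · exact (g.not_loop_s m6 hspec fun _ hI => CertP6.loop0 hI).elim
  · exact (g.not_loop_s m7 hspec fun _ hI => CertP7.loop0 hI).elim
  · exact (g.not_loop_s m8 hspec fun _ hI => CertP8.loop0 hI).elim
  · exact (g.not_loop_s m9 hspec fun _ hI => CertP9.loop0 hI).elim
  · exact (g.not_loop_s m10 hspec fun _ hI => CertP10.loop0 hI).elim
  · exact (g.not_loop_s m11 hspec fun _ hI => CertP11.loop0 hI).elim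
  · exact (g.not_loop_s m12 hspec fun _ hI => CertP12.loop0 hI).elim
  · exact (g.not_loop_s m13 hspec fun _ hI => CertP13.loop0 hI).elim
  · exact (g.not_loop_s m14 hspec fun _ hI => CertP14.loop0 hI).elim
  · exact (g.not_loop_s m15 hspec fun _ hI => CertP15.loop0 hI).elim

end CfsgLib.HSRecog
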