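import Mathlib.GroupTheory.GroupAction.Quotient
import Mathlib.GroupTheory.GroupAction.ConjAct
import Mathlib.GroupTheory.Index
import Mathlib.GroupTheory.Perm.Cycle.Type
import Mathlib.GroupTheory.Subgroup.Centralizer
import Mathlib.Algebra.Order.BigOperators.Group.Finset
import Mathlib.Tactic.Group

/-!
The endgame of the recognition of the Higman–Sims group: a subgroup of the right order containing the
centraliser of the involution is the whole group, by counting the conjugates that swap two cosets.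
-/

set_option autoImplicit false
set_option linter.style.haveILetI false

namespace CfsgLib.HSRecog

open Subgroup MulAction
open scoped Classical

theorem eq_top_of_swappers {G : Type*} [Group G] [Finite G] (G0 : Subgroup G) {t b : G}
    (ht2 : t * t = 1) (ht1 : t ≠ 1) (htG : t ∈ G0) (hH : Subgroup.centralizer ({t} : Set G) ≤ G0)
    (hcH : Nat.card (Subgroup.centralizer ({t} : Set G)) = 7680) (hG0 : Nat.card G0 = 44352000)
    (hinv : ∀ x ∈ G0, x * x = 1 → x ≠ 1 → ∃ g ∈ G0, g⁻¹ * x * g = t ∨ g⁻¹ * x * g = b)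
    (hbt : ∀ g : G, g⁻¹ * b * g ≠ t) {Ω : Type*} [Finite Ω] [MulAction G0 Ω] (hΩ : Nat.card Ω = 100)
    (hbfix : ∀ x : G0, (x : G) = b → ∀ p : Ω, x • p ≠ p)
    (hodd : ∀ (p : Ω) (S : Subgroup G0), S ≤ MulAction.stabilizer G0 p → Odd (Nat.card S) →
      Nat.card S ≤ 55) : G0 = ⊤ := by
  classical
  haveI := Fintype.ofFinite G
  haveI := Fintype.ofFinite (G ⧸ G0)
  by_contra htop
  set o : G ⧸ G0 := ((1 : G) : G ⧸ G0)
  -- conjugates of `t` in `G0` are conjugate to `t` there
  have hloc : ∀ h : G, h⁻¹ * t * h ∈ G0 → h ∈ G0 := by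
    intro h hh
    have h2 : h⁻¹ * t * h * (h⁻¹ * t * h) = 1 := by
      rw [show h⁻¹ * t * h * (h⁻¹ * t * h) = h⁻¹ * (t * t) * h by group, ht2]; group
    have h3 : h⁻¹ * t * h ≠ 1 := fun e => ht1 (by
      rw [show t = h * (h⁻¹ * t * h) * h⁻¹ by group, e]; group)
    obtain ⟨k, hk, hk'⟩ := hinv _ hh h2 h3
    rcases hk' with e | e
    · have hc : h * k ∈ centralizer ({t} : Set G) := mem_centralizer_singleton_iff.2 <| by
        calc h * k * t = h * k * (k⁻¹ * (h⁻¹ * t * h) * k) := by rw [e]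
          _ = t * (h * k) := by group
      have := G0.mul_mem (hH hc) (G0.inv_mem hk)
      rwa [mul_inv_cancel_right] at this
    · exact absurd (by rw [← e]; group : ((h * k)⁻¹)⁻¹ * b * (h * k)⁻¹ = t) (hbt (h * k)⁻¹)
  -- a conjugate of `t` fixes one coset only
  have hfix : ∀ x : G, IsConj t x → ∀ p q : G ⧸ G0, x • p = p → x • q = q → p = q := by
    intro x hx p q hp hq
    obtain ⟨h, rfl⟩ := isConj_iff.1 hx
    have key : ∀ r : G ⧸ G0, (h * t * h⁻¹) • r = r → r = (h : G ⧸ G0) := by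
      intro r hr
      induction r using QuotientGroup.induction_on with
      | H g =>
        have h1 : g⁻¹ * (h * t * h⁻¹) * g ∈ G0 := by
          have := QuotientGroup.eq.1 hr.symm
          simpa [smul_eq_mul, mul_assoc] using this
        rw [show g⁻¹ * (h * t * h⁻¹) * g = (h⁻¹ * g)⁻¹ * t * (h⁻¹ * g) by group] at h1
        exact (QuotientGroup.eq.2 (hloc _ h1)).symm
    rw [key p hp, key q hq]
  set T : Finset G := Finset.univ.filter (IsConj t)
  have hT : T.card * 7680 = Nat.card G := by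
    rw [← hcH, ← Subgroup.index_mul_card (centralizer ({t} : Set G))]
    congr 1
    rw [← Fintype.card_subtype, ← Nat.card_eq_fintype_card,
      Subgroup.index, Nat.card_congr (Equiv.subtypeEquivRight fun x =>
        (show IsConj t x ↔ x ∈ MulAction.orbit (ConjAct G) t by
          rw [isConj_comm]; exact ConjAct.mem_orbit_conjAct.symm)),
      Subgroup.centralizer_eq_comap_stabilizer]
    rw [Nat.card_congr (MulAction.orbitEquivQuotientStabilizer (ConjAct G) t)]
    rfl
  -- the conjugates fixing the base coset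
  have hA : (T.filter fun x => x • o = o).card * 7680 = 44352000 := by
    set A := T.filter fun x => x • o = o
    have hAmem : ∀ x, x ∈ A ↔ ∃ k : G0, (k : G) * t * (k : G)⁻¹ = x := by
      intro x
      simp only [A, T, Finset.mem_filter, Finset.mem_univ, true_and, o]
      constructor
      · rintro ⟨hx, hfx⟩
        obtain ⟨h, rfl⟩ := isConj_iff.1 hx
        have h1 : (h * t * h⁻¹) ∈ G0 := by simpa using QuotientGroup.eq.1 hfx.symm
        have h2 := hloc h⁻¹ (by simpa using h1)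
        exact ⟨⟨h, inv_mem_iff.1 h2⟩, rfl⟩
      · rintro ⟨k, rfl⟩
        refine ⟨isConj_iff.2 ⟨k, rfl⟩, (QuotientGroup.eq.2 ?_).symm⟩
        simpa using G0.mul_mem (G0.mul_mem k.2 htG) (G0.inv_mem k.2)
    have := Finset.card_eq_sum_card_fiberwise (s := (Finset.univ : Finset G0)) (t := A)
      (f := fun k : G0 => (k : G) * t * (k : G)⁻¹) (fun k _ => by
        simp only [Finset.mem_coe]; exact (hAmem _).2 ⟨k, rfl⟩)
    rw [Finset.card_univ, ← Nat.card_eq_fintype_card, hG0] at this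
    rw [this, Finset.sum_const_nat (m := 7680)]
    intro x hx
    obtain ⟨k₀, hk₀⟩ := (hAmem x).1 hx
    rw [← hcH, Nat.card_eq_fintype_card, ← Finset.card_univ]
    refine Finset.card_bij (fun k _ => ⟨(k₀ : G)⁻¹ * (k : G), ?_⟩) (fun _ _ => Finset.mem_univ _) ?_ ?_
    · rename_i hk
      refine mem_centralizer_singleton_iff.2 ?_
      have hk' : (k : G) * t * (k : G)⁻¹ = x := (Finset.mem_filter.1 hk).2
      calc (k₀ : G)⁻¹ * k * t = (k₀ : G)⁻¹ * ((k : G) * t * (k : G)⁻¹) * k := by group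
        _ = t * ((k₀ : G)⁻¹ * k) := by rw [hk', ← hk₀]; group
    · intro k _ k' _ e
      exact Subtype.ext (mul_left_cancel (congrArg Subtype.val e))
    · intro c _
      refine ⟨k₀ * ⟨c, hH c.2⟩, ?_, Subtype.ext ?_⟩
      · simp only [Finset.mem_filter, Finset.mem_univ, true_and, Subgroup.coe_mul]
        rw [← hk₀]
        calc (k₀ : G) * c * t * ((k₀ : G) * c)⁻¹ = k₀ * ((c : G) * t) * (c : G)⁻¹ * (k₀ : G)⁻¹ := by group
          _ = k₀ * t * (k₀ : G)⁻¹ := by rw [mem_centralizer_singleton_iff.1 c.2]; group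
      · simp
  -- a pair of cosets with many swappers
  have hidx := Subgroup.index_mul_card G0
  rw [hG0] at hidx
  have hn : 2 ≤ G0.index := Subgroup.one_lt_index_of_ne_top htop
  obtain ⟨q, hqo, hq⟩ : ∃ q, q ≠ o ∧ 5775 ≤ (T.filter fun x => x • o = q).card := by
    by_contra! hc
    have hsum := Finset.card_eq_sum_card_fiberwise (s := T) (t := (Finset.univ : Finset (G ⧸ G0)))
      (f := fun x => x • o) (fun x _ => Finset.mem_coe.2 (Finset.mem_univ _))
    rw [← Finset.add_sum_erase _ _ (Finset.mem_univ o)] at hsum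
    have hle : ∀ q ∈ (Finset.univ : Finset (G ⧸ G0)).erase o,
        (T.filter fun x => x • o = q).card ≤ 5774 := fun q hq => by
      have := hc q (Finset.mem_erase.1 hq).1
      omega
    have h1 := Finset.sum_le_card_nsmul _ _ _ hle
    rw [Finset.card_erase_of_mem (Finset.mem_univ _), Finset.card_univ, ← Nat.card_eq_fintype_card,
      ← Subgroup.index, smul_eq_mul] at h1
    omega
  set S := T.filter fun x => x • o = q
  obtain ⟨x₀, hx₀⟩ : S.Nonempty := Finset.card_pos.1 (by omega)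
  set F : Subgroup G := stabilizer G o ⊓ stabilizer G q
  have hswap : ∀ x ∈ S, x • o = q ∧ x • q = o ∧ x⁻¹ • o = q ∧ x⁻¹ • q = o := by
    intro x hx
    obtain ⟨hxT, hxo⟩ := Finset.mem_filter.1 hx
    obtain ⟨h, rfl⟩ := isConj_iff.1 (Finset.mem_filter.1 hxT).2
    have hh : (h * t * h⁻¹)⁻¹ = h * t * h⁻¹ := inv_eq_of_mul_eq_one_right (by
      rw [show h * t * h⁻¹ * (h * t * h⁻¹) = h * (t * t) * h⁻¹ by group, ht2]; group)
    refine ⟨hxo, ?_, by rw [hh]; exact hxo, ?_⟩
    · rw [← hxo]; nth_rw 1 [← hh]; rw [inv_smul_smul]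
    · rw [← hxo, inv_smul_smul]
  have hSF : S.card ≤ Nat.card F := by
    rw [Nat.card_eq_fintype_card, ← Finset.card_univ]
    refine Finset.card_le_card_of_injOn (fun x => if hx : x₀⁻¹ * x ∈ F then ⟨_, hx⟩ else 1)
      (fun _ _ => Finset.mem_coe.2 (Finset.mem_univ _)) ?_
    have hmem : ∀ x ∈ S, x₀⁻¹ * x ∈ F := fun x hx => by
      obtain ⟨h1, h2, -, -⟩ := hswap x hx
      obtain ⟨-, -, h3, h4⟩ := hswap x₀ hx₀
      exact ⟨by show (x₀⁻¹ * x) • o = o; rw [mul_smul, h1, h4],
        by show (x₀⁻¹ * x) • q = q; rw [mul_smul, h2, h3]⟩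
    intro x hx y hy e
    simp only [dif_pos (hmem x hx), dif_pos (hmem y hy)] at e
    exact mul_left_cancel (congrArg Subtype.val e)
  have hFG : F ≤ G0 := fun x hx => by
    have h : (((1 : G) : G ⧸ G0)) = ((x * 1 : G) : G ⧸ G0) := hx.1.symm
    simpa using QuotientGroup.eq.1 h
  -- the involutions of F move all points
  set F' : Subgroup G0 := F.subgroupOf G0
  have hFfix : ∀ f : G0, f ∈ F' → orderOf f = 2 → ∀ p : Ω, f • p ≠ p := by
    intro f hf ho p hp
    have h2 : (f : G) * f = 1 := by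
      rw [← Subgroup.coe_mul, ← pow_two, ← ho, pow_orderOf_eq_one, OneMemClass.coe_one]
    have h1 : (f : G) ≠ 1 := fun e => by
      rw [show f = 1 from Subtype.ext e, orderOf_one] at ho
      omega
    obtain ⟨k, hk, e | e⟩ := hinv f f.2 h2 h1
    · refine hqo (hfix f (isConj_iff.2 ⟨k, by rw [← e]; group⟩) q o hf.2 hf.1)
    · refine hbfix ((⟨k, hk⟩ : G0)⁻¹ * f * ⟨k, hk⟩) e ((⟨k, hk⟩ : G0)⁻¹ • p) ?_
      rw [mul_smul, smul_inv_smul, mul_smul, hp]
  obtain ⟨p⟩ : Nonempty Ω := (Nat.card_ne_zero.1 (by rw [hΩ]; norm_num)).1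
  have hstab : Nat.card (F' ⊓ stabilizer G0 p : Subgroup G0) ≤ 55 := by
    refine hodd p _ inf_le_right ?_
    rw [← Nat.not_even_iff_odd, even_iff_two_dvd]
    intro h2
    haveI := Fact.mk Nat.prime_two
    obtain ⟨⟨f, hf⟩, hf'⟩ := exists_prime_orderOf_dvd_card'
      (G := ↥(F' ⊓ stabilizer G0 p : Subgroup G0)) 2 h2
    rw [Subgroup.orderOf_mk] at hf'
    exact hFfix f hf.1 hf' p hf.2
  have horb : Nat.card F' ≤ 100 * 55 := by
    have hos := Nat.card_congr (MulAction.orbitProdStabilizerEquivGroup F' p)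
    rw [Nat.card_prod] at hos
    have h1 : Nat.card (MulAction.orbit F' p) ≤ 100 := hΩ ▸ Nat.card_le_card_of_injective _ Subtype.val_injective
    have h2 : Nat.card (MulAction.stabilizer F' p) ≤ 55 := by
      refine le_trans (le_of_eq ?_) hstab
      exact Nat.card_congr
        ⟨fun x => ⟨x.1.1, x.1.2, x.2⟩, fun y => ⟨⟨y.1, y.2.1⟩, y.2.2⟩, fun _ => rfl, fun _ => rfl⟩
    rw [← hos]
    exact Nat.mul_le_mul h1 h2
  rw [Nat.card_congr (Subgroup.subgroupOfEquivOfLe hFG).toEquiv] at horb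
  omega

end CfsgLib.HSRecog
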