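import Cfsg.Agent.Lib.HSRecog.Model

/-!
# Checks for the involutions of the model
-/

set_option autoImplicit false
set_option maxRecDepth 16000
set_option synthInstance.maxSize 50000

namespace CfsgLib.HSRecog

open CfsgLib.Presented ModelData

theorem invB_free : ((List.range 100).all fun i => !Nat.beq (Vec.netPerm (rep.netW invB) i) i) = true ∧
    (invB.all fun x => Nat.blt x 10) = true := by decide +kernel

theorem cent_checks : triv (centA ++ centA ++ centA) = true ∧ triv (centB ++ centB ++ centB) = true ∧
    triv (centA ++ centB ++ iv (centB ++ centA)) = true ∧ triv (centA ++ invB ++ iv (invB ++ centA)) = true ∧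
    triv (centB ++ invB ++ iv (invB ++ centB)) = true ∧
    ((List.range 3).all fun i => (List.range 3).all fun j => (i == 0 && j == 0) ||
      moved ((List.replicate i centA).flatten ++ (List.replicate j centB).flatten)) = true := by decide +kernel

/-- The three generating involutions of the Sylow subgroup modulo `A`. -/
def sylGens : List (List ℕ) := [[6], [5, 6, 4], [2, 6, 3]]

/-- The check of one element of the Sylow subgroup. -/
noncomputable def sylB (v : V4) (i : ℕ) : Bool :=
  let e := vecWord v ++ sylReps.getD i []
  moved (e ++ e) || triv e || sylInv.any fun r =>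
    decide (r.1 = i) && decide (r.2.1 = vecWord v) &&
      triv (e ++ iv (iv r.2.2.2 ++ (if r.2.2.1 then invB else [0, 0]) ++ r.2.2.2))

theorem syl_checks : sylReps.length = 8 ∧ sylReps.getD 0 [1] = [] ∧
    (sylReps.all fun w => w.all fun x => Nat.blt x 8) = true ∧ (sylReps.map wMat).Nodup ∧
    ((List.range 3).all fun k => (List.range 8).all fun i => (List.range 8).any fun j =>
      triv (sylGens.getD k [] ++ sylReps.getD i [] ++ iv (sylReps.getD j []))) = true ∧
    ((List.range 3).all fun k => triv (sylGens.getD k [] ++ sylGens.getD k [])) = true ∧
    ((List.range 8).all fun i => (List.range 2).any fun b0 => (List.range 2).any fun b1 => (List.range 2).any fun b2 =>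
      decide (sylReps.getD i [] = (List.replicate b0 [6]).flatten ++ (List.replicate b1 [5, 6, 4]).flatten ++
        (List.replicate b2 [2, 6, 3]).flatten)) = true ∧
    (sylGens.all fun w => w.all fun x => Nat.blt x 8) = true ∧
    (sylInv.all fun r => r.2.2.2.all fun x => Nat.blt x 10) = true := by decide +kernel

theorem syl_inv : ∀ v : V4, (List.range 8).all (sylB v) = true := by decide +kernel

end CfsgLib.HSRecog
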