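import Cfsg.Agent.Lib.HSRecog.Odd
import Cfsg.Agent.Lib.HSRecog.Path
import Cfsg.Agent.Lib.HSRecog.SylData
import Cfsg.Agent.Lib.HSRecog.Swappers

/-!
# The generated subgroup is HS and is the whole group
-/

set_option autoImplicit false
set_option linter.style.haveILetI false
set_option linter.unusedSectionVars false
set_option maxRecDepth 16000
set_option synthInstance.maxSize 50000

namespace CfsgLib.HSRecog

open Subgroup CfsgLib.Presented ModelData

local notation "S5" => Equiv.Perm (Fin 5)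
local notation "Pm" => Equiv.Perm (Fin rep.N)

attribute [local irreducible] Vec.netPerm Rep.netW triv moved

/-- Two commuting elements of order three. -/
theorem nine_dvd {K : Type*} [Group K] [Finite K] {x y : K} (hx : x ^ 3 = 1) (hy : y ^ 3 = 1)
    (hc : x * y = y * x) (hne : ∀ i < 3, ∀ j < 3, ¬ (i = 0 ∧ j = 0) → x ^ i * y ^ j ≠ 1) :
    9 ∣ Nat.card K := by
  have hmulp : ∀ {g : K}, g ^ 3 = 1 → ∀ i j : ZMod 3, g ^ (i + j).val = g ^ i.val * g ^ j.val := by
    intro g hg i j
    rw [ZMod.val_add, ← pow_add, ← pow_mod_orderOf g ((i.val + j.val) % 3), ← pow_mod_orderOf g (i.val + j.val),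
      Nat.mod_mod_of_dvd _ (orderOf_dvd_of_pow_eq_one hg)]
  have hc' : Commute x y := hc
  let ψ : Multiplicative (ZMod 3) × Multiplicative (ZMod 3) →* K :=
    { toFun := fun p => x ^ p.1.toAdd.val * y ^ p.2.toAdd.val
      map_one' := by simp
      map_mul' := fun p r => by
        simp only [Prod.fst_mul, Prod.snd_mul, toAdd_mul]
        rw [hmulp hx, hmulp hy, mul_assoc, ← mul_assoc (x ^ r.1.toAdd.val), (hc'.pow_pow _ _).eq]
        simp only [mul_assoc] }
  have hinj : Function.Injective ψ := by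
    refine (MonoidHom.ker_eq_bot_iff ψ).1 ((Subgroup.eq_bot_iff_forall _).2 fun p hp => ?_)
    by_contra h1
    refine hne p.1.toAdd.val (ZMod.val_lt _) p.2.toAdd.val (ZMod.val_lt _) ?_ (MonoidHom.mem_ker.1 hp)
    rintro ⟨h2, h3⟩
    exact h1 (Prod.ext (toAdd_eq_zero.1 ((ZMod.val_eq_zero _).1 h2)) (toAdd_eq_zero.1 ((ZMod.val_eq_zero _).1 h3)))
  have h := card_subgroup_dvd_card ψ.range
  rw [Nat.card_congr (MonoidHom.ofInjective hinj).toEquiv.symm] at h
  simpa using h

variable {G : Type*} [Group G] [Finite G] {t a q y u s : G} {H R V M A : Subgroup G}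

/-- The subgroup generated by the five elements. -/
def G0 (a q y u s : G) : Subgroup G := closure {a, q, y, u, s}

theorem ev_mem_G0 (a q y u s : G) (w : List ℕ) : evW (evS a q y u s) w ∈ G0 a q y u s := by
  refine list_prod_mem fun z hz => ?_
  obtain ⟨x, -, rfl⟩ := List.mem_map.1 hz
  have m : ∀ z ∈ ({a, q, y, u, s} : Set G), z ∈ G0 a q y u s := fun z => (subset_closure ·)
  rcases x with _ | _ | _ | _ | _ | _ | _ | _ | _ | _ | n
  exacts [m a (by simp), inv_mem (m a (by simp)), m q (by simp), inv_mem (m q (by simp)), m y (by simp),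
    inv_mem (m y (by simp)), m u (by simp), inv_mem (m u (by simp)), m s (by simp), inv_mem (m s (by simp)),
    one_mem _]

namespace Stage

variable (S : Stage t a q y u s H R V M A) {φ : H →* S5} (hφR : ∀ h : H, φ h = 1 ↔ (h : G) ∈ R)
include S hφR

/-- The generated subgroup is the model. -/
theorem exists_equiv : ∃ e : G0 a q y u s ≃* Γ, ∀ w : List ℕ,
    ((e ⟨_, ev_mem_G0 a q y u s w⟩ : Γ) : Pm) = evW evP w := by
  classical
  have g := S.gens
  have hM2 : ∀ w ∈ mRels, evW (evW2 a q y u s) w = 1 := fun w hw =>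
    evW2_one a q y u s (S.m_rels w hw) (model_mRels w hw)
  obtain ⟨fK, hK⟩ := card_K_le' (W := G × Pm) (a := (a, pm 0)) (q := (q, pm 2)) (y := (y, pm 4)) (u := (u, pm 6))
    (s := (s, pm 8)) hM2
    (fun w hw => Prod.ext (by
      show (evW (evW2 a q y u s) w).1 * (a * a) = (a * a) * (evW (evW2 a q y u s) w).1
      rw [evW2_fst, g.loc.a2]; exact S.c_comm_t w hw) (by
      show (evW (evW2 a q y u s) w).2 * (pm 0 * pm 0) = (pm 0 * pm 0) * (evW (evW2 a q y u s) w).2
      rw [evW2_snd]; exact evP_comm_t w hw))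
    (fun i hi hi0 e => evP_tconj i hi hi0 (by simpa using congrArg Prod.snd e))
    (fun w hw => evW2_one a q y u s (S.h_rels hφR w hw) (model_hRels w hw))
  haveI := fK
  obtain ⟨fL, hL⟩ := card_G_le (W := G × Pm) (a := (a, pm 0)) (q := (q, pm 2)) (y := (y, pm 4)) (u := (u, pm 6))
    (s := (s, pm 8)) (fun w hw => evW2_one a q y u s (S.all_rels hφR w hw) (model_allRels w hw)) hK
  let L := closure ({(a, pm 0), (q, pm 2), (y, pm 4), (u, pm 6), (s, pm 8)} : Set (G × Pm))
  haveI : Finite L := fL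
  have hL0 : G0 (a, pm 0) (q, pm 2) (y, pm 4) (u, pm 6) (s, pm 8) = L := rfl
  have h1 : L.map (MonoidHom.fst G Pm) = G0 a q y u s := by
    rw [MonoidHom.map_closure, G0]; congr 1; simp [Set.image_insert_eq]
  have h2 : L.map (MonoidHom.snd G Pm) = Γ := by
    rw [MonoidHom.map_closure, Γ]; congr 1; simp [Set.image_insert_eq]
  let f1 : L →* G0 a q y u s := (((MonoidHom.fst G Pm).comp L.subtype).codRestrict _ fun p =>
    h1 ▸ ⟨p.1, p.2, rfl⟩)
  let f2 : L →* Γ := (((MonoidHom.snd G Pm).comp L.subtype).codRestrict _ fun p => h2 ▸ ⟨p.1, p.2, rfl⟩)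
  have s1 : Function.Surjective f1 := by
    rintro ⟨x, hx⟩
    rw [← h1] at hx
    obtain ⟨p, hp, rfl⟩ := hx
    exact ⟨⟨p, hp⟩, rfl⟩
  have s2 : Function.Surjective f2 := by
    rintro ⟨x, hx⟩
    rw [← h2] at hx
    obtain ⟨p, hp, rfl⟩ := hx
    exact ⟨⟨p, hp⟩, rfl⟩
  haveI : Fintype L := Fintype.ofFinite L
  haveI : Fintype Γ := Fintype.ofFinite Γ
  have b2 : Function.Bijective f2 := (Fintype.bijective_iff_surjective_and_card f2).2 ⟨s2, by
    rw [← Nat.card_eq_fintype_card, ← Nat.card_eq_fintype_card, card_Γ]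
    have h3 := Nat.card_le_card_of_surjective f2 s2
    rw [card_Γ] at h3
    exact le_antisymm hL h3⟩
  let e2 : L ≃* Γ := MulEquiv.ofBijective f2 b2
  let π : Γ →* G0 a q y u s := f1.comp e2.symm.toMonoidHom
  have hπs : Function.Surjective π := fun x => by
    obtain ⟨p, hp⟩ := s1 x
    exact ⟨e2 p, by simp [π, hp]⟩
  have hwL : ∀ w, evW (evW2 a q y u s) w ∈ L := fun w => hL0 ▸ ev_mem_G0 _ _ _ _ _ w
  have hword : ∀ w, ∀ x : Γ, (x : Pm) = evW evP w → π x = ⟨_, ev_mem_G0 a q y u s w⟩ := by
    intro w x hx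
    have hp : e2 ⟨_, hwL w⟩ = x := Subtype.ext (by
      show (evW (evW2 a q y u s) w).2 = _
      rw [evW2_snd, hx])
    rw [← hp]
    simp only [π, MonoidHom.comp_apply, MulEquiv.coe_toMonoidHom, MulEquiv.symm_apply_apply]
    exact Subtype.ext (evW2_fst a q y u s w)
  have hΓw : ∀ w, evW evP w ∈ Γ := fun w => h2 ▸ ⟨_, hwL w, evW2_snd a q y u s w⟩
  haveI := isSimple_Γ
  have hπi : Function.Injective π := by
    rcases IsSimpleGroup.eq_bot_or_eq_top_of_normal π.ker inferInstance with hk | hk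
    · exact (MonoidHom.ker_eq_bot_iff π).1 hk
    exfalso
    have ha : π ⟨_, hΓw [0]⟩ = 1 := MonoidHom.mem_ker.1 (hk ▸ Subgroup.mem_top _)
    rw [hword [0] _ rfl] at ha
    have hta : a = 1 := by simpa [evS] using congrArg Subtype.val ha
    exact g.loc.t1 (by rw [← g.loc.a2, hta, one_mul])
  let e := MulEquiv.ofBijective π ⟨hπi, hπs⟩
  refine ⟨e.symm, fun w => ?_⟩
  have : e.symm ⟨_, ev_mem_G0 a q y u s w⟩ = ⟨_, hΓw w⟩ := by
    rw [MulEquiv.symm_apply_eq]
    exact (hword w _ rfl).symm
  rw [this]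

/-- The whole group is HS. -/
theorem isoHS : Cfsg.Spor.IsoHS G := by
  classical
  have g := S.gens
  have L := g.loc
  have F := g.frame
  obtain ⟨e, he⟩ := S.exists_equiv hφR
  set ev := evS a q y u s with hev
  let wd : List ℕ → G0 a q y u s := fun w => ⟨_, ev_mem_G0 a q y u s w⟩
  have hblt : ∀ {n : ℕ} {w : List ℕ}, (w.all fun x => Nat.blt x n) = true → ∀ x ∈ w, x < n := fun h x hx => by
    have := List.all_eq_true.1 h x hx; rwa [Nat.blt_eq] at this
  have g0_one : ∀ {w : List ℕ}, triv w = true → evW ev w = 1 := by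
    intro w h
    have h1 : e (wd w) = e 1 := by
      rw [map_one]; exact Subtype.ext ((he w).trans (triv_eq h))
    exact congrArg Subtype.val (e.injective h1)
  have g0_ne : ∀ {w : List ℕ}, moved w = true → evW ev w ≠ 1 := by
    intro w h h1
    apply moved_ne h
    rw [← he w, show (⟨_, ev_mem_G0 a q y u s w⟩ : G0 a q y u s) = 1 from Subtype.ext h1, map_one]
    rfl
  have hiv : ∀ {w : List ℕ}, (∀ x ∈ w, x < 10) → evW ev (iv w) = (evW ev w)⁻¹ := fun h => evW_iv a q y u s h
  have g0_eq : ∀ {v w : List ℕ}, (w.all fun x => Nat.blt x 10) = true → triv (v ++ iv w) = true →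
      evW ev v = evW ev w := by
    intro v w hw h
    have h1 := g0_one h
    rwa [evW_append, hiv (hblt hw), mul_inv_eq_one] at h1
  have et : evW ev [0, 0] = t := by simp [hev, evS, L.a2]
  have htG : t ∈ G0 a q y u s := et ▸ ev_mem_G0 a q y u s _
  have hcent : centralizer ({t} : Set G) = H := by
    ext x
    rw [mem_centralizer_iff, L.memH]
    exact ⟨fun h => (h t rfl).symm, fun h z hz => by rw [Set.mem_singleton_iff.1 hz]; exact h.symm⟩
  have hH : centralizer ({t} : Set G) ≤ G0 a q y u s := by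
    rw [hcent, ← S.closure_k_eq, closure_le]
    rintro _ ⟨w, -, rfl⟩
    exact ev_mem_G0 a q y u s w
  have hcard : Nat.card (G0 a q y u s) = 44352000 := by rw [Nat.card_congr e.toEquiv, card_Γ]
  set b := evW ev invB with hb
  -- the involutions of the generated subgroup
  obtain ⟨y8, y0, yl, ynd, ytab, ysq, ysub, ygl, ywl⟩ := syl_checks
  let P : Subgroup G := closure ((A : Set G) ∪ {x | ∃ w ∈ sylGens, evW ev w = x})
  let T : V4 × Fin 8 → G := fun p => fv a q p.1 * evW ev (sylReps.getD p.2 [])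
  have hsl : ∀ i : ℕ, ∀ x ∈ sylReps.getD i [], x < 8 := by
    intro i x hx
    rw [List.getD_eq_getElem?_getD] at hx
    cases h : sylReps[i]? with
    | none => simp [h] at hx
    | some w =>
      rw [h] at hx
      exact hblt (List.all_eq_true.1 yl w (List.mem_of_getElem? h)) x hx
  have hgl : ∀ k, ∀ x ∈ sylGens.getD k [], x < 8 := by
    intro k x hx
    rw [List.getD_eq_getElem?_getD] at hx
    cases h : sylGens[k]? with
    | none => simp [h] at hx
    | some w =>
      rw [h] at hx
      exact hblt (List.all_eq_true.1 ygl w (List.mem_of_getElem? h)) x hx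
  have hsylg : ∀ w ∈ sylGens, ∃ k < 3, w = sylGens.getD k [] := by decide +kernel
  have hAT : ∀ x ∈ A, ∀ p, ∃ p', x * T p = T p' := by
    intro x hx p
    obtain ⟨v, rfl⟩ := L.exists_fv F.qM F.orderQ hx
    exact ⟨(v + p.1, p.2), by simp only [T]; rw [L.fv_add F.qM F.orderQ, mul_assoc]⟩
  have hgT : ∀ k < 3, ∀ p, ∃ p', evW ev (sylGens.getD k []) * T p = T p' := by
    intro k hk p
    set x := evW ev (sylGens.getD k [])
    have hxM : x ∈ M := g.closure_le_M (evW_mem_closure (hgl k))
    obtain ⟨v', hv'⟩ := L.exists_fv F.qM F.orderQ (L.Aconj x hxM _ (L.fv_mem F.qM F.orderQ p.1))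
    obtain ⟨j, hj, hj'⟩ := List.any_eq_true.1
      (List.all_eq_true.1 (List.all_eq_true.1 ytab k (List.mem_range.2 hk)) p.2 (List.mem_range.2 p.2.2))
    refine ⟨(v', ⟨j, List.mem_range.1 hj⟩), ?_⟩
    have h2 := g0_one hj'
    rw [evW_append, evW_append, hiv fun z hz => by have := hsl j z hz; omega, mul_inv_eq_one] at h2
    simp only [T]
    rw [hv', ← h2]
    simp only [x]
    group
  have hginv : ∀ w ∈ sylGens, (evW ev w)⁻¹ = evW ev w := by
    intro w hw
    obtain ⟨k, hk, rfl⟩ := hsylg w hw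
    refine inv_eq_of_mul_eq_one_right ?_
    rw [← evW_append]
    exact g0_one (List.all_eq_true.1 ysq k (List.mem_range.2 hk))
  have hPT : ∀ x ∈ P, ∃ p, x = T p := by
    intro x hx
    induction hx using closure_induction_left with
    | one =>
      refine ⟨(0, 0), ?_⟩
      have h0 : sylReps.getD 0 [] = [] := by decide +kernel
      show (1 : G) = fv a q 0 * evW ev (sylReps.getD ((0 : Fin 8) : ℕ) [])
      rw [show ((0 : Fin 8) : ℕ) = 0 from rfl, h0, evW_nil, mul_one, L.fv_zero F.qM F.orderQ]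
    | mul_left x hx z _ ih =>
      obtain ⟨p, rfl⟩ := ih
      rcases hx with hx | ⟨w, hw, rfl⟩
      · exact hAT x hx p
      · obtain ⟨k, hk, rfl⟩ := hsylg w hw; exact hgT k hk p
    | inv_mul_cancel x hx z _ ih =>
      obtain ⟨p, rfl⟩ := ih
      rcases hx with hx | ⟨w, hw, rfl⟩
      · exact hAT _ (inv_mem hx) p
      · rw [hginv w hw]; obtain ⟨k, hk, rfl⟩ := hsylg w hw; exact hgT k hk p
  have hPA : ∀ v, fv a q v ∈ P := fun v => subset_closure (Or.inl (L.fv_mem F.qM F.orderQ v))
  have hPr : ∀ w ∈ sylReps, evW ev w ∈ P := by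
    intro w hw
    obtain ⟨i, hi, rfl⟩ := List.getElem_of_mem hw
    have h := List.all_eq_true.1 ysub i (List.mem_range.2 (y8 ▸ hi))
    simp only [List.any_eq_true, decide_eq_true_eq] at h
    obtain ⟨b0, -, b1, -, b2, -, h⟩ := h
    rw [List.getD_eq_getElem _ _ hi] at h
    have hgP : ∀ w ∈ sylGens, evW ev w ∈ P := fun w hw =>
      (closure_le P).1 (le_refl P) (Set.mem_union_right _ ⟨w, hw, rfl⟩)
    rw [h, evW_append, evW_append, evW_flatten_replicate, evW_flatten_replicate, evW_flatten_replicate]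
    exact mul_mem (mul_mem (pow_mem (hgP [6] (by simp [sylGens])) _)
      (pow_mem (hgP [5, 6, 4] (by simp [sylGens])) _))
      (pow_mem (hgP [2, 6, 3] (by simp [sylGens])) _)
  have hPcard : Nat.card P = 512 := by
    have hge := card_ge_of_reps g P hPA sylReps (fun w hw => hblt (List.all_eq_true.1 yl w hw)) hPr ynd
    rw [y8] at hge
    let f : P → V4 × Fin 8 := fun x => Classical.choose (hPT x x.2)
    have hf : Function.Injective f := fun x z h => Subtype.ext (by
      rw [Classical.choose_spec (hPT x x.2), Classical.choose_spec (hPT z z.2)]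
      exact congrArg T h)
    have hle := Nat.card_le_card_of_injective f hf
    have : Nat.card (V4 × Fin 8) = 512 := by simp [Nat.card_eq_fintype_card]
    omega
  have hPle : P ≤ G0 a q y u s := by
    rw [closure_le]
    rintro x (hx | ⟨w, -, rfl⟩)
    · obtain ⟨v, rfl⟩ := L.exists_fv F.qM F.orderQ hx
      rw [← g.ev_vecWord v]; exact ev_mem_G0 a q y u s _
    · exact ev_mem_G0 a q y u s w
  haveI : Fact (Nat.Prime 2) := ⟨Nat.prime_two⟩
  let P' : Subgroup (G0 a q y u s) := P.subgroupOf _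
  have hP' : Nat.card P' = 2 ^ (Nat.card (G0 a q y u s)).factorization 2 := by
    rw [Nat.card_congr (subgroupOfEquivOfLe hPle).toEquiv, hPcard, hcard,
      show (44352000 : ℕ) = 2 ^ 9 * 86625 by norm_num, Nat.factorization_mul (by norm_num) (by norm_num),
      Finsupp.add_apply, Nat.Prime.factorization_pow Nat.prime_two, Finsupp.single_eq_same,
      Nat.factorization_eq_zero_of_not_dvd (by norm_num : ¬ 2 ∣ 86625)]
    norm_num
  let Q0 : Sylow 2 (G0 a q y u s) := Sylow.ofCard P' hP'
  have hinv : ∀ x ∈ G0 a q y u s, x * x = 1 → x ≠ 1 →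
      ∃ z ∈ G0 a q y u s, z⁻¹ * x * z = t ∨ z⁻¹ * x * z = b := by
    intro x hx hxx hx1
    let x' : G0 a q y u s := ⟨x, hx⟩
    have ho : orderOf x' = 2 := orderOf_eq_prime (by rw [pow_two]; exact Subtype.ext hxx)
      fun h => hx1 (congrArg Subtype.val h)
    have hpz : IsPGroup 2 (zpowers x') := IsPGroup.of_card (n := 1) (by rw [Nat.card_zpowers, ho, pow_one])
    obtain ⟨Q, hQ⟩ := hpz.exists_le_sylow
    obtain ⟨c, hc⟩ := MulAction.exists_smul_eq (G0 a q y u s) Q Q0
    have hxP : c * x' * c⁻¹ ∈ (Q0 : Subgroup (G0 a q y u s)) := by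
      rw [← hc, Sylow.coe_subgroup_smul]
      refine ⟨x', hQ (mem_zpowers _), ?_⟩
      simp
    have hxP' : (c : G) * x * (c : G)⁻¹ ∈ P := hxP
    obtain ⟨⟨v, i⟩, hp⟩ := hPT _ hxP'
    set e0 := vecWord v ++ sylReps.getD i [] with he0
    have hp' : (c : G) * x * (c : G)⁻¹ = evW ev e0 := by
      rw [hp, he0, evW_append, g.ev_vecWord]
    have h := List.all_eq_true.1 (syl_inv v) i (List.mem_range.2 i.2)
    simp only [sylB, Bool.or_eq_true, List.any_eq_true, Bool.and_eq_true, decide_eq_true_eq, ← he0] at h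
    rcases h with (h | h) | ⟨r, hr, -, h⟩
    · refine absurd ?_ (g0_ne h)
      rw [evW_append, ← hp', show (c : G) * x * (c : G)⁻¹ * ((c : G) * x * (c : G)⁻¹) = c * (x * x) * (c : G)⁻¹ by group,
        hxx]
      group
    · refine absurd ?_ hx1
      have h1 := g0_one h
      rw [← hp'] at h1
      calc x = (c : G)⁻¹ * (c * x * (c : G)⁻¹) * c := by group
        _ = 1 := by rw [h1]; group
    · have hw : ∀ z ∈ r.2.2.2, z < 10 := hblt (List.all_eq_true.1 ywl r hr)
      have hwm : ∀ (tb : List ℕ), (tb.all fun z => Nat.blt z 10) = true →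
          triv (e0 ++ iv (iv r.2.2.2 ++ tb ++ r.2.2.2)) = true →
          evW ev e0 = (evW ev r.2.2.2)⁻¹ * evW ev tb * evW ev r.2.2.2 := by
        intro tb htb h
        have h1 := g0_one h
        rw [evW_append, hiv, mul_inv_eq_one] at h1
        · refine h1.trans ?_
          rw [evW_append, evW_append, hiv hw]
        · intro z hz
          simp only [List.mem_append] at hz
          rcases hz with (hz | hz) | hz
          · simp only [iv, List.mem_reverse, List.mem_map] at hz
            obtain ⟨k, hk, rfl⟩ := hz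
            have := hw k hk
            unfold flipLet; split <;> omega
          · exact hblt htb z hz
          · exact hw z hz
      refine ⟨(c : G)⁻¹ * (evW ev r.2.2.2)⁻¹, mul_mem (inv_mem c.2) (inv_mem (ev_mem_G0 a q y u s _)), ?_⟩
      have key : ∀ z : G, evW ev e0 = (evW ev r.2.2.2)⁻¹ * z * evW ev r.2.2.2 →
          ((c : G)⁻¹ * (evW ev r.2.2.2)⁻¹)⁻¹ * x * ((c : G)⁻¹ * (evW ev r.2.2.2)⁻¹) = z := by
        intro z hz
        calc _ = evW ev r.2.2.2 * ((c : G) * x * (c : G)⁻¹) * (evW ev r.2.2.2)⁻¹ := by group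
          _ = z := by rw [hp', hz]; group
      cases hB : r.2.2.1 with
      | false =>
        simp only [hB, Bool.false_eq_true, ↓reduceIte] at h
        exact Or.inl ((key _ (hwm [0, 0] (by decide) h)).trans et)
      | true =>
        simp only [hB, ↓reduceIte] at h
        exact Or.inr (key _ (hwm invB invB_free.2 h))
  -- `b` is not conjugate to `t`
  have hbt : ∀ z : G, z⁻¹ * b * z ≠ t := by
    intro z hz
    obtain ⟨ca, cb, cab, cat, cbt, cne⟩ := cent_checks
    have lA : (centA.all fun x => Nat.blt x 10) = true ∧ (centB.all fun x => Nat.blt x 10) = true := by decide +kernel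
    have lt10 : ∀ {v w : List ℕ}, (v.all fun x => Nat.blt x 10) = true → (w.all fun x => Nat.blt x 10) = true →
        ((v ++ w).all fun x => Nat.blt x 10) = true := fun h1 h2 => by rw [List.all_append, h1, h2]; rfl
    have memA : ∀ w : List ℕ, (w.all fun x => Nat.blt x 10) = true → triv (w ++ invB ++ iv (invB ++ w)) = true →
        z⁻¹ * evW ev w * z ∈ H := by
      intro w hw h
      refine (L.memH _).2 ?_
      have h1 := g0_eq (lt10 invB_free.2 hw) h
      rw [evW_append, evW_append, ← hb] at h1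
      rw [← hz, show z⁻¹ * evW ev w * z * (z⁻¹ * b * z) = z⁻¹ * (evW ev w * b) * z by group, h1]
      group
    have p3 : ∀ w : List ℕ, triv (w ++ w ++ w) = true → (z⁻¹ * evW ev w * z) ^ 3 = 1 := by
      intro w h
      have h1 := g0_one h
      rw [evW_append, evW_append] at h1
      calc (z⁻¹ * evW ev w * z) ^ 3 = z⁻¹ * (evW ev w * evW ev w * evW ev w) * z := by
            rw [pow_succ, pow_two]; group
        _ = 1 := by rw [h1]; group
    have h9 := nine_dvd (K := H) (x := ⟨_, memA centA lA.1 cat⟩) (y := ⟨_, memA centB lA.2 cbt⟩)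
      (Subtype.ext (p3 _ ca)) (Subtype.ext (p3 _ cb)) (Subtype.ext (by
        show z⁻¹ * evW ev centA * z * (z⁻¹ * evW ev centB * z) = z⁻¹ * evW ev centB * z * (z⁻¹ * evW ev centA * z)
        have h1 := g0_eq (lt10 lA.2 lA.1) cab
        rw [evW_append, evW_append] at h1
        rw [show z⁻¹ * evW ev centA * z * (z⁻¹ * evW ev centB * z) = z⁻¹ * (evW ev centA * evW ev centB) * z by group,
          h1]
        group)) (by
        intro i hi j hj hij h1
        have h2 := List.all_eq_true.1 (List.all_eq_true.1 cne i (List.mem_range.2 hi)) j (List.mem_range.2 hj)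
        simp only [Bool.or_eq_true, Bool.and_eq_true, beq_iff_eq] at h2
        refine g0_ne (h2.resolve_left hij) ?_
        have h3 : (z⁻¹ * evW ev centA * z) ^ i * (z⁻¹ * evW ev centB * z) ^ j = 1 := congrArg Subtype.val h1
        have hc : ∀ (w : G) (n : ℕ), (z⁻¹ * w * z) ^ n = z⁻¹ * w ^ n * z := fun w n => by
          have := conj_pow (a := z⁻¹) (b := w) (i := n)
          rwa [inv_inv] at this
        rw [evW_append, evW_flatten_replicate, evW_flatten_replicate]
        rw [hc, hc] at h3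
        calc evW ev centA ^ i * evW ev centB ^ j =
            z * (z⁻¹ * evW ev centA ^ i * z * (z⁻¹ * evW ev centB ^ j * z)) * z⁻¹ := by group
          _ = 1 := by rw [h3]; group)
    rw [L.cardH] at h9
    norm_num at h9
  letI : MulAction (G0 a q y u s) (Fin rep.N) :=
    MulAction.compHom _ (Γ.subtype.comp e.toMonoidHom)
  have hbfix : ∀ x : G0 a q y u s, (x : G) = b → ∀ p : Fin rep.N, x • p ≠ p := by
    intro x hx p h
    have hxw : x = wd invB := Subtype.ext hx
    have h1 : ((e (wd invB) : Γ) : Pm) p = p := by rw [← hxw]; exact h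
    rw [he invB, evW_evP (hblt invB_free.2)] at h1
    have h2 := List.all_eq_true.1 invB_free.1 p (List.mem_range.2 p.2)
    rw [Bool.not_eq_true'] at h2
    have h3 : Vec.netPerm (rep.netW invB) p = p :=
      (Rep.netW_perm rep_valid invB p).symm.trans (congrArg Fin.val h1)
    rw [h3] at h2
    simp [Nat.beq_refl] at h2
  have hodd : ∀ (p : Fin rep.N) (K : Subgroup (G0 a q y u s)),
      K ≤ MulAction.stabilizer (G0 a q y u s) p → Odd (Nat.card K) → Nat.card K ≤ 55 := by
    intro p K hK hKo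
    have hc : Nat.card (K.map e.toMonoidHom) = Nat.card K := card_map_of_injective e.injective
    rw [← hc]
    refine odd_stab_point p _ ?_ (hc.symm ▸ hKo)
    rintro _ ⟨k, hk, rfl⟩
    exact MulAction.mem_stabilizer_iff.2 (MulAction.mem_stabilizer_iff.1 (hK hk))
  have htop := eq_top_of_swappers (G0 a q y u s) L.t2 L.t1 htG hH (by rw [hcent, L.cardH]) hcard hinv hbt
    (Ω := Fin rep.N) (by rw [Nat.card_fin]; rfl) hbfix hodd
  obtain ⟨f⟩ := isoHS_Γ
  exact ⟨(((MulEquiv.subgroupCongr htop).trans topEquiv).symm.trans e).trans f⟩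

end Stage

end CfsgLib.HSRecog
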