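import Cfsg.Agent.Lib.HSRecog.Rels

/-! Generated representatives of cosets of `A`. -/

set_option autoImplicit false

namespace CfsgLib.HSRecog

/-- Words for the cosets of `A` in `M`. -/
def mReps : List (List ℕ) := [
  [],
  [2],
  [4],
  [6],
  [2, 2],
  [2, 4],
  [2, 6],
  [4, 2],
  [4, 4],
  [4, 6],
  [6, 2],
  [6, 4],
  [2, 2, 2],
  [2, 2, 4],
  [2, 2, 6],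
  [2, 4, 2],
  [2, 4, 4],
  [2, 4, 6],
  [2, 6, 2],
  [2, 6, 4],
  [4, 2, 4],
  [4, 2, 6],
  [4, 4, 2],
  [4, 4, 6],
  [4, 6, 2],
  [4, 6, 4],
  [6, 2, 2],
  [6, 2, 4],
  [6, 2, 6],
  [6, 4, 2],
  [6, 4, 4],
  [6, 4, 6],
  [2, 2, 2, 2],
  [2, 2, 2, 4],
  [2, 2, 2, 6],
  [2, 2, 4, 2],
  [2, 2, 4, 6],
  [2, 2, 6, 2],
  [2, 2, 6, 4],
  [2, 4, 2, 4],
  [2, 4, 2, 6],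
  [2, 4, 4, 2],
  [2, 4, 4, 6],
  [2, 4, 6, 2],
  [2, 4, 6, 4],
  [2, 6, 2, 2],
  [2, 6, 2, 4],
  [2, 6, 2, 6],
  [2, 6, 4, 2],
  [2, 6, 4, 4],
  [2, 6, 4, 6],
  [4, 2, 4, 2],
  [4, 2, 4, 6],
  [4, 2, 6, 2],
  [4, 2, 6, 4],
  [4, 4, 2, 6],
  [4, 4, 6, 2],
  [4, 4, 6, 4],
  [4, 6, 2, 2],
  [4, 6, 2, 4],
  [4, 6, 2, 6],
  [4, 6, 4, 2],
  [4, 6, 4, 4],
  [6, 2, 2, 2],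
  [6, 2, 2, 4],
  [6, 2, 2, 6],
  [6, 2, 4, 2],
  [6, 2, 4, 4],
  [6, 2, 4, 6],
  [6, 2, 6, 2],
  [6, 2, 6, 4],
  [6, 4, 2, 4],
  [6, 4, 2, 6],
  [6, 4, 4, 2],
  [6, 4, 6, 2],
  [2, 2, 2, 2, 2],
  [2, 2, 2, 2, 6],
  [2, 2, 2, 4, 6],
  [2, 2, 2, 6, 2],
  [2, 2, 4, 2, 6],
  [2, 2, 4, 6, 2],
  [2, 2, 6, 2, 2],
  [2, 2, 6, 2, 4],
  [2, 2, 6, 2, 6],
  [2, 2, 6, 4, 2],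
  [2, 2, 6, 4, 4],
  [2, 2, 6, 4, 6],
  [2, 4, 2, 4, 6],
  [2, 4, 2, 6, 2],
  [2, 4, 2, 6, 4],
  [2, 4, 4, 6, 2],
  [2, 4, 4, 6, 4],
  [2, 4, 6, 2, 2],
  [2, 4, 6, 2, 4],
  [2, 4, 6, 2, 6],
  [2, 4, 6, 4, 2],
  [2, 4, 6, 4, 4],
  [2, 6, 2, 2, 2],
  [2, 6, 2, 2, 6],
  [2, 6, 2, 4, 2],
  [2, 6, 2, 4, 6],
  [2, 6, 2, 6, 4],
  [2, 6, 4, 2, 6],
  [2, 6, 4, 4, 2],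
  [4, 2, 4, 2, 4],
  [4, 2, 4, 2, 6],
  [4, 2, 4, 6, 2],
  [4, 2, 6, 2, 4],
  [4, 2, 6, 2, 6],
  [4, 2, 6, 4, 2],
  [4, 2, 6, 4, 4],
  [4, 2, 6, 4, 6],
  [4, 4, 2, 6, 4],
  [4, 4, 6, 2, 2],
  [4, 4, 6, 2, 4],
  [4, 4, 6, 2, 6],
  [4, 4, 6, 4, 2],
  [4, 6, 2, 2, 4],
  [4, 6, 2, 4, 2],
  [4, 6, 2, 4, 4],
  [4, 6, 4, 2, 4],
  [4, 6, 4, 2, 6],
  [4, 6, 4, 4, 2],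
  [6, 2, 2, 2, 2],
  [6, 2, 2, 2, 4],
  [6, 2, 2, 6, 2],
  [6, 2, 2, 6, 4],
  [6, 2, 4, 2, 6],
  [6, 2, 4, 4, 6],
  [6, 2, 4, 6, 2],
  [6, 2, 4, 6, 4],
  [6, 2, 6, 2, 2],
  [6, 2, 6, 2, 4],
  [6, 2, 6, 4, 4],
  [6, 2, 6, 4, 6],
  [6, 4, 2, 4, 2],
  [6, 4, 2, 4, 6],
  [6, 4, 2, 6, 2],
  [6, 4, 2, 6, 4],
  [6, 4, 4, 2, 6],
  [6, 4, 6, 2, 2],
  [2, 2, 2, 2, 6, 2],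
  [2, 2, 2, 4, 6, 2],
  [2, 2, 2, 6, 2, 2],
  [2, 2, 2, 6, 2, 4],
  [2, 2, 2, 6, 2, 6],
  [2, 2, 4, 6, 2, 4],
  [2, 2, 4, 6, 2, 6],
  [2, 2, 6, 2, 4, 6],
  [2, 2, 6, 4, 4, 2],
  [2, 4, 2, 6, 2, 6],
  [2, 4, 2, 6, 4, 2],
  [2, 4, 2, 6, 4, 4],
  [2, 4, 4, 6, 2, 4],
  [2, 4, 4, 6, 4, 2],
  [2, 4, 6, 2, 4, 4],
  [2, 4, 6, 4, 2, 4],
  [2, 6, 2, 2, 6, 2],
  [2, 6, 2, 4, 2, 6],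
  [2, 6, 2, 4, 6, 2],
  [2, 6, 4, 2, 6, 2],
  [4, 2, 4, 2, 6, 4],
  [4, 2, 6, 2, 6, 4],
  [4, 4, 2, 6, 4, 2],
  [4, 4, 6, 2, 4, 2],
  [4, 6, 4, 2, 4, 2],
  [4, 6, 4, 2, 4, 6],
  [2, 2, 2, 2, 6, 2, 4]]

/-- Words in the letters of `H` for the cosets of `A` in `M ∩ H`. -/
def cReps : List (List ℕ) := [
  [],
  [4],
  [6],
  [8],
  [4, 4],
  [4, 6],
  [4, 8],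
  [6, 4],
  [6, 8],
  [8, 4],
  [8, 6],
  [4, 4, 6],
  [4, 6, 4],
  [4, 6, 8],
  [4, 8, 6],
  [6, 4, 4],
  [6, 4, 6],
  [6, 8, 4],
  [6, 8, 6],
  [8, 4, 6],
  [8, 6, 4],
  [8, 6, 8],
  [4, 6, 4, 4],
  [4, 6, 8, 6]]

/-- A word in the letters of `H` for `a₂`. -/
def a2Word : List ℕ := [5, 2, 4]

end CfsgLib.HSRecog
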