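import Cfsg.Agent.Lib.HSRecog.Model
import Cfsg.Agent.Lib.HSRecog.Reps
import Cfsg.Agent.Lib.HSRecog.Elim
import Cfsg.Agent.Lib.HSRecog.Cert.G0
import Cfsg.Agent.Lib.HSRecog.Cert.G1
import Cfsg.Agent.Lib.HSRecog.Cert.G3
import Mathlib.Algebra.Group.Prod

/-!
# The two local groups are those of the model
-/

set_option autoImplicit false
set_option linter.style.haveILetI false
set_option linter.unusedSectionVars false
set_option maxRecDepth 16000
set_option synthInstance.maxSize 50000

namespace CfsgLib.HSRecog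

open Subgroup CfsgLib.Presented ModelData

local notation "S5" => Equiv.Perm (Fin 5)
local notation "Pm" => Equiv.Perm (Fin rep.N)

theorem five_invert : ∀ p : S5, p ^ 3 = 1 → p ≠ 1 → ∀ r : S5, r * r = 1 → r ≠ 1 → r * p = p * r →
    ∀ x : S5, x⁻¹ * p * x = p⁻¹ → r * x = x * r := by decide +kernel

section pairs

variable {G : Type*} [Group G]

/-- The pairs of values in a group and in the model. -/
def evW2 (a q y u s : G) : ℕ → G × Pm := evS (a, pm 0) (q, pm 2) (y, pm 4) (u, pm 6) (s, pm 8)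

theorem evW2_fst (a q y u s : G) (w : List ℕ) :
    (evW (evW2 a q y u s) w).1 = evW (evS a q y u s) w := by
  simp only [evW]
  rw [← MonoidHom.coe_fst, map_list_prod, List.map_map]
  exact congrArg List.prod (List.map_congr_left fun x _ => evS_map (MonoidHom.fst G Pm) _ _ _ _ _ x)

theorem evW2_snd (a q y u s : G) (w : List ℕ) : (evW (evW2 a q y u s) w).2 = evW evP w := by
  simp only [evW]
  rw [← MonoidHom.coe_snd, map_list_prod, List.map_map]
  exact congrArg List.prod (List.map_congr_left fun x _ => evS_map (MonoidHom.snd G Pm) _ _ _ _ _ x)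

theorem evW2_one (a q y u s : G) {w : List ℕ} (h1 : evW (evS a q y u s) w = 1) (h2 : evW evP w = 1) :
    evW (evW2 a q y u s) w = 1 := Prod.ext (by rw [evW2_fst]; exact h1) (by rw [evW2_snd]; exact h2)

theorem evW_mem_closure {a q y u s : G} {w : List ℕ} (hw : ∀ x ∈ w, x < 8) :
    evW (evS a q y u s) w ∈ closure ({a, q, y, u} : Set G) := by
  refine list_prod_mem fun z hz => ?_
  obtain ⟨x, hx, rfl⟩ := List.mem_map.1 hz
  have hx8 := hw x hx
  have ma : a ∈ closure ({a, q, y, u} : Set G) := subset_closure (by simp)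
  have mq : q ∈ closure ({a, q, y, u} : Set G) := subset_closure (by simp)
  have my : y ∈ closure ({a, q, y, u} : Set G) := subset_closure (by simp)
  have mu : u ∈ closure ({a, q, y, u} : Set G) := subset_closure (by simp)
  rcases x with _ | _ | _ | _ | _ | _ | _ | _ | n
  exacts [ma, inv_mem ma, mq, inv_mem mq, my, inv_mem my, mu, inv_mem mu, absurd hx8 (by omega)]

theorem evW_hWord_mem {a q y u s : G} : ∀ {w : List ℕ}, (∀ x ∈ w, x < 12) →
    evW (evS a q y u s) (hWord w) ∈ closure (kSet a q y u s)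
  | [], _ => by simp [hWord]
  | x :: w, h => by
    rw [show hWord (x :: w) = hWord [x] ++ hWord w by simp [hWord], evW_append]
    refine mul_mem ?_ (evW_hWord_mem fun z hz => h z (List.mem_cons_of_mem _ hz))
    have key : ∀ x < 12, hWord [x] ∈ hLetters ∨
        (iv (hWord [x]) ∈ hLetters ∧ hWord [x] = iv (iv (hWord [x]))) := by decide +kernel
    rcases key x (h x List.mem_cons_self) with k | ⟨k1, k2⟩
    · exact subset_closure ⟨_, k, rfl⟩
    · have hl : ∀ w ∈ hLetters, ∀ z ∈ w, z < 10 := by decide +kernel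
      rw [k2, evW_iv a q y u s (hl _ k1)]
      exact inv_mem (subset_closure ⟨_, k1, rfl⟩)

theorem evW_hWord_memC {a q y u s : G} : ∀ {w : List ℕ}, (∀ x ∈ w, x < 10) →
    evW (evS a q y u s) (hWord w) ∈ closure (cSet a q y u s)
  | [], _ => by simp [hWord]
  | x :: w, h => by
    rw [show hWord (x :: w) = hWord [x] ++ hWord w by simp [hWord], evW_append]
    refine mul_mem ?_ (evW_hWord_memC fun z hz => h z (List.mem_cons_of_mem _ hz))
    have key : ∀ x < 10, hWord [x] ∈ hLetters.take 5 ∨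
        (iv (hWord [x]) ∈ hLetters.take 5 ∧ hWord [x] = iv (iv (hWord [x]))) := by decide +kernel
    rcases key x (h x List.mem_cons_self) with k | ⟨k1, k2⟩
    · exact subset_closure ⟨_, k, rfl⟩
    · have hl : ∀ w ∈ hLetters.take 5, ∀ z ∈ w, z < 10 := by decide +kernel
      rw [k2, evW_iv a q y u s (hl _ k1)]
      exact inv_mem (subset_closure ⟨_, k1, rfl⟩)

end pairs

theorem mReps_facts : mReps.length = 168 ∧ (mReps.map wMat).Nodup ∧
    (mReps.all fun w => w.all fun x => Nat.blt x 8) = true ∧ cReps.length = 24 ∧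
    (cReps.map fun w => wMat (hWord w)).Nodup ∧
    (cReps.all fun w => w.all (fun x => Nat.blt x 10) && (hWord w).all fun x => Nat.blt x 8) = true ∧
    (a2Word.all fun x => Nat.blt x 10) = true ∧ ((hWord a2Word).all fun x => Nat.blt x 8) = true := by
  decide +kernel

theorem hw_letters : (∀ w ∈ hLetters.take 5, ∀ x ∈ w, x < 8) ∧ (∀ w ∈ hLetters, ∀ x ∈ w, x < 10) := by
  decide +kernel

variable {G : Type*} [Group G] [Finite G] {t a q y u s : G} {H R V M A : Subgroup G}

theorem acts_word (g : Gens t a q y u s H R V M A) :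
    ∀ w : List ℕ, (∀ x ∈ w, x < 8) → Acts a q (evW (evS a q y u s) w) (wMat w) := by
  have F := g.frame
  have L := g.loc
  have e1 : q⁻¹ = q ^ 6 := inv_eq_of_mul_eq_one_right (by rw [← pow_succ', F.q7])
  have e2 : y⁻¹ = y ^ 2 := inv_eq_of_mul_eq_one_right (by rw [← pow_succ', F.y3])
  have hlet : ∀ x < 8, Acts a q (evS a q y u s x) (letMat x) := by
    intro x hx
    rcases x with _ | _ | _ | _ | _ | _ | _ | _ | n
    · exact L.acts_A F.qM F.orderQ L.aA
    · exact L.acts_A F.qM F.orderQ (inv_mem L.aA)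
    · exact F.actsQ L
    · show Acts a q q⁻¹ (mpow Qm 6); rw [e1]; exact (F.actsQ L).pow 6
    · exact F.actsY L
    · show Acts a q y⁻¹ (mpow Ym 2); rw [e2]; exact (F.actsY L).pow 2
    · exact g.actsU
    · show Acts a q u⁻¹ Um; rw [inv_eq_of_mul_eq_one_right g.uu]; exact g.actsU
    · omega
  suffices key : ∀ (w : List ℕ) (z : G) (X : M4), Acts a q z X → (∀ x ∈ w, x < 8) →
      Acts a q (z * evW (evS a q y u s) w) (w.foldl (fun X x => mm X (letMat x)) X) by
    intro w hw
    simpa [wMat] using key w 1 one4 (Acts.one a q) hw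
  intro w
  induction w with
  | nil => intro z X h _; simpa using h
  | cons x w ih =>
    intro z X h hl
    rw [evW_cons, ← mul_assoc, List.foldl_cons]
    exact ih _ _ (h.mul (hlet x (hl x List.mem_cons_self))) fun k hk => hl k (List.mem_cons_of_mem _ hk)

theorem card_ge_of_reps (g : Gens t a q y u s H R V M A) (K : Subgroup G) (hA : ∀ v, fv a q v ∈ K)
    (l : List (List ℕ)) (hl : ∀ w ∈ l, ∀ x ∈ w, x < 8) (hK : ∀ w ∈ l, evW (evS a q y u s) w ∈ K)
    (hn : (l.map wMat).Nodup) : 64 * l.length ≤ Nat.card K := by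
  have F := g.frame
  have L := g.loc
  let f : V4 × Fin l.length → K := fun p =>
    ⟨fv a q p.1 * evW (evS a q y u s) (l.get p.2), mul_mem (hA _) (hK _ (List.get_mem _ _))⟩
  have hf : Function.Injective f := by
    rintro ⟨v, i⟩ ⟨v', i'⟩ e
    have e' : fv a q v * evW (evS a q y u s) (l.get i) = fv a q v' * evW (evS a q y u s) (l.get i') :=
      congrArg Subtype.val e
    have hi : i = i' := by
      have h1 := (L.acts_A F.qM F.orderQ (L.fv_mem F.qM F.orderQ v)).mul
        (acts_word g _ (hl _ (List.get_mem l i)))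
      have h2 := (L.acts_A F.qM F.orderQ (L.fv_mem F.qM F.orderQ v')).mul
        (acts_word g _ (hl _ (List.get_mem l i')))
      rw [← e'] at h2
      have h3 := L.acts_unique F.qM F.orderQ h1 h2
      have hone : ∀ X : M4, mm one4 X = X := by
        intro X; obtain ⟨⟨a0, a1, a2⟩, ⟨b0, b1, b2⟩, ⟨c0, c1, c2⟩⟩ := X; simp [mm, one4, app]
      rw [hone, hone] at h3
      have h4 : (l.map wMat)[(i : ℕ)]'(by simp) = (l.map wMat)[(i' : ℕ)]'(by simp) := by simpa using h3
      exact Fin.ext ((hn.getElem_inj_iff).1 h4)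
    subst hi
    exact Prod.ext (L.fv_injective F.qM F.orderQ (mul_right_cancel e')) rfl
  have := Nat.card_le_card_of_injective f hf
  simpa [Nat.card_eq_fintype_card] using this

namespace Gens

variable (g : Gens t a q y u s H R V M A)
include g

theorem closure_le_M : closure ({a, q, y, u} : Set G) ≤ M := by
  rw [closure_le]
  rintro x (rfl | rfl | rfl | rfl)
  exacts [g.loc.AM g.loc.aA, g.frame.qM, g.frame.yM, g.uM]

theorem closure_eq_M : closure ({a, q, y, u} : Set G) = M := by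
  refine eq_of_le_of_card_ge g.closure_le_M ?_
  obtain ⟨h1, h2, h3, -⟩ := mReps_facts
  have hA : ∀ v, fv a q v ∈ closure ({a, q, y, u} : Set G) := fun v => by
    rw [← g.ev_vecWord v]
    refine evW_mem_closure ?_
    have : ∀ v : V4, ∀ x ∈ vecWord v, x < 8 := by decide +kernel
    exact this v
  have hl : ∀ w ∈ mReps, ∀ x ∈ w, x < 8 := fun w hw x hx => by
    have := List.all_eq_true.1 (List.all_eq_true.1 h3 w hw) x hx; rwa [Nat.blt_eq] at this
  have := card_ge_of_reps g _ hA mReps hl (fun w hw => evW_mem_closure (hl w hw)) h2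
  rw [g.loc.cardM]
  omega

end Gens

/-- The relations obtained from the case analysis. -/
structure Stage (t a q y u s : G) (H R V M A : Subgroup G) : Prop where
  gens : Gens t a q y u s H R V M A
  ss : s * s = 1
  c0 : (q * u) ^ 3 = 1
  e0 : (q * y * u) ^ 4 = 1
  k3 : (s * (a * q * a * u * q⁻¹)) ^ 3 = 1

namespace Stage

variable (S : Stage t a q y u s H R V M A)
include S

theorem m_rels : ∀ w ∈ mRels, evW (evS a q y u s) w = 1 := by
  have g := S.gens
  have h0 : fv a q ((0, 0, 0) : V4) = 1 := g.loc.fv_zero g.frame.qM g.frame.orderQ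
  intro w hw
  simp only [mRels, List.mem_append, List.mem_cons, List.not_mem_nil, or_false] at hw
  rcases hw with h | rfl | rfl
  · exact g.base_rels w h
  · exact g.c_rel (S.c0.trans h0.symm) (by decide +kernel)
  · exact g.e_rel (S.e0.trans h0.symm) (by decide +kernel)

/-- The map of `M` into the model. -/
theorem m_iso {w : List ℕ} (hw : ∀ x ∈ w, x < 8) : evW (evS a q y u s) w = 1 ↔ evW evP w = 1 := by
  have g := S.gens
  have L := g.loc
  obtain ⟨f2, h2⟩ := card_M_le (W := G × Pm) (a := (a, pm 0)) (q := (q, pm 2)) (y := (y, pm 4)) (u := (u, pm 6))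
    (s := (s, pm 8)) fun w hw => evW2_one a q y u s (S.m_rels w hw) (model_mRels w hw)
  let L2 := closure ({(a, pm 0), (q, pm 2), (y, pm 4), (u, pm 6)} : Set (G × Pm))
  have hmap : L2.map (MonoidHom.fst G Pm) = M := by
    rw [MonoidHom.map_closure, ← g.closure_eq_M]
    congr 1
    simp [Set.image_insert_eq]
  haveI : Finite L2 := f2
  have hinj : ∀ p ∈ L2, p.1 = 1 → p = 1 := by
    intro p hp hp1
    let f : L2 → M := fun p => ⟨(p : G × Pm).1, hmap ▸ ⟨p, p.2, rfl⟩⟩
    have hs : Function.Surjective f := by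
      rintro ⟨x, hx⟩
      rw [← hmap] at hx
      obtain ⟨p, hp, rfl⟩ := hx
      exact ⟨⟨p, hp⟩, rfl⟩
    haveI : Fintype L2 := Fintype.ofFinite L2
    haveI : Fintype M := Fintype.ofFinite M
    have hb : Function.Bijective f :=
      (Fintype.bijective_iff_surjective_and_card f).2 ⟨hs, by
        have h3 := Nat.card_le_card_of_surjective f hs
        rw [L.cardM] at h3
        rw [← Nat.card_eq_fintype_card, ← Nat.card_eq_fintype_card, L.cardM]
        exact le_antisymm h2 h3⟩
    have := hb.1 (a₁ := ⟨p, hp⟩) (a₂ := 1) (Subtype.ext hp1)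
    exact congrArg Subtype.val this
  have hwL : evW (evW2 a q y u s) w ∈ L2 := evW_mem_closure hw
  constructor
  · intro h
    rw [← evW2_snd a q y u s, hinj _ hwL (by rw [evW2_fst]; exact h)]
    rfl
  · intro h
    let N : Subgroup G := (L2 ⊓ (MonoidHom.snd G Pm).ker).map (MonoidHom.fst G Pm)
    have hNM : N ≤ M := hmap ▸ map_mono inf_le_left
    have hNn : ∀ m ∈ M, ∀ x ∈ N, m * x * m⁻¹ ∈ N := by
      intro m hm x hx
      rw [← hmap] at hm
      obtain ⟨p, hp, rfl⟩ := hm
      obtain ⟨r, ⟨hr, hr'⟩, rfl⟩ := hx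
      refine ⟨p * r * p⁻¹, ⟨L2.mul_mem (L2.mul_mem hp hr) (L2.inv_mem hp), ?_⟩, by simp⟩
      show (p * r * p⁻¹).2 = 1
      have hr2 : r.2 = 1 := hr'
      simp [hr2]
    have htN : t ∉ N := by
      rintro ⟨r, ⟨hr, hr'⟩, hrt⟩
      have hw0 : evW (evW2 a q y u s) [0, 0] ∈ L2 := evW_mem_closure (by decide)
      have h1 := hinj (r⁻¹ * evW (evW2 a q y u s) [0, 0]) (L2.mul_mem (L2.inv_mem hr) hw0) (by
        rw [Prod.fst_mul, Prod.fst_inv, evW2_fst, show r.1 = t from hrt]
        simp [evS, L.a2])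
      apply moved_ne (show moved [0, 0] = true by decide +kernel)
      have h3 := congrArg Prod.snd h1
      rw [Prod.snd_mul, Prod.snd_inv, evW2_snd, show r.2 = 1 from hr'] at h3
      simpa using h3
    have hN : ∀ x ∈ N, x = 1 := by
      intro x hx
      by_contra hx1
      have hv : ∃ v ∈ V, v ∈ N ∧ v ≠ 1 := by
        by_cases hc : ∀ v ∈ V, x * v = v * x
        · have hxA := L.centV hc
          by_cases h2 : x * x = 1
          · exact ⟨x, L.mem_V_iff.2 ⟨hxA, h2⟩, hx, hx1⟩
          · refine ⟨x * x, L.mem_V_iff.2 ⟨mul_mem hxA hxA, ?_⟩, mul_mem hx hx, h2⟩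
            have := L.Aexp x hxA
            simpa [pow_succ, mul_assoc] using this
        · push Not at hc
          obtain ⟨v, hv, hne⟩ := hc
          have hvM : v ∈ M := L.AM (L.VA hv)
          refine ⟨x * v * x⁻¹ * v⁻¹, mul_mem (((L.memM x).1 (hNM hx) v).1 hv) (inv_mem hv), ?_, fun e => hne ?_⟩
          · rw [show x * v * x⁻¹ * v⁻¹ = x * (v * x⁻¹ * v⁻¹) by group]
            exact mul_mem hx (hNn v hvM _ (inv_mem hx))
          · calc x * v = x * v * x⁻¹ * v⁻¹ * (v * x) := by group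
              _ = v * x := by rw [e, one_mul]
      obtain ⟨v, hv, hvN, hv1⟩ := hv
      obtain ⟨i, -, hi⟩ := L.seven_orbit g.frame.qM g.frame.orderQ hv hv1 L.tV L.t1
      apply htN
      rw [← hi]
      have := hNn _ (inv_mem (pow_mem g.frame.qM i)) v hvN
      rwa [inv_inv] at this
    have := hN (evW (evS a q y u s) w) ⟨_, ⟨hwL, by show (evW (evW2 a q y u s) w).2 = 1; rw [evW2_snd]; exact h⟩,
      evW2_fst a q y u s w⟩
    exact this

/-- Identities in `M` are those of the model. -/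
theorem m_triv {w : List ℕ} (hw : (w.all fun x => Nat.blt x 8) = true) (ht : triv w = true) :
    evW (evS a q y u s) w = 1 :=
  (S.m_iso fun x hx => by have := List.all_eq_true.1 hw x hx; rwa [Nat.blt_eq] at this).2 (triv_eq ht)

theorem m_eq {v w : List ℕ} (hv : (v.all fun x => Nat.blt x 8) = true) (hw : (w.all fun x => Nat.blt x 8) = true)
    (ht : triv (v ++ iv w) = true) : evW (evS a q y u s) v = evW (evS a q y u s) w := by
  have hl : ∀ x ∈ w, x < 8 := fun x hx => by
    have := List.all_eq_true.1 hw x hx; rwa [Nat.blt_eq] at this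
  have hiv : ((iv w).all fun x => Nat.blt x 8) = true := by
    rw [List.all_eq_true]
    intro x hx
    simp only [iv, List.mem_reverse, List.mem_map] at hx
    obtain ⟨z, hz, rfl⟩ := hx
    rw [Nat.blt_eq]
    have := hl z hz
    unfold flipLet; split <;> omega
  have h := S.m_triv (w := v ++ iv w) (by rw [List.all_append, hv, hiv]; rfl) ht
  rw [evW_append, evW_iv a q y u s fun x hx => by have := hl x hx; omega, mul_inv_eq_one] at h
  exact h

theorem c_comm_t : ∀ w ∈ hLetters.take 5, evW (evS a q y u s) w * t = t * evW (evS a q y u s) w := by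
  intro w hw
  have hl8 := hw_letters.1 w hw
  have key : ∀ w ∈ hLetters.take 5, ((w ++ [0, 0]).all fun x => Nat.blt x 8) = true ∧
      (([0, 0] ++ w).all fun x => Nat.blt x 8) = true ∧ triv (w ++ [0, 0] ++ iv ([0, 0] ++ w)) = true := by
    decide +kernel
  obtain ⟨k1, k2, k3⟩ := key w hw
  have h := S.m_eq k1 k2 k3
  rw [evW_append, evW_append] at h
  simpa [evS, S.gens.loc.a2] using h

theorem closure_c_le : closure (cSet a q y u s) ≤ M ⊓ H := by
  rw [closure_le]
  rintro _ ⟨w, hw, rfl⟩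
  exact ⟨S.gens.closure_le_M (evW_mem_closure (hw_letters.1 w hw)), (S.gens.loc.memH _).2 (S.c_comm_t w hw)⟩

theorem closure_c_eq : closure (cSet a q y u s) = M ⊓ H ∧ Nat.card (M ⊓ H : Subgroup G) = 1536 := by
  have g := S.gens
  have L := g.loc
  have F := g.frame
  obtain ⟨-, -, -, h4, h5, h6, h7, h8⟩ := mReps_facts
  have hb : ∀ w : List ℕ, (w.all fun x => Nat.blt x 10) = true → ∀ x ∈ w, x < 10 := fun w h x hx => by
    have := List.all_eq_true.1 h x hx; rwa [Nat.blt_eq] at this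
  have hA : ∀ v, fv a q v ∈ closure (cSet a q y u s) := by
    have m0 : a ∈ closure (cSet a q y u s) :=
      subset_closure ⟨[0], by decide +kernel, by simp [evS]⟩
    have m1 : q⁻¹ * a * q ∈ closure (cSet a q y u s) :=
      subset_closure ⟨a1w, by decide +kernel, by simp [a1w, evS, mul_assoc]⟩
    have m2 : q⁻¹ * q⁻¹ * a * q * q ∈ closure (cSet a q y u s) := by
      have e := S.m_eq (v := hWord a2Word) (w := a2w) h8 (by decide +kernel) (by decide +kernel)
      have e2 : evW (evS a q y u s) a2w = q⁻¹ * q⁻¹ * a * q * q := by simp [a2w, evS, mul_assoc]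
      rw [← e2, ← e]
      exact evW_hWord_memC (hb _ h7)
    exact fun v => mul_mem (mul_mem (pow_mem m0 _) (pow_mem m1 _)) (pow_mem m2 _)
  have hge := card_ge_of_reps g (closure (cSet a q y u s)) hA (cReps.map hWord) (by
      intro w hw x hx
      obtain ⟨r, hr, rfl⟩ := List.mem_map.1 hw
      have := List.all_eq_true.1 h6 r hr
      simp only [Bool.and_eq_true, List.all_eq_true, Nat.blt_eq] at this
      exact this.2 x hx) (by
      intro w hw
      obtain ⟨r, hr, rfl⟩ := List.mem_map.1 hw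
      have := List.all_eq_true.1 h6 r hr
      simp only [Bool.and_eq_true] at this
      exact evW_hWord_memC (hb _ this.1)) (by rw [List.map_map]; exact h5)
  rw [List.length_map, h4] at hge
  have hle : Nat.card (M ⊓ H : Subgroup G) ∣ 1536 := by
    have d1 := card_dvd_of_le (inf_le_left : M ⊓ H ≤ M)
    have d2 := card_dvd_of_le (inf_le_right : M ⊓ H ≤ H)
    rw [L.cardM] at d1
    rw [L.cardH] at d2
    exact (Nat.dvd_gcd d1 d2).trans (by norm_num)
  have h1 := Nat.le_of_dvd (by norm_num) hle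
  have h2 := Subgroup.card_le_of_le S.closure_c_le
  exact ⟨eq_of_le_of_card_ge S.closure_c_le (by omega), by omega⟩

theorem closure_k_eq : closure (kSet a q y u s) = H := by
  have g := S.gens
  have L := g.loc
  obtain ⟨hC, hC'⟩ := S.closure_c_eq
  have hle : closure (kSet a q y u s) ≤ H := by
    rw [closure_le]
    rintro _ ⟨w, hw, rfl⟩
    have : ∀ w ∈ hLetters, w ∈ hLetters.take 5 ∨ w = [8] := by decide +kernel
    rcases this w hw with h | rfl
    · exact (hC ▸ subset_closure ⟨w, h, rfl⟩ : evW (evS a q y u s) w ∈ M ⊓ H).2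
    · simpa [evS] using g.sH
  refine eq_of_le_of_card_ge hle ?_
  have hCK : closure (cSet a q y u s) ≤ closure (kSet a q y u s) := closure_mono (cSet_subset a q y u s)
  obtain ⟨k, hk⟩ := card_dvd_of_le hCK
  have hd := card_dvd_of_le hle
  rw [hC, hC'] at hk
  rw [hk, L.cardH, show (7680 : ℕ) = 1536 * 5 from rfl] at hd
  have hk5 : k ∣ 5 := Nat.dvd_of_mul_dvd_mul_left (by norm_num) hd
  rcases (Nat.dvd_prime (by norm_num)).1 hk5 with rfl | rfl
  · exfalso
    have hs : s ∈ closure (kSet a q y u s) := subset_closure ⟨[8], by decide +kernel, by simp [evS]⟩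
    rw [← eq_of_le_of_card_ge hCK (by rw [hC, hC', hk]), hC] at hs
    exact g.sM hs.1
  · rw [hk, L.cardH]

theorem yg_rel : evW (evS a q y u s) ygRel = 1 := S.m_triv (by decide +kernel) (by decide +kernel)

theorem stage_rels : ∀ w ∈ stageRels, evW (evS a q y u s) w = 1 := by
  intro w hw
  simp only [stageRels, List.mem_append, List.mem_cons, List.not_mem_nil, or_false] at hw
  rcases hw with ((h | h) | h) | rfl | rfl
  · exact S.m_rels w (List.mem_append_left _ h)
  · exact S.m_rels w (List.mem_append_right _ (by simpa using h))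
  · exact S.gens.s_rels false (by simpa using S.ss) w h
  · exact S.gens.z_rel (by simpa [kw, evS, mul_assoc] using S.k3)
  · exact S.yg_rel

end Stage

theorem g_matches : Matches CertG0.enum (stageRels ++ [gRel 0]) [[0], [2], [4], [6]] ∧
    Matches CertG1.enum (stageRels ++ [gRel 1]) [[0], [2], [4], [6]] ∧
    Matches CertG3.enum (stageRels ++ [gRel 3]) [[0], [2], [4], [6]] := by
  unfold Matches; decide +kernel

/-- `g` and `σ` commute up to `a²`. -/
theorem Stage.g_rel (S : Stage t a q y u s H R V M A) {φ : H →* S5}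
    (hφR : ∀ h : H, φ h = 1 ↔ (h : G) ∈ R) : evW (evS a q y u s) (gRel 2) = 1 := by
  have g := S.gens
  have L := g.loc
  have F := g.frame
  set gg := evW (evS a q y u s) gw with hgg
  have hgH : gg ∈ H := (L.memH _).2 (S.c_comm_t gw (by decide +kernel))
  have hyg : gg⁻¹ * y * gg = y⁻¹ := by
    have h := S.yg_rel
    rw [ygRel, evW_append, evW_append, evW_append, g.ev_iv (by decide +kernel)] at h
    refine eq_inv_of_mul_eq_one_left ?_
    simpa [evS, ← hgg, mul_assoc] using h
  have hs1 : φ ⟨s, g.sH⟩ ≠ 1 := fun e => g.sM (L.RM ((hφR _).1 e))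
  obtain ⟨hp3, hp1⟩ := phiY L F hφR
  have hcomm : φ ⟨s, g.sH⟩ * φ ⟨gg, hgH⟩ = φ ⟨gg, hgH⟩ * φ ⟨s, g.sH⟩ := by
    refine five_invert _ hp3 hp1 _ ?_ hs1 ?_ _ ?_
    · rw [← map_mul, show (⟨s, g.sH⟩ : H) * ⟨s, g.sH⟩ = 1 from Subtype.ext S.ss, map_one]
    · rw [← map_mul, ← map_mul]; exact congrArg φ (Subtype.ext g.sy)
    · rw [← map_inv, ← map_inv, ← map_mul, ← map_mul]; exact congrArg φ (Subtype.ext hyg)
  have hsi : s⁻¹ = s := inv_eq_of_mul_eq_one_right S.ss
  set d := gg⁻¹ * s⁻¹ * gg * s with hd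
  have hdR : d ∈ R := by
    have h := (hφR ((⟨gg, hgH⟩ : H)⁻¹ * (⟨s, g.sH⟩ : H)⁻¹ * ⟨gg, hgH⟩ * ⟨s, g.sH⟩)).1 (by
      rw [map_mul, map_mul, map_mul, map_inv, map_inv, mul_assoc, ← hcomm]; group)
    exact h
  have hyi : gg⁻¹ * y⁻¹ * gg = y := by
    calc gg⁻¹ * y⁻¹ * gg = (gg⁻¹ * y * gg)⁻¹ := by group
      _ = y := by rw [hyg, inv_inv]
  have hdy : d * y = y * d := by
    have e1 : s⁻¹ * y * s = y := by rw [mul_assoc, ← g.sy, inv_mul_cancel_left]
    have e2 : gg * y * gg⁻¹ = y⁻¹ := by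
      calc gg * y * gg⁻¹ = gg * (gg⁻¹ * y⁻¹ * gg) * gg⁻¹ := by rw [hyi]
        _ = y⁻¹ := by group
    have e3 : d⁻¹ * y * d = y := by
      calc d⁻¹ * y * d = s⁻¹ * (gg⁻¹ * (s * (gg * y * gg⁻¹) * s⁻¹) * gg) * s := by rw [hd]; group
        _ = s⁻¹ * (gg⁻¹ * y⁻¹ * gg) * s := by
          rw [e2, show s * y⁻¹ * s⁻¹ = y⁻¹ by
            calc s * y⁻¹ * s⁻¹ = (s * y * s⁻¹)⁻¹ := by group
              _ = y⁻¹ := by rw [g.sy, mul_inv_cancel_right]]
        _ = y := by rw [hyi, e1]
    calc d * y = d * (d⁻¹ * y * d) := by rw [e3]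
      _ = y * d := by group
  obtain ⟨n, hn, e⟩ := L.cy_cases (F.cent_y_R L hdR hdy)
  have hconj : s⁻¹ * gg * s = gg * a ^ n := by
    rw [← e, hd]; group
  have hj : evW (evS a q y u s) (gRel n) = 1 := by
    rw [gRel, evW_append, evW_append, evW_append, g.ev_iv, evW_append, ← hgg]
    · rw [mul_inv_eq_one, evW, evW, evW, List.map_replicate, List.prod_replicate]
      simpa [evS, mul_assoc] using hconj
    · interval_cases n <;> decide +kernel
  have hspec : ∀ j, evW (evS a q y u s) (gRel j) = 1 →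
      ∀ w ∈ stageRels ++ [gRel j], evW (evS a q y u s) w = 1 := by
    intro j hj w hw
    rcases List.mem_append.1 hw with h | h
    · exact S.stage_rels w h
    · rw [List.mem_singleton.1 h]; exact hj
  interval_cases n
  · exact (g.not_loop_s g_matches.1 (hspec 0 hj) fun _ hI => CertG0.loop0 hI).elim
  · exact (g.not_loop_s g_matches.2.1 (hspec 1 hj) fun _ hI => CertG1.loop0 hI).elim
  · exact hj
  · exact (g.not_loop_s g_matches.2.2 (hspec 3 hj) fun _ hI => CertG3.loop0 hI).elim

theorem hRels_split : ∀ w ∈ hRels,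
    (((hWord w).all fun x => Nat.blt x 8) = true ∧ triv (hWord w) = true) ∨ w = [10, 10] ∨ w = [10, 0, 10, 0] ∨
      w = [10, 4, 11, 5] ∨ w = [10, 2, 2, 10, 7] ∨ w = [11, 8, 10, 1, 1, 9] ∨
      w = [10, 0, 6, 5, 3, 8, 6, 10, 0, 6, 5, 3, 8, 6, 10, 0, 6, 5, 3, 8, 6] := by decide +kernel

/-- The relators of `H` hold. -/
theorem Stage.h_rels (S : Stage t a q y u s H R V M A) {φ : H →* S5}
    (hφR : ∀ h : H, φ h = 1 ↔ (h : G) ∈ R) : ∀ w ∈ hRels, evW (evS a q y u s) (hWord w) = 1 := by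
  have g := S.gens
  have hsi : s⁻¹ = s := inv_eq_of_mul_eq_one_right S.ss
  intro w hw
  rcases hRels_split w hw with ⟨h1, h2⟩ | rfl | rfl | rfl | rfl | rfl | rfl
  · exact S.m_triv h1 h2
  · simpa [hWord, hLetters, evS] using S.ss
  · simp [hWord, hLetters, evS]
    have := g.sa
    rw [hsi] at this
    rw [← mul_assoc, ← mul_assoc, this, ← pow_succ]
    exact g.loc.a4
  · rw [show hWord [10, 4, 11, 5] = [8, 4, 9, 5] by decide +kernel]
    simp [evS]
    rw [← mul_assoc, g.sy]; group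
  · rw [show hWord [10, 2, 2, 10, 7] = [8, 3, 0, 2, 3, 0, 2, 8, 7] by decide +kernel]
    simp [evS]
    have := g.sv
    rw [hsi] at this
    calc s * (q⁻¹ * (a * (a * (q * (s * u⁻¹))))) =
        s * (q⁻¹ * a * q * (q⁻¹ * a * q)) * s * u⁻¹ := by group
      _ = 1 := by rw [this, mul_inv_cancel]
  · rw [show hWord [11, 8, 10, 1, 1, 9] = gRel 2 by decide +kernel]
    exact S.g_rel hφR
  · rw [show hWord [10, 0, 6, 5, 3, 8, 6, 10, 0, 6, 5, 3, 8, 6, 10, 0, 6, 5, 3, 8, 6] =
      [8] ++ hWord [0, 6, 5, 3, 8, 6] ++ ([8] ++ hWord [0, 6, 5, 3, 8, 6]) ++ ([8] ++ hWord [0, 6, 5, 3, 8, 6])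
      by decide +kernel]
    have e := S.m_eq (v := hWord [0, 6, 5, 3, 8, 6]) (w := kw) (by decide +kernel) (by decide +kernel) (by decide +kernel)
    simp only [evW_append, e]
    have := S.k3
    rw [pow_succ, pow_two] at this
    simpa [kw, evS, mul_assoc] using this

/-- The map of `H` into the model. -/
theorem Stage.h_iso (S : Stage t a q y u s H R V M A) {φ : H →* S5}
    (hφR : ∀ h : H, φ h = 1 ↔ (h : G) ∈ R) {w : List ℕ} (hw : ∀ x ∈ w, x < 12) :
    evW (evS a q y u s) (hWord w) = 1 ↔ evW evP (hWord w) = 1 := by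
  have g := S.gens
  have L := g.loc
  obtain ⟨f2, h2⟩ := card_K_le' (W := G × Pm) (a := (a, pm 0)) (q := (q, pm 2)) (y := (y, pm 4)) (u := (u, pm 6))
    (s := (s, pm 8)) (fun w hw => evW2_one a q y u s (S.m_rels w hw) (model_mRels w hw))
    (fun w hw => Prod.ext (by
      show (evW (evW2 a q y u s) w).1 * (a * a) = (a * a) * (evW (evW2 a q y u s) w).1
      rw [evW2_fst, L.a2]; exact S.c_comm_t w hw) (by
      show (evW (evW2 a q y u s) w).2 * (pm 0 * pm 0) = (pm 0 * pm 0) * (evW (evW2 a q y u s) w).2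
      rw [evW2_snd]; exact evP_comm_t w hw))
    (fun i hi hi0 e => evP_tconj i hi hi0 (by simpa using congrArg Prod.snd e))
    (fun w hw => evW2_one a q y u s (S.h_rels hφR w hw) (model_hRels w hw))
  let K2 := closure (kSet (a, pm 0) (q, pm 2) (y, pm 4) (u, pm 6) (s, pm 8))
  have hmap : K2.map (MonoidHom.fst G Pm) = H := by
    rw [MonoidHom.map_closure, ← S.closure_k_eq]
    congr 1
    rw [kSet, kSet, Set.image_image]
    exact Set.image_congr' fun w => evW2_fst a q y u s w
  haveI : Finite K2 := f2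
  have hinj : ∀ p ∈ K2, p.1 = 1 → p = 1 := by
    intro p hp hp1
    let f : K2 → H := fun p => ⟨(p : G × Pm).1, hmap ▸ ⟨p, p.2, rfl⟩⟩
    have hs : Function.Surjective f := by
      rintro ⟨x, hx⟩
      rw [← hmap] at hx
      obtain ⟨p, hp, rfl⟩ := hx
      exact ⟨⟨p, hp⟩, rfl⟩
    haveI : Fintype K2 := Fintype.ofFinite K2
    haveI : Fintype H := Fintype.ofFinite H
    have hb : Function.Bijective f :=
      (Fintype.bijective_iff_surjective_and_card f).2 ⟨hs, by
        have h3 := Nat.card_le_card_of_surjective f hs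
        rw [L.cardH] at h3
        rw [← Nat.card_eq_fintype_card, ← Nat.card_eq_fintype_card, L.cardH]
        exact le_antisymm h2 h3⟩
    have := hb.1 (a₁ := ⟨p, hp⟩) (a₂ := 1) (Subtype.ext hp1)
    exact congrArg Subtype.val this
  let N : Subgroup G := (K2 ⊓ (MonoidHom.snd G Pm).ker).map (MonoidHom.fst G Pm)
  have hNH : N ≤ H := hmap ▸ map_mono inf_le_left
  have hNn : ∀ m ∈ H, ∀ x ∈ N, m * x * m⁻¹ ∈ N := by
    intro m hm x hx
    rw [← hmap] at hm
    obtain ⟨p, hp, rfl⟩ := hm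
    obtain ⟨r, ⟨hr, hr'⟩, rfl⟩ := hx
    refine ⟨p * r * p⁻¹, ⟨K2.mul_mem (K2.mul_mem hp hr) (K2.inv_mem hp), ?_⟩, by simp⟩
    show (p * r * p⁻¹).2 = 1
    have hr2 : r.2 = 1 := hr'
    simp [hr2]
  have hNM : ∀ x ∈ N, x ∈ M → x = 1 := by
    rintro x ⟨r, ⟨hr, hr'⟩, rfl⟩ hxM
    have hxH : r.1 ∈ M ⊓ H := ⟨hxM, hmap ▸ ⟨r, hr, rfl⟩⟩
    rw [← S.closure_c_eq.1] at hxH
    have hC : (closure (cSet (a, pm 0) (q, pm 2) (y, pm 4) (u, pm 6) (s, pm 8))).map (MonoidHom.fst G Pm) =
        closure (cSet a q y u s) := by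
      rw [MonoidHom.map_closure]
      congr 1
      rw [cSet, cSet, Set.image_image]
      exact Set.image_congr' fun w => evW2_fst a q y u s w
    rw [← hC] at hxH
    obtain ⟨p, hp, hp'⟩ := hxH
    have e : p = r := by
      have := hinj (p * r⁻¹) (K2.mul_mem (closure_mono (cSet_subset _ _ _ _ _) hp) (K2.inv_mem hr))
        (by rw [Prod.fst_mul, Prod.fst_inv, show p.1 = r.1 from hp', mul_inv_cancel])
      exact mul_inv_eq_one.1 this
    subst e
    suffices key : ∀ z ∈ closure (cSet (a, pm 0) (q, pm 2) (y, pm 4) (u, pm 6) (s, pm 8)),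
        ∃ w : List ℕ, (∀ x ∈ w, x < 8) ∧ evW (evW2 a q y u s) w = z by
      obtain ⟨w, hl, rfl⟩ := key p hp
      show (evW (evW2 a q y u s) w).1 = 1
      rw [evW2_fst, S.m_iso hl, ← evW2_snd a q y u s]
      exact hr'
    intro z hz
    induction hz using closure_induction with
    | mem z hz => obtain ⟨w, hw, rfl⟩ := hz; exact ⟨w, hw_letters.1 w hw, rfl⟩
    | one => exact ⟨[], by simp, rfl⟩
    | mul x y _ _ hx hy =>
      obtain ⟨v, hv, rfl⟩ := hx; obtain ⟨w, hw, rfl⟩ := hy
      exact ⟨v ++ w, fun x hx => (List.mem_append.1 hx).elim (hv x) (hw x), evW_append _ _ _⟩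
    | inv x _ hx =>
      obtain ⟨v, hv, rfl⟩ := hx
      refine ⟨iv v, fun x hx => ?_, evW_iv _ _ _ _ _ fun k hk => by have := hv k hk; omega⟩
      simp only [iv, List.mem_reverse, List.mem_map] at hx
      obtain ⟨k, hk, rfl⟩ := hx
      have := hv k hk
      unfold flipLet; split <;> omega
  have hwK : evW (evW2 a q y u s) (hWord w) ∈ K2 := evW_hWord_mem hw
  refine ⟨fun h => ?_, fun ht => ?_⟩
  · rw [← evW2_snd a q y u s, hinj _ hwK (by rw [evW2_fst]; exact h)]
    rfl
  have hxN : evW (evS a q y u s) (hWord w) ∈ N :=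
    ⟨_, ⟨hwK, by show (evW (evW2 a q y u s) (hWord w)).2 = 1; rw [evW2_snd]; exact ht⟩,
      evW2_fst a q y u s _⟩
  generalize evW (evS a q y u s) (hWord w) = x at hxN
  refine hNM x hxN (L.AM (L.centV fun v hv => ?_))
  have hvR := L.VR hv
  have hc : x * v * x⁻¹ * v⁻¹ = 1 := by
    refine hNM _ ?_ (L.RM (mul_mem (L.Rconj x (hNH hxN) v hvR) (inv_mem hvR)))
    rw [show x * v * x⁻¹ * v⁻¹ = x * (v * x⁻¹ * v⁻¹) by group]
    exact mul_mem hxN (hNn v (L.RH hvR) _ (inv_mem hxN))
  calc x * v = x * v * x⁻¹ * v⁻¹ * (v * x) := by group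
    _ = v * x := by rw [hc, one_mul]

/-- Identities in `H` are those of the model. -/
theorem Stage.h_triv (S : Stage t a q y u s H R V M A) {φ : H →* S5}
    (hφR : ∀ h : H, φ h = 1 ↔ (h : G) ∈ R) {w : List ℕ} (hw : ∀ x ∈ w, x < 12)
    (ht : triv (hWord w) = true) : evW (evS a q y u s) (hWord w) = 1 :=
  (S.h_iso hφR hw).2 (triv_eq ht)

/-- Words moving a point are non-trivial in `H`. -/
theorem Stage.h_moved (S : Stage t a q y u s H R V M A) {φ : H →* S5}
    (hφR : ∀ h : H, φ h = 1 ↔ (h : G) ∈ R) {w : List ℕ} (hw : ∀ x ∈ w, x < 12)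
    (ht : moved (hWord w) = true) : evW (evS a q y u s) (hWord w) ≠ 1 :=
  fun e => moved_ne ht ((S.h_iso hφR hw).1 e)

/-- The elements of `M ∩ H`. -/
theorem Stage.c_elem (S : Stage t a q y u s H R V M A) {x : G} (hx : x ∈ M ⊓ H) :
    ∃ v : V4, ∃ w ∈ cReps, x = evW (evS a q y u s) (vecWord v ++ hWord w) := by
  classical
  have g := S.gens
  have L := g.loc
  have F := g.frame
  obtain ⟨-, -, -, h4, h5, h6, -, -⟩ := mReps_facts
  have hl : ∀ w ∈ cReps, (∀ k ∈ w, k < 10) ∧ ∀ k ∈ hWord w, k < 8 := by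
    intro w hw
    have := List.all_eq_true.1 h6 w hw
    simp only [Bool.and_eq_true, List.all_eq_true, Nat.blt_eq] at this
    exact this
  obtain ⟨hC, hC'⟩ := S.closure_c_eq
  have hvm : ∀ v, fv a q v ∈ M ⊓ H := fun v => ⟨L.AM (L.fv_mem F.qM F.orderQ v),
    (L.memH _).2 (L.Aab _ (L.fv_mem F.qM F.orderQ v) t L.tA)⟩
  let f : V4 × Fin cReps.length → (M ⊓ H : Subgroup G) := fun p =>
    ⟨fv a q p.1 * evW (evS a q y u s) (hWord (cReps.get p.2)),
      mul_mem (hvm p.1) (hC ▸ evW_hWord_memC (hl _ (List.get_mem _ _)).1)⟩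
  have hone : ∀ X : M4, mm one4 X = X := by
    intro X; obtain ⟨⟨a0, a1, a2⟩, ⟨b0, b1, b2⟩, ⟨c0, c1, c2⟩⟩ := X; simp [mm, one4, app]
  have hf : Function.Injective f := by
    rintro ⟨v, i⟩ ⟨v', i'⟩ e
    have e' : fv a q v * evW (evS a q y u s) (hWord (cReps.get i)) =
        fv a q v' * evW (evS a q y u s) (hWord (cReps.get i')) := congrArg Subtype.val e
    have hi : i = i' := by
      have h1 := (L.acts_A F.qM F.orderQ (L.fv_mem F.qM F.orderQ v)).mul
        (acts_word g _ (hl _ (List.get_mem cReps i)).2)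
      have h2 := (L.acts_A F.qM F.orderQ (L.fv_mem F.qM F.orderQ v')).mul
        (acts_word g _ (hl _ (List.get_mem cReps i')).2)
      rw [← e'] at h2
      have h3 := L.acts_unique F.qM F.orderQ h1 h2
      rw [hone, hone] at h3
      have h7 : (cReps.map fun w => wMat (hWord w))[(i : ℕ)]'(by simp) =
          (cReps.map fun w => wMat (hWord w))[(i' : ℕ)]'(by simp) := by simpa using h3
      exact Fin.ext ((h5.getElem_inj_iff).1 h7)
    subst hi
    exact Prod.ext (L.fv_injective F.qM F.orderQ (mul_right_cancel e')) rfl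
  haveI : Fintype (M ⊓ H : Subgroup G) := Fintype.ofFinite _
  have hb := (Fintype.bijective_iff_injective_and_card f).2 ⟨hf, by
    rw [← Nat.card_eq_fintype_card, ← Nat.card_eq_fintype_card, hC', Nat.card_prod,
      Nat.card_eq_fintype_card (α := Fin cReps.length), Fintype.card_fin, h4, Nat.card_eq_fintype_card]
    rfl⟩
  obtain ⟨⟨v, i⟩, hp⟩ := hb.2 ⟨x, hx⟩
  refine ⟨v, cReps.get i, List.get_mem _ _, ?_⟩
  rw [evW_append, g.ev_vecWord]
  exact (congrArg Subtype.val hp).symm

end CfsgLib.HSRecog
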