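import Cfsg.Prelude.Def_Solvable
import Cfsg.Prelude.Def_Transfer
import Cfsg.Prelude.Def_CaseTheorems
import Cfsg.Agent.Classical.SLGen
import Mathlib.GroupTheory.Commutator.Basic
import Mathlib.GroupTheory.Sylow
import Mathlib.LinearAlgebra.Matrix.GeneralLinearGroup.Card

/-!
# The two local subgroups of a group of HS type

`R = O₂(H)` for the centraliser `H` of the involution, and `A = O₂(M)` for the normaliser `M` of `V`.
-/

set_option autoImplicit false
set_option linter.style.haveILetI false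

namespace CfsgLib.HSRecog

open Subgroup
open scoped commutatorElement

theorem isSimpleGroup_gl32 : IsSimpleGroup (GL (Fin 3) (ZMod 2)) := by
  have hu : ∀ u : (ZMod 2)ˣ, u = 1 := by decide
  let ι : Matrix.SpecialLinearGroup (Fin 3) (ZMod 2) →* GL (Fin 3) (ZMod 2) := Matrix.SpecialLinearGroup.toGL
  haveI : IsSimpleGroup (Matrix.ProjectiveSpecialLinearGroup (Fin 3) (ZMod 2)) :=
    Cfsg.Agent.Classical.psl_isSimpleGroup (by simp)
  have hc : (⊥ : Subgroup (Matrix.SpecialLinearGroup (Fin 3) (ZMod 2))) =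
      Subgroup.center (Matrix.SpecialLinearGroup (Fin 3) (ZMod 2)) := by
    symm
    rw [eq_bot_iff]
    intro z hz
    obtain ⟨r, hr, hz'⟩ := Matrix.SpecialLinearGroup.mem_center_iff.1 hz
    rw [Subgroup.mem_bot]
    refine Subtype.ext ?_
    have hr1 : r = 1 := (by decide : ∀ r : ZMod 2, r ^ Fintype.card (Fin 3) = 1 → r = 1) r hr
    rw [← hz', hr1, map_one]
    rfl
  have e : GL (Fin 3) (ZMod 2) ≃* Matrix.ProjectiveSpecialLinearGroup (Fin 3) (ZMod 2) :=
    (MulEquiv.ofBijective ι ⟨Matrix.SpecialLinearGroup.toGL_injective, fun g => ⟨⟨g.val, by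
      rw [← Matrix.GeneralLinearGroup.val_det_apply, hu (Matrix.GeneralLinearGroup.det g), Units.val_one]⟩,
      Units.ext rfl⟩⟩).symm.trans
      (QuotientGroup.quotientBot.symm.trans (QuotientGroup.quotientMulEquivOfEq hc))
  exact e.isSimpleGroup

theorem card_gl32 : Nat.card (GL (Fin 3) (ZMod 2)) = 168 := by
  rw [Matrix.card_GL_field]
  simp [Fin.prod_univ_three]

/-- A product of two commuting subgroups. -/
theorem card_sup_of_comm {G : Type*} [Group G] [Finite G] {A B : Subgroup G}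
    (h : ∀ a ∈ A, ∀ b ∈ B, a * b = b * a) :
    Nat.card ↥(A ⊔ B) * Nat.card ↥(A ⊓ B) = Nat.card A * Nat.card B := by
  have hn : B ≤ normalizer (A : Set G) := by
    intro b hb
    rw [mem_normalizer_iff]
    intro x
    constructor
    · intro hx
      rwa [← h x hx b hb, mul_inv_cancel_right]
    · intro hx
      have e : x = b⁻¹ * (b * x * b⁻¹) * b := by group
      rwa [e, mul_assoc, h _ hx b hb, inv_mul_cancel_left]
  let p : A × B → ↥(A ⊔ B) := fun z => ⟨z.1.1 * z.2.1, mul_mem (mem_sup_left z.1.2) (mem_sup_right z.2.2)⟩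
  let f : A × B →* ↥(A ⊔ B) :=
    { toFun := p
      map_one' := Subtype.ext (one_mul _)
      map_mul' := fun x y => Subtype.ext (by
        show x.1.1 * y.1.1 * (x.2.1 * y.2.1) = x.1.1 * x.2.1 * (y.1.1 * y.2.1)
        have := h y.1.1 y.1.2 x.2.1 x.2.2
        calc x.1.1 * y.1.1 * (x.2.1 * y.2.1) = x.1.1 * (y.1.1 * x.2.1) * y.2.1 := by group
          _ = x.1.1 * (x.2.1 * y.1.1) * y.2.1 := by rw [this]
          _ = _ := by group) }
  have hsurj : Function.Surjective f := by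
    rintro ⟨x, hx⟩
    rw [← SetLike.mem_coe, Subgroup.coe_mul_of_right_le_normalizer_left A B hn] at hx
    obtain ⟨a, ha, b, hb, rfl⟩ := hx
    exact ⟨(⟨a, ha⟩, ⟨b, hb⟩), rfl⟩
  let k : ↥(A ⊓ B) → f.ker := fun d => ⟨(⟨d.1, d.2.1⟩, ⟨d.1⁻¹, inv_mem d.2.2⟩),
    Subtype.ext (mul_inv_cancel d.1)⟩
  have hk : Function.Bijective k := by
    constructor
    · intro x y e
      exact Subtype.ext (congrArg (fun z : f.ker => (z.1.1 : G)) e)
    · rintro ⟨⟨⟨x, hx⟩, ⟨y, hy⟩⟩, hz⟩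
      have hz' : x * y = 1 := congrArg Subtype.val hz
      have hy' : y = x⁻¹ := eq_inv_of_mul_eq_one_right hz'
      refine ⟨⟨x, ⟨hx, (inv_mem_iff (x := x) (H := B)).1 (hy' ▸ hy)⟩⟩, ?_⟩
      exact Subtype.ext (Prod.ext (Subtype.ext rfl) (Subtype.ext hy'.symm))
  have h1 := f.ker.card_eq_card_quotient_mul_card_subgroup
  rw [Nat.card_congr (QuotientGroup.quotientKerEquivOfSurjective f hsurj).toEquiv, Nat.card_prod,
    ← Nat.card_congr (Equiv.ofBijective k hk)] at h1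
  exact h1.symm

variable {G : Type*} [Group G]

/-- The hypotheses of the statement, stated inside `G`. -/
structure Loc (t a : G) (H R V M A : Subgroup G) : Prop where
  t2 : t * t = 1
  t1 : t ≠ 1
  a2 : a * a = t
  memH : ∀ g, g ∈ H ↔ g * t = t * g
  RH : R ≤ H
  Rconj : ∀ g ∈ H, ∀ r ∈ R, g * r * g⁻¹ ∈ R
  cardR : Nat.card R = 64
  cardH : Nat.card H = 7680
  centR : ∀ x, (x ∈ R ∧ ∀ r ∈ R, x * r = r * x) ↔ x ∈ zpowers a
  commR : ∀ r ∈ R, ∀ r' ∈ R, r * r' * r⁻¹ * r'⁻¹ = 1 ∨ r * r' * r⁻¹ * r'⁻¹ = t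
  sqR : ∀ r ∈ R, r * r = 1 ∨ r * r = t
  VR : V ≤ R
  cardV : Nat.card V = 8
  Vab : ∀ x ∈ V, ∀ y ∈ V, x * y = y * x
  Vexp : ∀ x ∈ V, x * x = 1
  memM : ∀ g, g ∈ M ↔ ∀ x, x ∈ V ↔ g * x * g⁻¹ ∈ V
  AM : A ≤ M
  Aconj : ∀ g ∈ M, ∀ x ∈ A, g * x * g⁻¹ ∈ A
  Aab : ∀ x ∈ A, ∀ y ∈ A, x * y = y * x
  Aexp : ∀ x ∈ A, x ^ 4 = 1
  cardA : Nat.card A = 64
  cardA2 : Nat.card {x : G // x ∈ A ∧ x * x = 1} = 8
  cardM : Nat.card M = 10752
  VA : V ≤ A
  simple : ∀ N : Subgroup G, A ≤ N → N ≤ M → (∀ g ∈ M, ∀ n ∈ N, g * n * g⁻¹ ∈ N) → N = A ∨ N = M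

/-- The sixty-four elements of `A`. -/
def modelA : Type := Multiplicative (ZMod 4 × ZMod 4 × ZMod 4)

theorem model_facts : (∀ x : ZMod 4 × ZMod 4 × ZMod 4, 4 • x = 0) ∧
    (Finset.univ.filter fun x : ZMod 4 × ZMod 4 × ZMod 4 => x + x = 0).card = 8 := by
  constructor <;> decide

/-- The hypotheses of the statement give the local data. -/
theorem loc_of_hyp [Finite G]
    (t : G) (ht : orderOf t = 2) (H : Subgroup G) (hH : H = Subgroup.centralizer ({t} : Set G))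
    (R : Subgroup G) (hR : R = (Cfsg.pCore 2 H).map H.subtype)
    (Cy E : Subgroup G) (hCy : IsCyclic Cy) (hCycard : Nat.card Cy = 4)
    (hCyle : Cy ≤ R ⊓ Subgroup.centralizer (R : Set G))
    (hEle : E ≤ R) (hEex : Cfsg.IsExtraspecial 2 E) (hEcard : Nat.card E = 32)
    (hprod : Cy ⊔ E = R) (hmeet : Cy ⊓ E = E ⊓ Subgroup.centralizer (E : Set G))
    (eH : H ⧸ Cfsg.pCore 2 H ≃* Equiv.Perm (Fin 5))
    (V : Subgroup G) (hVcomm : IsMulCommutative V) (hVexp : ∀ v ∈ V, v ^ 2 = 1) (hVcard : Nat.card V = 8)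
    (hVR : V ≤ R) (M : Subgroup G) (hM : M = Subgroup.normalizer (V : Set G))
    (eOM : Cfsg.pCore 2 M ≃* Multiplicative (ZMod 4 × ZMod 4 × ZMod 4))
    (eM : M ⧸ Cfsg.pCore 2 M ≃* GL (Fin 3) (ZMod 2)) :
    ∃ (a : G) (A : Subgroup G) (φ : H →* Equiv.Perm (Fin 5)), Loc t a H R V M A ∧ Function.Surjective φ ∧
      ∀ h : H, φ h = 1 ↔ (h : G) ∈ R := by
  haveI := Cfsg.pCore_normal 2 H
  haveI := Cfsg.pCore_normal 2 M
  have htt : t * t = 1 := by rw [← pow_two, ← ht]; exact pow_orderOf_eq_one t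
  have ht1 : t ≠ 1 := by intro e; rw [e, orderOf_one] at ht; exact absurd ht (by norm_num)
  have memH : ∀ g, g ∈ H ↔ g * t = t * g := fun g => by
    rw [hH, mem_centralizer_singleton_iff]
  have RH : R ≤ H := hR ▸ map_subtype_le _
  have hCyc : ∀ x ∈ Cy, ∀ r ∈ R, x * r = r * x := fun x hx r hr =>
    (mem_centralizer_iff.1 (hCyle hx).2 r hr).symm
  -- the centre of `E`
  have hZ : Nat.card ↥(Cy ⊓ E) = 2 := by
    rw [hmeet, ← hEex.2, ← card_map_of_injective E.subtype_injective]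
    refine congrArg (fun S : Subgroup G => Nat.card S) ?_
    ext x
    constructor
    · rintro ⟨h1, h2⟩
      exact ⟨⟨x, h1⟩, mem_center_iff.2 fun y => Subtype.ext (mem_centralizer_iff.1 h2 y y.2), rfl⟩
    · rintro ⟨⟨y, hy⟩, hc, rfl⟩
      exact ⟨hy, mem_centralizer_iff.2 fun z hz => congrArg Subtype.val (mem_center_iff.1 hc ⟨z, hz⟩)⟩
  have cardR : Nat.card R = 64 := by
    have h := card_sup_of_comm (A := Cy) (B := E) fun x hx r hr => hCyc x hx r (hEle hr)
    rw [hprod, hZ, hCycard, hEcard] at h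
    omega
  have hn : ∀ x, x ∈ R ↔ ∃ c ∈ Cy, ∃ e ∈ E, x = c * e := by
    intro x
    constructor
    · intro hx
      have hle : E ≤ normalizer (Cy : Set G) := by
        intro e he
        rw [mem_normalizer_iff]
        intro z
        constructor
        · intro hz
          rwa [← hCyc z hz e (hEle he), mul_inv_cancel_right]
        · intro hz
          have e' : z = e⁻¹ * (e * z * e⁻¹) * e := by group
          rwa [e', mul_assoc, hCyc _ hz e (hEle he), inv_mul_cancel_left]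
      rw [← hprod, ← SetLike.mem_coe, Subgroup.coe_mul_of_right_le_normalizer_left Cy E hle] at hx
      obtain ⟨c, hc, e, he, rfl⟩ := hx
      exact ⟨c, hc, e, he, rfl⟩
    · rintro ⟨c, hc, e, he, rfl⟩
      exact mul_mem (hCyle hc).1 (hEle he)
  have centR' : ∀ x ∈ R, (∀ r ∈ R, x * r = r * x) → x ∈ Cy := by
    intro x hx hcx
    obtain ⟨c, hc, e, he, rfl⟩ := (hn x).1 hx
    refine mul_mem hc ?_
    have : e ∈ E ⊓ Subgroup.centralizer (E : Set G) := by
      refine ⟨he, mem_centralizer_iff.2 fun z hz => ?_⟩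
      have h1 := hcx z (hEle hz)
      rw [mul_assoc, ← mul_assoc z c e, ← hCyc c hc z (hEle hz), mul_assoc c z e] at h1
      exact (mul_left_cancel h1).symm
    rw [← hmeet] at this
    exact this.1
  -- `t` is in the centre
  have htR : t ∈ R := by
    have htH : t ∈ H := (memH t).2 rfl
    rw [hR]
    refine ⟨⟨t, htH⟩, ?_, rfl⟩
    have hcen : (⟨t, htH⟩ : H) ∈ Subgroup.center H :=
      mem_center_iff.2 fun g => Subtype.ext ((memH g).1 g.2)
    have hnorm : (zpowers (⟨t, htH⟩ : H)).Normal := by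
      refine ⟨fun x hx g => ?_⟩
      have hxc : x ∈ Subgroup.center H := (zpowers_le.2 hcen) hx
      rwa [mem_center_iff.1 hxc g, mul_inv_cancel_right]
    have hp : IsPGroup 2 (zpowers (⟨t, htH⟩ : H)) := by
      refine IsPGroup.of_card (n := 1) ?_
      rw [Nat.card_zpowers, ← orderOf_injective H.subtype H.subtype_injective]
      simpa using ht
    exact (le_sSup (show zpowers (⟨t, htH⟩ : H) ∈ {N : Subgroup H | N.Normal ∧ IsPGroup 2 N} from
      ⟨hnorm, hp⟩) : zpowers (⟨t, htH⟩ : H) ≤ Cfsg.pCore 2 H) (mem_zpowers _)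
  have htCy : t ∈ Cy := centR' t htR fun r hr => ((memH r).1 (RH hr)).symm
  obtain ⟨⟨a, haCy⟩, hgen⟩ := hCy.exists_generator
  have hCyeq : Cy = zpowers a := by
    refine le_antisymm (fun x hx => ?_) (zpowers_le.2 haCy)
    obtain ⟨n, hn'⟩ := mem_zpowers_iff.1 (hgen ⟨x, hx⟩)
    exact mem_zpowers_iff.2 ⟨n, congrArg Subtype.val hn'⟩
  have hao : orderOf a = 4 := by rw [← Nat.card_zpowers, ← hCyeq, hCycard]
  have ha4 : a ^ 4 = 1 := hao ▸ pow_orderOf_eq_one a
  have hpow : ∀ x ∈ Cy, x = 1 ∨ x = a ∨ x = a ^ 2 ∨ x = a ^ 3 := by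
    intro x hx
    classical
    rw [hCyeq, mem_zpowers_iff_mem_range_orderOf, hao] at hx
    obtain ⟨n, hn', rfl⟩ := Finset.mem_image.1 hx
    rw [Finset.mem_range] at hn'
    interval_cases n <;> simp
  have ha2 : a * a = t := by
    have h1 : a ^ 2 ≠ 1 := fun e => by
      have := orderOf_dvd_of_pow_eq_one e; rw [hao] at this; norm_num at this
    rcases hpow t htCy with e | e | e | e
    · exact absurd e ht1
    · exact absurd (by rw [pow_two, ← e]; exact htt) h1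
    · rw [e, pow_two]
    · exact absurd (by
        have h6 : (a ^ 3) ^ 2 = 1 := by rw [← e, pow_two]; exact htt
        rw [← pow_mul] at h6
        calc a ^ 2 = a ^ 4 * a ^ 2 := by rw [ha4, one_mul]
          _ = a ^ (3 * 2) := by rw [← pow_add]
          _ = 1 := h6) h1
  have hZmem : ∀ x ∈ E, (∀ y ∈ E, x * y = y * x) → x = 1 ∨ x = t := by
    intro x hx hc
    have h' : x ∈ Cy ⊓ E := by rw [hmeet]; exact ⟨hx, mem_centralizer_iff.2 fun y hy => (hc y hy).symm⟩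
    have hx2 : x ^ 2 = 1 := by
      have := pow_card_eq_one' (x := (⟨x, h'⟩ : ↥(Cy ⊓ E)))
      rw [hZ] at this
      exact congrArg Subtype.val this
    rcases hpow x h'.1 with e | e | e | e
    · exact Or.inl e
    · rw [e, pow_two, ha2] at hx2; exact absurd hx2 ht1
    · exact Or.inr (by rw [e, pow_two, ha2])
    · refine absurd ?_ ht1
      rw [e, ← pow_mul] at hx2
      calc t = a ^ 4 * a ^ 2 := by rw [ha4, one_mul, pow_two, ha2]
        _ = a ^ (3 * 2) := by rw [← pow_add]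
        _ = 1 := hx2
  obtain ⟨⟨-, hfr, hder⟩, -⟩ := hEex
  have hcommE : ∀ r ∈ E, ∀ r' ∈ E, r * r' * r⁻¹ * r'⁻¹ = 1 ∨ r * r' * r⁻¹ * r'⁻¹ = t := by
    intro r hr r' hr'
    have h : ⁅(⟨r, hr⟩ : E), ⟨r', hr'⟩⁆ ∈ Subgroup.center E :=
      hder ▸ commutator_mem_commutator (mem_top _) (mem_top _)
    refine hZmem _ (mul_mem (mul_mem (mul_mem hr hr') (inv_mem hr)) (inv_mem hr')) fun y hy => ?_
    exact congrArg Subtype.val (mem_center_iff.1 h ⟨y, hy⟩).symm
  have commR : ∀ r ∈ R, ∀ r' ∈ R, r * r' * r⁻¹ * r'⁻¹ = 1 ∨ r * r' * r⁻¹ * r'⁻¹ = t := by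
    intro r hr r' hr'
    obtain ⟨c, hc, e, he, rfl⟩ := (hn r).1 hr
    obtain ⟨d, hd, f, hf, rfl⟩ := (hn r').1 hr'
    have k1 : c * (d * f) = d * f * c := hCyc c hc _ hr'
    have k2 : d * e = e * d := hCyc d hd e (hEle he)
    have hce : c * e * (d * f) * (c * e)⁻¹ * (d * f)⁻¹ = e * f * e⁻¹ * f⁻¹ := by
      have k3 : c * (e * (d * f) * e⁻¹) = e * (d * f) * e⁻¹ * c :=
        hCyc c hc _ (mul_mem (mul_mem (hEle he) hr') (inv_mem (hEle he)))
      have k4 : d * (e * f * e⁻¹ * f⁻¹) = e * f * e⁻¹ * f⁻¹ * d :=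
        hCyc d hd _ (mul_mem (mul_mem (mul_mem (hEle he) (hEle hf)) (inv_mem (hEle he))) (inv_mem (hEle hf)))
      calc c * e * (d * f) * (c * e)⁻¹ * (d * f)⁻¹
          = c * (e * (d * f) * e⁻¹) * c⁻¹ * (d * f)⁻¹ := by group
        _ = e * (d * f) * e⁻¹ * (d * f)⁻¹ := by rw [k3]; group
        _ = e * d * f * e⁻¹ * f⁻¹ * d⁻¹ := by group
        _ = d * (e * f * e⁻¹ * f⁻¹) * d⁻¹ := by rw [← k2]; group
        _ = e * f * e⁻¹ * f⁻¹ := by rw [k4]; group
    rw [hce]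
    exact hcommE e he f hf
  have sqR : ∀ r ∈ R, r * r = 1 ∨ r * r = t := by
    intro r hr
    obtain ⟨c, hc, e, he, rfl⟩ := (hn r).1 hr
    have h1 : e * e = 1 ∨ e * e = t := by
      have hE : IsPGroup 2 E := IsPGroup.of_card (n := 5) (by rw [hEcard]; norm_num)
      refine hZmem _ (mul_mem he he) fun y hy => ?_
      -- squares commute: `[e², y] = [e, y]²`
      have h2 : e * y * e⁻¹ = y ∨ e * y * e⁻¹ = t * y := by
        rcases hcommE e he y hy with k | k
        · exact Or.inl (mul_inv_eq_one.1 k)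
        · exact Or.inr (by rw [← k]; group)
      have hty : t * e = e * t := ((memH e).1 (RH (hEle he))).symm
      have h3 : e * e * y * (e * e)⁻¹ = y := by
        rcases h2 with k | k
        · calc e * e * y * (e * e)⁻¹ = e * (e * y * e⁻¹) * e⁻¹ := by group
            _ = y := by rw [k, k]
        · calc e * e * y * (e * e)⁻¹ = e * (e * y * e⁻¹) * e⁻¹ := by group
            _ = e * t * y * e⁻¹ := by rw [k]; group
            _ = t * e * y * e⁻¹ := by rw [hty]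
            _ = t * (e * y * e⁻¹) := by group
            _ = y := by rw [k, ← mul_assoc, htt, one_mul]
      exact mul_inv_eq_iff_eq_mul.1 h3
    have h4 : c * c = 1 ∨ c * c = t := by
      rcases hpow c hc with rfl | rfl | rfl | rfl
      · exact Or.inl (one_mul 1)
      · exact Or.inr ha2
      · exact Or.inl (by rw [← pow_add, ha4])
      · exact Or.inr (by rw [← pow_add, show 3 + 3 = 4 + 2 from rfl, pow_add, ha4, one_mul, pow_two, ha2])
    have h5 : c * e * (c * e) = c * c * (e * e) := by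
      calc c * e * (c * e) = c * (e * c) * e := by group
        _ = c * (c * e) * e := by rw [← hCyc c hc e (hEle he)]
        _ = _ := by group
    rw [h5]
    rcases h4 with k | k <;> rcases h1 with k' | k' <;> simp [k, k', htt]
  -- `M`
  set A : Subgroup G := (Cfsg.pCore 2 M).map M.subtype with hAdef
  have AM : A ≤ M := map_subtype_le _
  have cardA : Nat.card A = 64 := by
    rw [card_map_of_injective M.subtype_injective, Nat.card_congr eOM.toEquiv,
      Nat.card_congr Multiplicative.toAdd]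
    simp
  have memM : ∀ g, g ∈ M ↔ ∀ x, x ∈ V ↔ g * x * g⁻¹ ∈ V := fun g => by
    rw [hM, mem_normalizer_iff]
  have VM : V ≤ M := fun v hv => (memM v).2 fun x => ⟨fun hx => mul_mem (mul_mem hv hx) (inv_mem hv),
    fun hx => by
      have e : x = v⁻¹ * (v * x * v⁻¹) * v := by group
      rw [e]; exact mul_mem (mul_mem (inv_mem hv) hx) hv⟩
  have Vexp : ∀ x ∈ V, x * x = 1 := fun x hx => by rw [← pow_two]; exact hVexp x hx
  have Vab : ∀ x ∈ V, ∀ y ∈ V, x * y = y * x := fun x hx y hy =>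
    congrArg Subtype.val (hVcomm.is_comm.comm (⟨x, hx⟩ : V) ⟨y, hy⟩)
  have VA : V ≤ A := by
    intro v hv
    refine ⟨⟨v, VM hv⟩, ?_, rfl⟩
    have hnorm : (V.subgroupOf M).Normal := by
      refine ⟨fun x hx g => ?_⟩
      rw [mem_subgroupOf] at hx ⊢
      exact ((memM g).1 g.2 _).1 hx
    have hp : IsPGroup 2 (V.subgroupOf M) :=
      (IsPGroup.of_card (n := 3) (by rw [hVcard]; norm_num : Nat.card V = 2 ^ 3)).of_equiv
        (subgroupOfEquivOfLe VM).symm
    exact (le_sSup (show V.subgroupOf M ∈ {N : Subgroup M | N.Normal ∧ IsPGroup 2 N} from ⟨hnorm, hp⟩) :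
      V.subgroupOf M ≤ Cfsg.pCore 2 M) (mem_subgroupOf.2 hv)
  have hcA : ∀ x ∈ Cfsg.pCore 2 M, x ^ 4 = 1 := by
    intro x hx
    have h : (⟨x, hx⟩ : Cfsg.pCore 2 M) ^ 4 = 1 := eOM.injective (by
      rw [map_pow, map_one]; exact Multiplicative.toAdd.injective (model_facts.1 _))
    exact congrArg Subtype.val h
  refine ⟨a, A, eH.toMonoidHom.comp (QuotientGroup.mk' _), ⟨htt, ht1, ha2, memH, RH, ?_, cardR, ?_, ?_,
    commR, sqR, hVR, hVcard, Vab, Vexp, memM, AM, ?_, ?_, ?_, cardA, ?_, ?_, VA, ?_⟩,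
    eH.surjective.comp (QuotientGroup.mk'_surjective _), ?_⟩
  · intro g hg r hr
    rw [hR] at hr ⊢
    obtain ⟨x, hx, rfl⟩ := hr
    exact ⟨⟨g, hg⟩ * x * ⟨g, hg⟩⁻¹, (Cfsg.pCore_normal 2 H).conj_mem x hx _, rfl⟩
  · rw [card_eq_card_quotient_mul_card_subgroup (Cfsg.pCore 2 H), Nat.card_congr eH.toEquiv,
      ← card_map_of_injective H.subtype_injective, ← hR, cardR, Nat.card_perm]
    simp [Nat.factorial]
  · intro x
    rw [← hCyeq]
    exact ⟨fun h => centR' x h.1 h.2, fun h => ⟨(hCyle h).1, hCyc x h⟩⟩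
  · rintro g hg _ ⟨x, hx, rfl⟩
    exact ⟨⟨g, hg⟩ * x * ⟨g, hg⟩⁻¹, (Cfsg.pCore_normal 2 M).conj_mem x hx _, rfl⟩
  · rintro _ ⟨x, hx, rfl⟩ _ ⟨y, hy, rfl⟩
    have h : (⟨x, hx⟩ : Cfsg.pCore 2 M) * ⟨y, hy⟩ = ⟨y, hy⟩ * ⟨x, hx⟩ := eOM.injective (by
      rw [map_mul, map_mul]; exact mul_comm (G := Multiplicative (ZMod 4 × ZMod 4 × ZMod 4)) _ _)
    exact congrArg (fun z : Cfsg.pCore 2 M => ((z : M) : G)) h
  · rintro _ ⟨x, hx, rfl⟩
    rw [← map_pow, hcA x hx, map_one]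
  · rw [← model_facts.2, ← Nat.card_eq_finsetCard]
    refine Nat.card_congr (Equiv.ofBijective (fun x => ⟨Multiplicative.toAdd
      (eOM ⟨⟨x.1, AM x.2.1⟩, by
        obtain ⟨z, hz, e⟩ := x.2.1
        exact (Subtype.ext e : z = ⟨x.1, AM x.2.1⟩) ▸ hz⟩), ?_⟩) ⟨?_, ?_⟩)
    · rw [Finset.mem_filter]
      refine ⟨Finset.mem_univ _, ?_⟩
      rw [← toAdd_mul, ← map_mul, ← toAdd_one, ← map_one eOM]
      congr 2
      exact Subtype.ext (Subtype.ext x.2.2)
    · intro x y e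
      have := eOM.injective (Multiplicative.toAdd.injective (congrArg Subtype.val e))
      exact Subtype.ext (congrArg (fun z : Cfsg.pCore 2 M => ((z : M) : G)) this)
    · rintro ⟨m, hm⟩
      obtain ⟨⟨z, hz⟩, e⟩ := eOM.surjective (Multiplicative.ofAdd m)
      refine ⟨⟨(z : G), ⟨z, hz, rfl⟩, ?_⟩, Subtype.ext ?_⟩
      · have h : (⟨z, hz⟩ : Cfsg.pCore 2 M) * ⟨z, hz⟩ = 1 := eOM.injective (by
          rw [map_mul, map_one, e]; exact (Finset.mem_filter.1 hm).2)
        exact congrArg (fun z : Cfsg.pCore 2 M => ((z : M) : G)) h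
      · show Multiplicative.toAdd (eOM ⟨⟨(z : G), _⟩, _⟩) = m
        rw [show (⟨⟨(z : G), _⟩, _⟩ : Cfsg.pCore 2 M) = ⟨z, hz⟩ from rfl, e]
        rfl
  · rw [card_eq_card_quotient_mul_card_subgroup (Cfsg.pCore 2 M), Nat.card_congr eM.toEquiv, card_gl32,
      ← card_map_of_injective M.subtype_injective, ← hAdef, cardA]
  · intro N hAN hNM hNc
    haveI := isSimpleGroup_gl32
    haveI : IsSimpleGroup (M ⧸ Cfsg.pCore 2 M) := eM.isSimpleGroup
    have hn : (N.subgroupOf M).Normal := ⟨fun x hx g => mem_subgroupOf.2 (hNc g g.2 _ (mem_subgroupOf.1 hx))⟩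
    have hle : Cfsg.pCore 2 M ≤ N.subgroupOf M := fun x hx => mem_subgroupOf.2 (hAN ⟨x, hx, rfl⟩)
    rcases (hn.map (QuotientGroup.mk' (Cfsg.pCore 2 M)) (QuotientGroup.mk'_surjective _)).eq_bot_or_eq_top
      with h | h
    · left
      refine le_antisymm (fun x hx => ⟨⟨x, hNM hx⟩, ?_, rfl⟩) hAN
      have : (QuotientGroup.mk' (Cfsg.pCore 2 M)) ⟨x, hNM hx⟩ ∈ (⊥ : Subgroup _) :=
        h ▸ mem_map_of_mem _ (mem_subgroupOf.2 hx)
      exact (QuotientGroup.eq_one_iff _).1 (mem_bot.1 this)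
    · right
      refine le_antisymm hNM fun x hx => ?_
      obtain ⟨y, hy, e⟩ := (h ▸ mem_top ((QuotientGroup.mk' (Cfsg.pCore 2 M)) ⟨x, hx⟩) :
        _ ∈ (N.subgroupOf M).map (QuotientGroup.mk' (Cfsg.pCore 2 M)))
      rw [QuotientGroup.mk'_eq_mk'] at e
      obtain ⟨z, hz, e'⟩ := e
      exact mem_subgroupOf.1 (e' ▸ mul_mem hy (hle hz) : (⟨x, hx⟩ : M) ∈ N.subgroupOf M)
  · intro h
    show eH (QuotientGroup.mk' _ h) = 1 ↔ _
    rw [EmbeddingLike.map_eq_one_iff, QuotientGroup.mk'_apply, QuotientGroup.eq_one_iff, hR]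
    exact ⟨fun hh => ⟨h, hh, rfl⟩, by rintro ⟨z, hz, e⟩; rwa [← H.subtype_injective e]⟩

end CfsgLib.HSRecog
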