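import Cfsg.Agent.Lib.HSRecog.Global

/-!
# Recognition of the Higman–Sims group
-/

set_option autoImplicit false
set_option linter.style.haveILetI false

namespace CfsgLib.HSRecog

theorem isoHS_of_local {G : Type*} [Group G] [Finite G] {t a : G} {H R V M A : Subgroup G}
    (L : Loc t a H R V M A) {φ : H →* Equiv.Perm (Fin 5)} (hφ : Function.Surjective φ)
    (hφR : ∀ h : H, φ h = 1 ↔ (h : G) ∈ R) : Cfsg.Spor.IsoHS G := by
  obtain ⟨q, y, u, s0, g0⟩ := exists_gens L hφ hφR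
  obtain ⟨s, g, hz⟩ := g0.exists_shift hφ hφR
  obtain ⟨ss, c0, e0, k3⟩ := g.stage hz
  exact (Stage.mk g ss c0 e0 k3).isoHS hφR

end CfsgLib.HSRecog
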