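import Cfsg.Agent.Lib.HSRecog.ModelData
import Cfsg.Agent.Lib.HSRecog.Bound
import Cfsg.Agent.Lib.Presented.BaseChain

/-!
# The permutation group of degree one hundred
-/

set_option autoImplicit false
set_option linter.style.haveILetI false
set_option maxRecDepth 16000

namespace CfsgLib.HSRecog

open Subgroup CfsgLib.Presented ModelData

theorem rep_valid : rep.valid = true := by decide +kernel

/-- The permutations of the letters. -/
def pm (x : ℕ) : Equiv.Perm (Fin rep.N) := rep.perm rep_valid x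

/-- The model values of the ten letters. -/
def evP : ℕ → Equiv.Perm (Fin rep.N) := evS (pm 0) (pm 2) (pm 4) (pm 6) (pm 8)

theorem evP_eq {x : ℕ} (hx : x < 10) : evP x = pm x := by
  have hinv : ∀ x < 10, flipLet x = rep.A.invl x ∧ x < rep.A.eps := by decide +kernel
  have hg := Rep.perm_good rep_valid
  have key : ∀ k, k < 5 → pm (2 * k + 1) = (pm (2 * k))⁻¹ := by
    intro k hk
    have h := hg.inv (2 * k) (hinv (2 * k) (by omega)).2.le
    rw [← (hinv (2 * k) (by omega)).1, show flipLet (2 * k) = 2 * k + 1 by simp [flipLet]] at h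
    exact eq_inv_of_mul_eq_one_left h
  rcases x with _ | _ | _ | _ | _ | _ | _ | _ | _ | _ | n
  exacts [rfl, (key 0 (by omega)).symm, rfl, (key 1 (by omega)).symm, rfl, (key 2 (by omega)).symm,
    rfl, (key 3 (by omega)).symm, rfl, (key 4 (by omega)).symm, absurd hx (by omega)]

theorem evW_evP {w : List ℕ} (hw : ∀ x ∈ w, x < 10) : evW evP w = evW pm w :=
  congrArg List.prod (List.map_congr_left fun x hx => evP_eq (hw x hx))

/-- A word acting trivially in the model. -/
noncomputable def triv (w : List ℕ) : Bool := w.all (fun x => Nat.blt x 10) && rep.relsOK [w]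

theorem triv_eq {w : List ℕ} (h : triv w = true) : evW evP w = 1 := by
  simp only [triv, Bool.and_eq_true, List.all_eq_true, Nat.blt_eq] at h
  rw [evW_evP h.1]
  exact Rep.evW_eq_one rep_valid h.2 (by simp)

/-- A word moving one of the hundred points. -/
noncomputable def moved (w : List ℕ) : Bool := w.all (fun x => Nat.blt x 10) && !rep.idOn (rep.netW w)

theorem moved_ne {w : List ℕ} (h : moved w = true) : evW evP w ≠ 1 := by
  simp only [moved, Bool.and_eq_true, List.all_eq_true, Nat.blt_eq, Bool.not_eq_true'] at h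
  obtain ⟨hl, hne⟩ := h
  intro e
  rw [evW_evP hl] at e
  apply Bool.eq_false_iff.1 hne
  simp only [Rep.idOn, List.all_eq_true]
  intro v _
  have hfix : ∀ i, i < rep.N → Vec.netPerm (rep.netW w) i = i := fun i hi => by
    have := Rep.netW_perm rep_valid w ⟨i, hi⟩
    rw [show evW (rep.perm rep_valid) w = 1 from e] at this
    exact this.symm
  rw [Vec.agreeOn]
  suffices e2 : Nat.land (Vec.applyNet (rep.netW w) v) (Vec.ones rep.N) = Nat.land v (Vec.ones rep.N) by
    rw [e2]; exact Nat.beq_refl _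
  refine Nat.eq_of_testBit_eq fun i => ?_
  change (Vec.applyNet (rep.netW w) v &&& Vec.ones rep.N).testBit i = (v &&& Vec.ones rep.N).testBit i
  rw [Nat.testBit_and, Nat.testBit_and, Vec.testBit_ones, Vec.testBit_applyNet (Rep.netOk_netW rep_valid w)]
  by_cases hi : i < rep.N
  · rw [hfix i hi]
  · simp [hi]

theorem model_rels : (allRels ++ hRels.map hWord ++ mRels).all triv = true := by decide +kernel

theorem model_allRels : ∀ w ∈ allRels, evW evP w = 1 := fun _ hw =>
  triv_eq (List.all_eq_true.1 model_rels _ (List.mem_append_left _ (List.mem_append_left _ hw)))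

theorem model_hRels : ∀ w ∈ hRels, evW evP (hWord w) = 1 := fun _ hw =>
  triv_eq (List.all_eq_true.1 model_rels _ (List.mem_append_left _ (List.mem_append_right _ (List.mem_map_of_mem hw))))

theorem model_mRels : ∀ w ∈ mRels, evW evP w = 1 := fun _ hw =>
  triv_eq (List.all_eq_true.1 model_rels _ (List.mem_append_right _ hw))

theorem tconj_moved : ∀ i < 7, i ≠ 0 →
    moved (List.replicate i 3 ++ [0, 0] ++ List.replicate i 2 ++ [1, 1]) = true := by decide +kernel

section bounds

variable {W : Type*} [Group W] {a q y u s : W}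

/-- The bound for the intersection of `M` and `H`: the square of `a` has seven conjugates. -/
theorem card_C_le (hM : ∀ w ∈ mRels, evW (evS a q y u s) w = 1)
    (hc : ∀ w ∈ hLetters.take 5, evW (evS a q y u s) w * (a * a) = (a * a) * evW (evS a q y u s) w)
    (ht : ∀ i < 7, i ≠ 0 → (q ^ i)⁻¹ * (a * a) * q ^ i ≠ a * a) :
    Finite (closure (cSet a q y u s)) ∧ Nat.card (closure (cSet a q y u s)) ≤ 1536 := by
  obtain ⟨f, hf⟩ := card_M_le hM
  let L := closure ({a, q, y, u} : Set W)
  have hCL : closure (cSet a q y u s) ≤ L := by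
    rw [closure_le]
    rintro _ ⟨w, hw, rfl⟩
    have hl : ∀ w ∈ hLetters.take 5, ∀ x ∈ w, x < 8 := by decide +kernel
    refine list_prod_mem fun z hz => ?_
    obtain ⟨x, hx, rfl⟩ := List.mem_map.1 hz
    have hx8 := hl w hw x hx
    have ma : a ∈ L := subset_closure (by simp)
    have mq : q ∈ L := subset_closure (by simp)
    have my : y ∈ L := subset_closure (by simp)
    have mu : u ∈ L := subset_closure (by simp)
    rcases x with _ | _ | _ | _ | _ | _ | _ | _ | n
    exacts [ma, inv_mem ma, mq, inv_mem mq, my, inv_mem my, mu, inv_mem mu, absurd hx8 (by omega)]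
  refine ⟨Finite.of_injective _ (inclusion_injective hCL), ?_⟩
  let Z : Subgroup L := (centralizer {a * a}).subgroupOf L
  have hZ : closure (cSet a q y u s) ≤ centralizer {a * a} := by
    rw [closure_le]
    rintro _ ⟨w, hw, rfl⟩
    refine mem_centralizer_iff.2 fun h hh => ?_
    rw [Set.mem_singleton_iff.1 hh]
    exact (hc w hw).symm
  have mq : q ∈ L := subset_closure (by simp)
  let g : Fin 7 → L ⧸ Z := fun i => ((⟨q ^ (i : ℕ), pow_mem mq i⟩ : L) : L ⧸ Z)
  have hg : Function.Injective g := by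
    suffices key : ∀ i j : Fin 7, (i : ℕ) ≤ j → g i = g j → i = j by
      intro i j e
      rcases le_total (i : ℕ) j with h | h
      · exact key i j h e
      · exact (key j i h e.symm).symm
    intro i j hij e
    rw [QuotientGroup.eq, mem_subgroupOf, mem_centralizer_iff] at e
    have e' := e (a * a) rfl
    push_cast at e'
    have hd : (q ^ (i : ℕ))⁻¹ * q ^ (j : ℕ) = q ^ ((j : ℕ) - i) := by
      rw [inv_mul_eq_iff_eq_mul, ← pow_add, Nat.add_sub_cancel' hij]
    rw [hd] at e'
    by_contra hne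
    refine ht ((j : ℕ) - i) (by omega) (by have := Fin.val_ne_of_ne hne; omega) ?_
    rw [mul_assoc, e', inv_mul_cancel_left]
  haveI : Finite L := f
  have h7 : 7 ≤ Z.index := by
    have := Nat.card_le_card_of_injective g hg
    simpa [Subgroup.index] using this
  have hle : Nat.card (closure (cSet a q y u s)) ≤ Nat.card Z := by
    let i : closure (cSet a q y u s) → Z := fun x => ⟨⟨x.1, hCL x.2⟩, hZ x.2⟩
    exact Nat.card_le_card_of_injective i fun x y e =>
      Subtype.ext (congrArg (fun z : Z => ((z : L) : W)) e)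
  have hp : 7 * Nat.card Z ≤ 10752 := by
    calc 7 * Nat.card Z ≤ Z.index * Nat.card Z := Nat.mul_le_mul_right _ h7
      _ = Nat.card L := by rw [mul_comm]; exact Z.card_mul_index
      _ ≤ 10752 := hf
  omega

/-- The bound for `H`. -/
theorem card_K_le' (hM : ∀ w ∈ mRels, evW (evS a q y u s) w = 1)
    (hc : ∀ w ∈ hLetters.take 5, evW (evS a q y u s) w * (a * a) = (a * a) * evW (evS a q y u s) w)
    (ht : ∀ i < 7, i ≠ 0 → (q ^ i)⁻¹ * (a * a) * q ^ i ≠ a * a)
    (hH : ∀ w ∈ hRels, evW (evS a q y u s) (hWord w) = 1) :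
    Finite (closure (kSet a q y u s)) ∧ Nat.card (closure (kSet a q y u s)) ≤ 7680 := by
  obtain ⟨f, h⟩ := card_C_le hM hc ht
  exact card_K_le hH h

end bounds

theorem comm_t_triv : ∀ w ∈ hLetters.take 5, triv (w ++ [0, 0] ++ iv w ++ [1, 1]) = true := by decide +kernel

theorem evP_tconj : ∀ i < 7, i ≠ 0 → (pm 2 ^ i)⁻¹ * (pm 0 * pm 0) * pm 2 ^ i ≠ pm 0 * pm 0 := by
  intro i hi hi0 e
  apply moved_ne (tconj_moved i hi hi0)
  simp only [evW_append, evW_cons, evW_nil, mul_one]
  rw [evW, List.map_replicate, List.prod_replicate, evW, List.map_replicate, List.prod_replicate]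
  show (pm 2)⁻¹ ^ i * (pm 0 * pm 0) * pm 2 ^ i * ((pm 0)⁻¹ * (pm 0)⁻¹) = 1
  rw [inv_pow, e]
  group

theorem evP_comm_t : ∀ w ∈ hLetters.take 5, evW evP w * (pm 0 * pm 0) = (pm 0 * pm 0) * evW evP w := by
  intro w hw
  have h := triv_eq (comm_t_triv w hw)
  have hl : ∀ w ∈ hLetters.take 5, ∀ x ∈ w, x < 10 := by decide +kernel
  rw [evW_append, evW_append, evW_append, evP, evW_iv _ _ _ _ _ (hl w hw)] at h
  have h' : evW evP w * (pm 0 * pm 0) * (evW evP w)⁻¹ * ((pm 0)⁻¹ * (pm 0)⁻¹) = 1 := by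
    simpa [evP, evS] using h
  calc evW evP w * (pm 0 * pm 0) =
      evW evP w * (pm 0 * pm 0) * (evW evP w)⁻¹ * ((pm 0)⁻¹ * (pm 0)⁻¹) * ((pm 0 * pm 0) * evW evP w) := by group
    _ = _ := by rw [h', one_mul]

/-- The group. -/
def Γ : Subgroup (Equiv.Perm (Fin rep.N)) := closure {pm 0, pm 2, pm 4, pm 6, pm 8}

theorem pm_mem {x : ℕ} (hx : x < 10) : pm x ∈ Γ := by
  have m : ∀ z ∈ ({pm 0, pm 2, pm 4, pm 6, pm 8} : Set (Equiv.Perm (Fin rep.N))), z ∈ Γ := fun z => (subset_closure ·)
  rw [← evP_eq hx]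
  rcases x with _ | _ | _ | _ | _ | _ | _ | _ | _ | _ | n
  exacts [m _ (by simp [evP, evS]), inv_mem (m _ (by simp)), m _ (by simp [evP, evS]), inv_mem (m _ (by simp)),
    m _ (by simp [evP, evS]), inv_mem (m _ (by simp)), m _ (by simp [evP, evS]), inv_mem (m _ (by simp)),
    m _ (by simp [evP, evS]), inv_mem (m _ (by simp)),
    absurd hx (by omega)]

theorem card_Γ_le : Nat.card Γ ≤ 44352000 := by
  obtain ⟨f, hK⟩ := card_K_le' model_mRels evP_comm_t evP_tconj model_hRels
  exact (card_G_le model_allRels hK).2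

/-- The levels of the chain. -/
def levels : List BLevel := [level0, level1, level2, level3, level4, level5]

theorem levels_ok : chainOK rep levels = true := by decide +kernel

theorem card_Γ : Nat.card Γ = 44352000 := by
  refine le_antisymm card_Γ_le ?_
  refine le_of_eq_of_le (by decide +kernel : (44352000 : ℕ) = chainProd levels) ?_
  exact le_natCard_of_chainOK rep_valid levels level0 _ rfl levels_ok Γ fun x hx => pm_mem (by
    have : ∀ x ∈ level0.gens, x < 10 := by decide +kernel
    exact this x hx)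

/-- The group generated by the letters of a level. -/
def lvl (L : BLevel) : Subgroup (Equiv.Perm (Fin rep.N)) :=
  closure ((fun w => evW pm w) '' {w | w ∈ L.gens.map fun x => [x]})

theorem lvl_le {L : BLevel} {K : Subgroup (Equiv.Perm (Fin rep.N))} (h : ∀ x ∈ L.gens, pm x ∈ K) : lvl L ≤ K := by
  rw [lvl, closure_le]
  rintro _ ⟨w, hw, rfl⟩
  obtain ⟨x, hx, rfl⟩ := List.mem_map.1 hw
  simpa using h x hx

theorem pm_mem_lvl {L : BLevel} {x : ℕ} (hx : x ∈ L.gens) : pm x ∈ lvl L :=
  subset_closure ⟨[x], List.mem_map.2 ⟨x, hx, rfl⟩, by simp⟩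

theorem lvl0 : lvl level0 = Γ := by
  refine le_antisymm (lvl_le fun x hx => pm_mem ?_) ?_
  · have : ∀ x ∈ level0.gens, x < 10 := by decide +kernel
    exact this x hx
  · rw [Γ, closure_le]
    rintro x (rfl | rfl | rfl | rfl | rfl) <;> exact pm_mem_lvl (by decide +kernel)

theorem orbit_level {L : BLevel} (hlev : levelOK rep L = true) :
    ∃ hi : L.point < rep.N,
      (∀ j : Fin rep.N, (∃ h ∈ lvl L, h ⟨L.point, hi⟩ = j) ↔ L.orb.testBit j = true) ∧
      (MulAction.orbit (lvl L) (⟨L.point, hi⟩ : Fin rep.N)).ncard = L.size := by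
  simp only [levelOK, Bool.and_eq_true] at hlev
  obtain ⟨⟨horb, hsize⟩, -⟩ := hlev
  have hi : L.point < rep.N := by
    simp only [orbitOK, Bool.and_eq_true, Nat.blt_eq] at horb
    exact horb.1.1
  have h := orbit_eq_of_ok rep_valid horb (ev := pm) (MonoidHom.id _) (fun x _ => rfl) (H := lvl L) rfl hi
  refine ⟨hi, h, ?_⟩
  rw [← Nat.eq_of_beq_eq_true hsize, bitCount_eq, ← Set.ncard_coe_finset]
  refine Set.ncard_congr (fun q _ => (q : ℕ)) ?_ (fun p q _ _ e => Fin.ext e) ?_
  · intro q hq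
    obtain ⟨g, rfl⟩ := hq
    simp only [Finset.coe_filter, Finset.mem_range]
    exact ⟨(g • (⟨L.point, hi⟩ : Fin rep.N)).2, (h _).1 ⟨g.1, g.2, rfl⟩⟩
  · intro k hk
    simp only [Finset.coe_filter, Finset.mem_range] at hk
    obtain ⟨g, hg, e⟩ := (h ⟨k, hk.1⟩).2 hk.2
    exact ⟨⟨k, hk.1⟩, ⟨⟨g, hg⟩, e⟩, rfl⟩

/-- The points fixed by the next level. -/
theorem next_mem {L M : BLevel} {rest : List BLevel} (hok : chainOK rep (L :: M :: rest) = true) :
    ∀ x ∈ M.gens, pm x ∈ lvl L ∧ ∀ hi : L.point < rep.N, pm x ⟨L.point, hi⟩ = ⟨L.point, hi⟩ := by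
  simp only [chainOK, Bool.and_eq_true] at hok
  obtain ⟨⟨hlev, hnx⟩, -⟩ := hok
  simp only [levelOK, Bool.and_eq_true, List.all_eq_true] at hlev
  rw [← listEq_eq hnx]
  intro x hx
  obtain ⟨d, hd, rfl⟩ := List.mem_map.1 hx
  obtain ⟨⟨⟨hlt, hfix⟩, hletters⟩, hrel⟩ := hlev.2 d hd
  rw [Nat.blt_eq] at hlt
  simp only [Bool.or_eq_true, List.contains_iff_mem] at hletters
  have hgood := Rep.perm_good rep_valid
  have hzle : ∀ z ∈ d.2, z ≤ rep.A.eps := by
    have h2 := hrel
    simp only [Rep.relsOK, List.all_eq_true, Bool.and_eq_true] at h2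
    intro z hz
    have h3 := (h2 (d.2 ++ [rep.A.invl d.1]) (by simp)).1 z (List.mem_append.2 (Or.inl hz))
    rw [Nat.blt_eq] at h3
    exact h3.le
  have hy1 : evW pm d.2 = pm d.1 := by
    have h1 := Rep.evW_eq_one rep_valid hrel (w := d.2 ++ [rep.A.invl d.1]) (by simp)
    rw [evW_append, evW_cons, evW_nil, mul_one] at h1
    show evW (rep.perm rep_valid) d.2 = rep.perm rep_valid d.1
    rw [eq_inv_of_mul_eq_one_left h1, eq_inv_of_mul_eq_one_left (hgood.inv d.1 hlt.le), inv_inv]
  refine ⟨?_, fun hi => Fin.ext ?_⟩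
  · rw [← hy1]
    refine list_prod_mem fun g hg => ?_
    obtain ⟨z, hz, rfl⟩ := List.mem_map.1 hg
    rcases hletters z hz with h | h
    · exact pm_mem_lvl h
    · have e : pm (rep.A.invl z) * pm z = 1 := hgood.inv z (hzle z hz)
      rw [eq_inv_of_mul_eq_one_right e]
      exact inv_mem (pm_mem_lvl h)
  · rw [pm, Rep.perm_val]
    rw [Vec.testBit_applyNet ((Rep.valid_spec rep_valid).2.2.1 d.1)] at hfix
    change Nat.testBit (1 <<< L.point) _ = true at hfix
    rw [Nat.testBit_shiftLeft, Bool.and_eq_true, decide_eq_true_eq] at hfix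
    have := VCert.one_bit hfix.2
    have hf1 := hfix.1
    simp only
    omega

/-- Descending one step. -/
theorem lvl_step {L M : BLevel} {rest : List BLevel} (hok : chainOK rep (L :: M :: rest) = true)
    (hc : Nat.card (lvl L) = L.size * chainProd (M :: rest)) :
    Nat.card (lvl M) = chainProd (M :: rest) ∧ lvl M ≤ lvl L ∧
      ∀ hi : L.point < rep.N, ∀ x ∈ lvl L, (x ⟨L.point, hi⟩ = ⟨L.point, hi⟩ ↔ x ∈ lvl M) := by
  have hok' := hok
  simp only [chainOK, Bool.and_eq_true] at hok'
  obtain ⟨⟨hlev, -⟩, hrest⟩ := hok'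
  obtain ⟨hi, -, hsz⟩ := orbit_level hlev
  have hn := next_mem hok
  have hle : lvl M ≤ lvl L := lvl_le fun x hx => (hn x hx).1
  let S := MulAction.stabilizer (lvl L) (⟨L.point, hi⟩ : Fin rep.N)
  have hsub : (lvl M).subgroupOf (lvl L) ≤ S := by
    intro x hx
    have h2 : lvl M ≤ MulAction.stabilizer (Equiv.Perm (Fin rep.N)) (⟨L.point, hi⟩ : Fin rep.N) :=
      lvl_le fun z hz => MulAction.mem_stabilizer_iff.2 ((hn z hz).2 hi)
    exact MulAction.mem_stabilizer_iff.2 (MulAction.mem_stabilizer_iff.1 (h2 hx))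
  have hS : Nat.card S = chainProd (M :: rest) := by
    have h := S.card_mul_index
    rw [MulAction.index_stabilizer, hsz, hc, mul_comm] at h
    have hne : L.size ≠ 0 := by
      intro h0
      have := Nat.card_pos (α := lvl L)
      simp [hc, h0] at this
    exact Nat.eq_of_mul_eq_mul_left (Nat.pos_of_ne_zero hne) h
  have hge : chainProd (M :: rest) ≤ Nat.card (lvl M) :=
    le_natCard_of_chainOK rep_valid _ M rest rfl hrest (lvl M) fun x hx => pm_mem_lvl hx
  have hcM : Nat.card ((lvl M).subgroupOf (lvl L)) = Nat.card (lvl M) :=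
    Nat.card_congr (subgroupOfEquivOfLe hle).toEquiv
  have heq : (lvl M).subgroupOf (lvl L) = S :=
    eq_of_le_of_card_ge hsub (by rw [hS, hcM]; exact hge)
  refine ⟨by rw [← hcM, heq, hS], hle, fun hi' x hx => ?_⟩
  have := SetLike.ext_iff.1 heq ⟨x, hx⟩
  rw [mem_subgroupOf, MulAction.mem_stabilizer_iff] at this
  exact ⟨fun e => this.2 e, fun e => this.1 e⟩

end CfsgLib.HSRecog
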