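import Mathlib.GroupTheory.Transfer
import Mathlib.GroupTheory.SpecificGroups.Cyclic
import Mathlib.GroupTheory.Perm.Cycle.Type
import Mathlib.Tactic.IntervalCases
import Mathlib.Tactic.NormNum.Prime
import Mathlib.Tactic.Group

/-!
# Odd groups of order dividing 3465 without elements of order 21, 33, 35, 55, 77
-/

set_option autoImplicit false
set_option linter.style.haveILetI false

namespace CfsgLib.HSRecog

open Subgroup

variable {K : Type*} [Group K] [Finite K]

/-- An element of order five, seven or eleven normalising a group of order one, three or nine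
centralises it. -/
theorem centralises_small (P : Subgroup K) (hP : Nat.card P ∣ 9) {w : K} {p : ℕ}
    (hp : p = 5 ∨ p = 7 ∨ p = 11) (hw : w ^ p = 1) (hn : w ∈ normalizer (P : Set K)) :
    ∀ x ∈ P, w * x = x * w := by
  classical
  haveI : Fact p.Prime := ⟨by rcases hp with rfl | rfl | rfl <;> norm_num⟩
  let F : Subgroup P :=
    { carrier := {x : P | w * x.1 * w⁻¹ = x.1}
      one_mem' := by simp
      mul_mem' := fun {x y} hx hy => by
        show w * (x.1 * y.1) * w⁻¹ = x.1 * y.1
        calc w * (x.1 * y.1) * w⁻¹ = (w * x.1 * w⁻¹) * (w * y.1 * w⁻¹) := by group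
          _ = _ := by rw [hx, hy]
      inv_mem' := fun {x} hx => by
        show w * x.1⁻¹ * w⁻¹ = x.1⁻¹
        calc w * x.1⁻¹ * w⁻¹ = (w * x.1 * w⁻¹)⁻¹ := by group
          _ = _ := by rw [hx] }
  haveI : Fintype P := Fintype.ofFinite P
  let σ : Equiv.Perm P :=
    Equiv.ofBijective (fun x => ⟨w * x.1 * w⁻¹, (mem_normalizer_iff.1 hn x.1).1 x.2⟩)
      (Finite.injective_iff_bijective.1 fun x y e => Subtype.ext
        (mul_left_cancel (mul_right_cancel (congrArg Subtype.val e))))
  have hpow : ∀ n : ℕ, ∀ x : P, ((σ ^ n) x).1 = w ^ n * x.1 * (w ^ n)⁻¹ := by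
    intro n
    induction n with
    | zero => intro x; simp
    | succ n ih =>
      intro x
      rw [pow_succ', Equiv.Perm.mul_apply]
      show w * ((σ ^ n) x).1 * w⁻¹ = _
      rw [ih, pow_succ']
      group
  have hσ : σ ^ p ^ 1 = 1 := Equiv.ext fun x => Subtype.ext (by rw [hpow, pow_one, hw]; simp)
  have hmod := Equiv.Perm.card_compl_support_modEq hσ
  have hfix : (σ.supportᶜ).card = Nat.card F := by
    rw [Nat.card_eq_fintype_card]
    symm
    refine Fintype.card_of_subtype _ fun x => ?_
    rw [Finset.mem_compl, Equiv.Perm.notMem_support]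
    exact ⟨fun h => congrArg Subtype.val h, fun h => Subtype.ext h⟩
  rw [hfix, ← Nat.card_eq_fintype_card] at hmod
  have hF : Nat.card F ∣ Nat.card P := card_subgroup_dvd_card F
  have htop : F = ⊤ := by
    refine eq_top_of_card_eq F ?_
    obtain ⟨i, hi, ei⟩ := (Nat.dvd_prime_pow Nat.prime_three).1 (show Nat.card P ∣ 3 ^ 2 from hP)
    rw [ei] at hF hmod ⊢
    obtain ⟨j, hj, ej⟩ := (Nat.dvd_prime_pow Nat.prime_three).1 hF
    rw [ej] at hmod ⊢
    interval_cases i <;> interval_cases j <;> rcases hp with rfl | rfl | rfl <;>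
      first | rfl | simp [Nat.ModEq] at hmod
  intro x hx
  have h : w * x * w⁻¹ = x := (htop.symm ▸ mem_top (⟨x, hx⟩ : P) : (⟨x, hx⟩ : P) ∈ F)
  conv_rhs => rw [← h]
  group

theorem abelian_of_card_dvd_nine (P : Subgroup K) (hP : Nat.card P ∣ 9) :
    ∀ x ∈ P, ∀ y ∈ P, x * y = y * x := by
  intro x hx y hy
  haveI : Fact (Nat.Prime 3) := ⟨Nat.prime_three⟩
  obtain ⟨i, hi, ei⟩ := (Nat.dvd_prime_pow Nat.prime_three).1 (show Nat.card P ∣ 3 ^ 2 from hP)
  have : ∀ a b : P, a * b = b * a := by
    interval_cases i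
    · intro a b
      haveI := (Nat.card_eq_one_iff_unique.1 ei).1
      exact Subsingleton.elim _ _
    · intro a b
      haveI := isCyclic_of_prime_card (p := 3) (by simpa using ei : Nat.card P = 3)
      exact IsCyclic.commGroup.mul_comm a b
    · exact fun a b => (IsPGroup.commutative_of_card_eq_prime_sq ei) a b
  exact congrArg Subtype.val (this ⟨x, hx⟩ ⟨y, hy⟩)

theorem sylow_unique_char {p : ℕ} [Fact p.Prime] (N : Subgroup K) [N.Normal] (hu : Nat.card (Sylow p N) = 1)
    (Q : Sylow p N) : ((Q : Subgroup N).map N.subtype).Normal := by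
  haveI := (Nat.card_eq_one_iff_unique.1 hu).1
  haveI : (Q : Subgroup N).Characteristic := Sylow.characteristic_of_subsingleton Q
  infer_instance

theorem bound_of_normal_prime {p : ℕ} (hp : p.Prime) (Q : Subgroup K) [Q.Normal] (hQ : Nat.card Q = p)
    {m : ℕ} (hm : Nat.card K ∣ m) (hmp : ¬ p ^ 2 ∣ m)
    (hno : ∀ g z : K, orderOf g = p → orderOf z ∣ m → (orderOf z).Prime → orderOf z ≠ p → g * z ≠ z * g) :
    Nat.card K ∣ p * (p - 1) := by
  classical
  haveI : Fact p.Prime := ⟨hp⟩
  haveI := isCyclic_of_prime_card hQ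
  let f : K →* MulAut Q := MulAut.conjNormal
  have hker : ∀ c, c ∈ f.ker → ∀ x ∈ Q, c * x = x * c := by
    intro c hc x hx
    have h := congrArg (fun e : MulAut Q => (e ⟨x, hx⟩ : K)) (MonoidHom.mem_ker.1 hc)
    simp only [f, MulAut.conjNormal_apply, MulAut.one_apply] at h
    conv_rhs => rw [← h]
    group
  obtain ⟨g, hg⟩ := exists_prime_orderOf_dvd_card' (G := Q) p (dvd_of_eq hQ.symm)
  rw [← orderOf_injective Q.subtype Q.subtype_injective] at hg
  have hk : Nat.card f.ker ∣ p := by
    have hpg : ∀ r : ℕ, r.Prime → r ∣ Nat.card f.ker → r = p := by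
      intro r hr hrd
      haveI : Fact r.Prime := ⟨hr⟩
      obtain ⟨z, hz⟩ := exists_prime_orderOf_dvd_card' (G := f.ker) r hrd
      rw [← orderOf_injective f.ker.subtype f.ker.subtype_injective] at hz
      by_contra hne
      refine hno g.1 z.1 hg ?_ ?_ ?_ (hker z.1 z.2 g.1 g.2).symm
      · exact (_root_.orderOf_dvd_natCard _).trans hm
      · rw [show orderOf (z : K) = r from hz]; exact hr
      · rw [show orderOf (z : K) = r from hz]; exact hne
    have hpow := Nat.eq_prime_pow_of_unique_prime_dvd Nat.card_pos.ne' (fun {d} hd hdd => hpg d hd hdd)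
    rw [hpow]
    rcases Nat.lt_or_ge ((Nat.card f.ker).primeFactorsList.length) 2 with h | h
    · interval_cases ((Nat.card f.ker).primeFactorsList.length) <;> simp
    · exact absurd ((pow_dvd_pow p h).trans (hpow ▸ (card_subgroup_dvd_card f.ker).trans hm)) hmp
  have hr : Nat.card f.range ∣ p - 1 := by
    have h1 := card_subgroup_dvd_card f.range
    rwa [IsCyclic.card_mulAut, hQ, Nat.totient_prime hp] at h1
  rw [f.ker.card_eq_card_quotient_mul_card_subgroup, Nat.card_congr (QuotientGroup.quotientKerEquivRange f).toEquiv,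
    mul_comm]
  exact Nat.mul_dvd_mul hk hr

/-- The bound. -/
theorem odd_bound (hcard : Nat.card K ∣ 3465)
    (h11 : ∀ g z : K, orderOf g = 11 → orderOf z = 3 ∨ orderOf z = 5 ∨ orderOf z = 7 → g * z ≠ z * g)
    (h7 : ∀ g z : K, orderOf g = 7 → orderOf z = 3 ∨ orderOf z = 5 → g * z ≠ z * g) :
    Nat.card K ≤ 55 := by
  classical
  haveI : Fact (Nat.Prime 3) := ⟨Nat.prime_three⟩
  let P : Sylow 3 K := default
  have hP : Nat.card P ∣ 9 := by
    obtain ⟨n, hn⟩ := P.2.exists_card_eq
    rw [hn]
    have hdvd : 3 ^ n ∣ 3465 := (hn ▸ card_subgroup_dvd_card (P : Subgroup K)).trans hcard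
    rcases Nat.lt_or_ge n 3 with h | h
    · interval_cases n <;> norm_num
    · exact absurd ((pow_dvd_pow 3 h).trans hdvd) (by norm_num)
  have hab := abelian_of_card_dvd_nine (P : Subgroup K) hP
  have hPC : normalizer ((P : Subgroup K) : Set K) ≤ centralizer ((P : Subgroup K) : Set K) := by
    intro g hg
    have hord : orderOf g ∣ 3465 := (_root_.orderOf_dvd_natCard g).trans hcard
    have h385 : (g ^ 9) ^ 385 = 1 := by rw [← pow_mul]; exact orderOf_dvd_iff_pow_eq_one.1 hord
    have hn : g ^ 9 ∈ normalizer ((P : Subgroup K) : Set K) := pow_mem hg 9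
    have c9 : g ^ 9 ∈ centralizer ((P : Subgroup K) : Set K) := by
      have k5 := centralises_small (P : Subgroup K) hP (p := 5) (Or.inl rfl) (w := (g ^ 9) ^ 77)
        (by rw [← pow_mul]; exact h385) (pow_mem hn 77)
      have k7 := centralises_small (P : Subgroup K) hP (p := 7) (Or.inr (Or.inl rfl)) (w := (g ^ 9) ^ 55)
        (by rw [← pow_mul]; exact h385) (pow_mem hn 55)
      have k11 := centralises_small (P : Subgroup K) hP (p := 11) (Or.inr (Or.inr rfl)) (w := (g ^ 9) ^ 35)
        (by rw [← pow_mul]; exact h385) (pow_mem hn 35)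
      have m : ∀ {w : K}, (∀ x ∈ (P : Subgroup K), w * x = x * w) → w ∈ centralizer ((P : Subgroup K) : Set K) :=
        fun h => mem_centralizer_iff.2 fun x hx => (h x hx).symm
      have hmem := mul_mem (mul_mem (pow_mem (m k5) 3) (pow_mem (m k7) 6)) (pow_mem (m k11) 6)
      rw [← pow_mul, ← pow_mul, ← pow_mul, ← pow_mul, ← pow_mul, ← pow_mul, ← pow_add, ← pow_add,
        show 9 * (77 * 3) + 9 * (55 * 6) + 9 * (35 * 6) = 3465 * 2 + 9 from rfl, pow_add, pow_mul,
        orderOf_dvd_iff_pow_eq_one.1 hord, one_pow, one_mul] at hmem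
      exact hmem
    have c385 : g ^ 385 ∈ (P : Subgroup K) := by
      have h9 : (g ^ 385) ^ 3 ^ 2 = 1 := by rw [← pow_mul]; exact orderOf_dvd_iff_pow_eq_one.1 hord
      have hz : IsPGroup 3 (zpowers (g ^ 385)) := by
        obtain ⟨k, -, hk⟩ := (Nat.dvd_prime_pow Nat.prime_three).1 (orderOf_dvd_of_pow_eq_one h9)
        exact IsPGroup.of_card (n := k) (by rw [Nat.card_zpowers, hk])
      have hle : zpowers (g ^ 385) ≤ normalizer ((P : Subgroup K) : Set K) := zpowers_le.2 (pow_mem hg 385)
      have hsup := hz.to_sup_of_normal_right' P.2 hle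
      exact P.3 hsup le_sup_right ▸ mem_sup_left (mem_zpowers _)
    have c385' : g ^ 385 ∈ centralizer ((P : Subgroup K) : Set K) :=
      mem_centralizer_iff.2 fun x hx => hab x hx _ c385
    have hmem := mul_mem (pow_mem c385' 4) (pow_mem c9 599)
    rwa [← pow_mul, ← pow_mul, ← pow_add, show 385 * 4 + 9 * 599 = 3465 * 2 + 1 from by norm_num, pow_succ,
      pow_mul, orderOf_dvd_iff_pow_eq_one.1 hord, one_pow, one_mul] at hmem
  let N : Subgroup K := (MonoidHom.transferSylow P hPC).ker
  have hcompl := MonoidHom.ker_transferSylow_isComplement' P hPC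
  have hNP : Nat.card N * Nat.card P = Nat.card K := hcompl.card_mul
  have hN : Nat.card N ∣ 385 := by
    have hcop : Nat.Coprime (Nat.card N) 3 := by
      refine (Nat.Prime.coprime_iff_not_dvd Nat.prime_three).2 ?_ |>.symm
      intro h
      have h1 := P.not_dvd_index
      apply h1
      have h2 := (P : Subgroup K).card_mul_index
      rw [← hNP, mul_comm (Nat.card N)] at h2
      rw [Nat.eq_of_mul_eq_mul_left Nat.card_pos h2]
      exact h
    have h1 : Nat.card N ∣ 385 * 3 ^ 2 := (card_subgroup_dvd_card N).trans hcard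
    exact Nat.Coprime.dvd_of_dvd_mul_right (Nat.Coprime.pow_right 2 hcop) h1
  by_cases h11d : 11 ∣ Nat.card K
  · haveI : Fact (Nat.Prime 11) := ⟨by norm_num⟩
    let Q : Sylow 11 N := default
    have h11N : 11 ∣ Nat.card N := by
      rw [← hNP] at h11d
      refine ((Nat.Prime.dvd_mul (by norm_num)).1 h11d).resolve_right fun h => ?_
      exact absurd (h.trans hP) (by norm_num)
    have hu : Nat.card (Sylow 11 N) = 1 := by
      have hd := (Sylow.card_dvd_index Q)
      have hm : Nat.card (Sylow 11 N) % 11 = 1 := card_sylow_modEq_one 11 N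
      have hQ : 11 ∣ Nat.card Q := Sylow.dvd_card_of_dvd_card Q h11N
      have h35 : Nat.card (Sylow 11 N) ∣ 35 := by
        refine hd.trans ?_
        have h2 := (Q : Subgroup N).card_mul_index
        obtain ⟨k, hk⟩ := hQ
        rw [hk, mul_assoc] at h2
        have h3 : 11 * (k * (Q : Subgroup N).index) ∣ 11 * 35 := h2.symm ▸ (show Nat.card N ∣ 11 * 35 from hN)
        exact (dvd_mul_left _ k).trans (Nat.dvd_of_mul_dvd_mul_left (by norm_num) h3)
      have := Nat.le_of_dvd (by norm_num) h35
      interval_cases h : Nat.card (Sylow 11 N) <;> simp_all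
    haveI := sylow_unique_char N hu Q
    have hQc : Nat.card ((Q : Subgroup N).map N.subtype) = 11 := by
      rw [card_map_of_injective N.subtype_injective]
      obtain ⟨n, hn⟩ := Q.2.exists_card_eq
      rw [hn]
      have hQ : 11 ∣ Nat.card Q := Sylow.dvd_card_of_dvd_card Q h11N
      have hd : 11 ^ n ∣ 385 := (hn ▸ card_subgroup_dvd_card (Q : Subgroup N)).trans hN
      rcases Nat.lt_or_ge n 2 with h | h
      · interval_cases n
        · rw [hn] at hQ; norm_num at hQ
        · norm_num
      · exact absurd ((pow_dvd_pow 11 h).trans hd) (by norm_num)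
    have h := bound_of_normal_prime (by norm_num) _ hQc hcard (by norm_num) (fun g z hg hz hzp hne => by
      refine h11 g z hg ?_
      have := Nat.le_of_dvd (by norm_num) hz
      rcases (Nat.Prime.dvd_mul hzp).1 (show orderOf z ∣ 3 ^ 2 * (5 * (7 * 11)) from hz) with k | k
      · exact Or.inl ((Nat.prime_dvd_prime_iff_eq hzp Nat.prime_three).1 (hzp.dvd_of_dvd_pow k))
      · rcases (Nat.Prime.dvd_mul hzp).1 k with k | k
        · exact Or.inr (Or.inl ((Nat.prime_dvd_prime_iff_eq hzp (by norm_num)).1 k))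
        · rcases (Nat.Prime.dvd_mul hzp).1 k with k | k
          · exact Or.inr (Or.inr ((Nat.prime_dvd_prime_iff_eq hzp (by norm_num)).1 k))
          · exact absurd ((Nat.prime_dvd_prime_iff_eq hzp (by norm_num)).1 k) hne)
    have h55 : Nat.card K ∣ 55 := by
      have := Nat.dvd_gcd h hcard
      exact this.trans (by norm_num)
    exact Nat.le_of_dvd (by norm_num) h55
  by_cases h7d : 7 ∣ Nat.card K
  · haveI : Fact (Nat.Prime 7) := ⟨by norm_num⟩
    let Q : Sylow 7 N := default
    have h7N : 7 ∣ Nat.card N := by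
      rw [← hNP] at h7d
      refine ((Nat.Prime.dvd_mul (by norm_num)).1 h7d).resolve_right fun h => ?_
      exact absurd (h.trans hP) (by norm_num)
    have hu : Nat.card (Sylow 7 N) = 1 := by
      have hd := (Sylow.card_dvd_index Q)
      have hm : Nat.card (Sylow 7 N) % 7 = 1 := card_sylow_modEq_one 7 N
      have hQ : 7 ∣ Nat.card Q := Sylow.dvd_card_of_dvd_card Q h7N
      have h55 : Nat.card (Sylow 7 N) ∣ 55 := by
        refine hd.trans ?_
        have h2 := (Q : Subgroup N).card_mul_index
        obtain ⟨k, hk⟩ := hQ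
        rw [hk, mul_assoc] at h2
        have h3 : 7 * (k * (Q : Subgroup N).index) ∣ 7 * 55 := h2.symm ▸ (show Nat.card N ∣ 7 * 55 from hN)
        exact (dvd_mul_left _ k).trans (Nat.dvd_of_mul_dvd_mul_left (by norm_num) h3)
      have := Nat.le_of_dvd (by norm_num) h55
      interval_cases h : Nat.card (Sylow 7 N) <;> simp_all
    haveI := sylow_unique_char N hu Q
    have hQc : Nat.card ((Q : Subgroup N).map N.subtype) = 7 := by
      rw [card_map_of_injective N.subtype_injective]
      obtain ⟨n, hn⟩ := Q.2.exists_card_eq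
      rw [hn]
      have hQ : 7 ∣ Nat.card Q := Sylow.dvd_card_of_dvd_card Q h7N
      have hd : 7 ^ n ∣ 385 := (hn ▸ card_subgroup_dvd_card (Q : Subgroup N)).trans hN
      rcases Nat.lt_or_ge n 2 with h | h
      · interval_cases n
        · rw [hn] at hQ; norm_num at hQ
        · norm_num
      · exact absurd ((pow_dvd_pow 7 h).trans hd) (by norm_num)
    have h315 : Nat.card K ∣ 315 := by
      have hc : Nat.Coprime (Nat.card K) 11 := ((Nat.Prime.coprime_iff_not_dvd (by norm_num)).2 h11d).symm
      exact hc.dvd_of_dvd_mul_right (show Nat.card K ∣ 315 * 11 from hcard)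
    have h := bound_of_normal_prime (by norm_num) _ hQc h315 (by norm_num) (fun g z hg hz hzp hne => by
      refine h7 g z hg ?_
      rcases (Nat.Prime.dvd_mul hzp).1 (show orderOf z ∣ 3 ^ 2 * (5 * 7) from hz) with k | k
      · exact Or.inl ((Nat.prime_dvd_prime_iff_eq hzp Nat.prime_three).1 (hzp.dvd_of_dvd_pow k))
      · rcases (Nat.Prime.dvd_mul hzp).1 k with k | k
        · exact Or.inr ((Nat.prime_dvd_prime_iff_eq hzp (by norm_num)).1 k)
        · exact absurd ((Nat.prime_dvd_prime_iff_eq hzp (by norm_num)).1 k) hne)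
    exact (Nat.le_of_dvd (by norm_num) h).trans (by norm_num)
  have h45 : Nat.card K ∣ 45 := by
    have hc1 : Nat.Coprime (Nat.card K) 11 := ((Nat.Prime.coprime_iff_not_dvd (by norm_num)).2 h11d).symm
    have hc2 : Nat.Coprime (Nat.card K) 7 := ((Nat.Prime.coprime_iff_not_dvd (by norm_num)).2 h7d).symm
    exact (Nat.Coprime.mul_right hc2 hc1).dvd_of_dvd_mul_right (show Nat.card K ∣ 45 * (7 * 11) from hcard)
  exact (Nat.le_of_dvd (by norm_num) h45).trans (by norm_num)

end CfsgLib.HSRecog
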