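import Cfsg.Agent.Lib.HSRecog.Points
import Cfsg.Agent.Lib.HSRecog.OddBound
import Cfsg.Agent.Lib.Steiner.RankThreeHS

/-!
# The model is HS; odd subgroups of its point stabilisers
-/

set_option autoImplicit false
set_option linter.style.haveILetI false
set_option maxRecDepth 16000

namespace CfsgLib.HSRecog

open Subgroup CfsgLib.Presented ModelData

local notation "Ω" => Fin rep.N
local notation "Pm" => Equiv.Perm (Fin rep.N)

attribute [local irreducible] Vec.netPerm Rep.netW

/-- Odd subgroups fixing a point are small. -/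
theorem odd_stab (S : Subgroup Pm) (hS : S ≤ lvl level1) (hodd : Odd (Nat.card S)) : Nat.card S ≤ 55 := by
  obtain ⟨⟨c1, -, -⟩, -⟩ := tower
  have hd : Nat.card S ∣ 443520 := c1 ▸ card_dvd_of_le hS
  have hd' : Nat.card S ∣ 3465 := by
    refine Nat.Coprime.dvd_of_dvd_mul_left ?_ (show Nat.card S ∣ 2 ^ 7 * 3465 from hd)
    exact ((Nat.coprime_pow_left_iff (by norm_num) _ _).2 ((Nat.coprime_two_left).2 hodd)).symm
  -- a prime element commuting with one of order seven or eleven acts on the fixed points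
  have key : ∀ g z : S, g * z = z * g → ∀ m, orderOf g = m → ∀ p, orderOf z = p → p.Prime → Odd p → m.Prime →
      ∀ n, (O22.filter fun j => (g : Pm) j = j).card = n → n ≤ 1 →
      ((O22.filter fun j => (z : Pm) j = j).card ≡ n [MOD m]) ∧
      ((O22.filter fun j => (z : Pm) j = j).card ≡ 22 [MOD p]) ∧
      (O22.filter fun j => (z : Pm) j = j).card < 22 := by
    intro g z hgz m hm p hp hpp _ hmp n hn hn1
    haveI : Fact p.Prime := ⟨hpp⟩
    haveI : Fact m.Prime := ⟨hmp⟩
    have om : orderOf (g : Pm) = m := by rw [← hm]; exact orderOf_injective S.subtype S.subtype_injective g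
    have op : orderOf (z : Pm) = p := by rw [← hp]; exact orderOf_injective S.subtype S.subtype_injective z
    have hc : (g : Pm) * z = z * g := congrArg Subtype.val hgz
    have hgp : ∀ j, (z : Pm) ((g : Pm) j) = (g : Pm) ((z : Pm) j) := fun j => by
      rw [← Equiv.Perm.mul_apply, ← hc, Equiv.Perm.mul_apply]
    have hlt : (O22.filter fun j => (z : Pm) j = j).card < 22 := by
      have hle := (Finset.card_filter_le O22 fun j => (z : Pm) j = j).trans O22_card.le
      rcases hle.lt_or_eq with h | h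
      · exact h
      exfalso
      have hall : ∀ j ∈ O22, (z : Pm) j = j := fun j hj => by
        rw [← Finset.eq_of_subset_of_card_le (Finset.filter_subset (fun j => (z : Pm) j = j) O22)
          (by rw [h, O22_card]), Finset.mem_filter] at hj
        exact hj.2
      have hz1 := faithful22 (hS z.2) hall
      rw [hz1, orderOf_one] at op
      exact hpp.one_lt.ne op
    have hzfix : ∀ j ∈ O22.filter (fun j => (z : Pm) j = j), (g : Pm) j ∈ O22.filter (fun j => (z : Pm) j = j) := by
      intro j hj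
      rw [Finset.mem_filter] at hj ⊢
      exact ⟨O22_inv (hS g.2) hj.1, by rw [hgp, hj.2]⟩
    have hgfix : ∀ j ∈ O22.filter (fun j => (g : Pm) j = j), (z : Pm) j ∈ O22.filter (fun j => (g : Pm) j = j) := by
      intro j hj
      rw [Finset.mem_filter] at hj ⊢
      exact ⟨O22_inv (hS z.2) hj.1, by rw [← hgp, hj.2]⟩
    have k1 := fix_mod (hS g.2) om _ hzfix
    have k2 := fix_mod (hS z.2) op O22 fun j hj => O22_inv (hS z.2) hj
    rw [O22_card] at k2
    have hswap : ((O22.filter fun j => (z : Pm) j = j).filter fun j => (g : Pm) j = j) =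
        (O22.filter fun j => (g : Pm) j = j).filter fun j => (z : Pm) j = j := by
      ext j; simp only [Finset.mem_filter]; tauto
    have k3 := fix_mod (hS z.2) op _ hgfix
    rw [hn] at k3
    rw [hswap] at k1
    have hle : ((O22.filter fun j => (g : Pm) j = j).filter fun j => (z : Pm) j = j).card ≤ n :=
      (Finset.card_filter_le _ _).trans hn.le
    refine ⟨?_, k2, hlt⟩
    have he : ((O22.filter fun j => (g : Pm) j = j).filter fun j => (z : Pm) j = j).card = n :=
      Nat.ModEq.eq_of_lt_of_lt k3 (by have := hpp.two_le; omega) (by have := hpp.two_le; omega)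
    rw [he] at k1
    exact k1.symm
  refine odd_bound hd' ?_ ?_
  · intro g z ho hz hgz
    have og : orderOf (g : Pm) = 11 := by rw [← ho]; exact orderOf_injective S.subtype S.subtype_injective g
    have hn : (O22.filter fun j => (g : Pm) j = j).card = 0 := by
      rw [Finset.card_eq_zero, Finset.filter_eq_empty_iff]
      exact fun j hj => eleven_fix (hS g.2) og j hj
    rcases hz with hz | hz | hz <;>
    · obtain ⟨k1, k2, k3⟩ := key g z hgz 11 ho _ hz (by norm_num) (by decide) (by norm_num) 0 hn (by norm_num)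
      generalize (O22.filter fun j => (z : Pm) j = j).card = c at k1 k2 k3
      simp only [Nat.ModEq] at k1 k2
      omega
  · intro g z ho hz hgz
    have og : orderOf (g : Pm) = 7 := by rw [← ho]; exact orderOf_injective S.subtype S.subtype_injective g
    have hn := seven_fix (hS g.2) og
    rcases hz with hz | hz
    · obtain ⟨k1, k2, k3⟩ := key g z hgz 7 ho _ hz (by norm_num) (by decide) (by norm_num) 1 hn (by norm_num)
      have oz : orderOf (z : Pm) = 3 := by rw [← hz]; exact orderOf_injective S.subtype S.subtype_injective z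
      rw [three_fix (hS z.2) oz] at k1
      simp [Nat.ModEq] at k1
    · obtain ⟨k1, k2, k3⟩ := key g z hgz 7 ho _ hz (by norm_num) (by decide) (by norm_num) 1 hn (by norm_num)
      generalize (O22.filter fun j => (z : Pm) j = j).card = c at k1 k2 k3
      simp only [Nat.ModEq] at k1 k2
      omega

/-- Odd subgroups in point stabilisers of the group. -/
theorem odd_stab_point (p : Ω) (S : Subgroup Γ) (hS : S ≤ MulAction.stabilizer Γ p) (hodd : Odd (Nat.card S)) :
    Nat.card S ≤ 55 := by
  obtain ⟨⟨-, -, d1⟩, -⟩ := tower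
  obtain ⟨h, hh, e⟩ := exists_move p
  let f : Γ →* Pm := (MulAut.conj h⁻¹).toMonoidHom.comp Γ.subtype
  have hf : Function.Injective f := fun x y e => Subtype.ext ((MulAut.conj h⁻¹).injective e)
  have hcard : Nat.card (S.map f) = Nat.card S := Subgroup.card_map_of_injective hf
  rw [← hcard]
  refine odd_stab _ ?_ (hcard.symm ▸ hodd)
  rintro _ ⟨x, hx, rfl⟩
  have hfx : f x = h⁻¹ * (x : Pm) * h := by simp [f, MulAut.conj_apply]
  rw [hfx]
  refine (d1 _ (mul_mem (mul_mem (inv_mem hh) x.2) hh)).1 ?_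
  rw [Equiv.Perm.mul_apply, Equiv.Perm.mul_apply, Equiv.Perm.inv_eq_iff_eq, e]
  exact MulAction.mem_stabilizer_iff.1 (hS hx)

theorem orbit77_ok : orbitOK rep (level1.gens.map fun x => [x]) point77 rounds77 orb77 = true ∧
    Nat.beq (bitCount orb77 100) 77 = true ∧ point77 < 100 := by decide +kernel

/-- The group is HS. -/
theorem isoHS_Γ : Cfsg.Spor.IsoHS Γ := by
  classical
  obtain ⟨⟨c1, b1, d1⟩, -⟩ := tower
  haveI : MulAction.IsPretransitive Γ Ω := MulAction.IsPretransitive.mk fun i j => by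
    obtain ⟨g, hg, e⟩ := exists_move i
    obtain ⟨g', hg', e'⟩ := exists_move j
    exact ⟨⟨g' * g⁻¹, mul_mem hg' (inv_mem hg)⟩, by show (g' * g⁻¹) i = j; rw [← e]; simpa using e'⟩
  haveI : FaithfulSMul Γ Ω := ⟨fun {g g'} h => Subtype.ext (Equiv.ext h)⟩
  have horb : ∀ j : Ω, MulAction.orbit (MulAction.stabilizer Γ (bp 0)) j = MulAction.orbit (lvl level1) j := by
    intro j
    ext i
    constructor
    · rintro ⟨⟨g, hg⟩, rfl⟩
      exact ⟨⟨g.1, (d1 g.1 g.2).1 (MulAction.mem_stabilizer_iff.1 hg)⟩, rfl⟩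
    · rintro ⟨g, rfl⟩
      exact ⟨(⟨⟨g.1, b1 g.2⟩, MulAction.mem_stabilizer_iff.2 ((d1 g.1 (b1 g.2)).2 g.2)⟩ : MulAction.stabilizer Γ (bp 0)), rfl⟩
  have hst : Nat.card (MulAction.stabilizer Γ (bp 0)) = 443520 := by
    rw [← c1]
    refine Nat.card_congr ⟨fun g => ⟨g.1.1, (d1 _ g.1.2).1 (MulAction.mem_stabilizer_iff.1 g.2)⟩,
      fun g => ⟨⟨g.1, b1 g.2⟩, MulAction.mem_stabilizer_iff.2 ((d1 g.1 (b1 g.2)).2 g.2)⟩, fun g => rfl, fun g => rfl⟩
  obtain ⟨ho, hn, hp⟩ := orbit77_ok
  have hp' : point77 < rep.N := hp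
  refine CfsgLib.Steiner.RankThreeHS.isoHS_of_rank_three (G := Γ) (show Fintype.card Ω = 100 from Fintype.card_fin rep.N) (bp 0) (bp 1)
    ⟨point77, hp'⟩ ?_ ?_ hst
  · rw [horb]
    obtain ⟨hi, -, hsz⟩ := orbit_level levels_each.2.1
    rw [show bp 1 = (⟨level1.point, hi⟩ : Ω) from Fin.ext level_points.2.1.symm, hsz]
    rfl
  · rw [horb]
    have h := orbit_eq_of_ok rep_valid ho (ev := pm) (MonoidHom.id _) (fun x _ => rfl) (H := lvl level1) rfl hp'
    rw [← Nat.eq_of_beq_eq_true hn, bitCount_eq, ← Set.ncard_coe_finset]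
    refine Set.ncard_congr (fun i _ => (i : ℕ)) ?_ (fun i j _ _ e => Fin.ext e) ?_
    · rintro i ⟨g, rfl⟩
      simp only [Finset.coe_filter, Finset.mem_range]
      exact ⟨(g • (⟨point77, hp'⟩ : Ω)).2, (h _).1 ⟨g.1, g.2, rfl⟩⟩
    · intro k hk
      simp only [Finset.coe_filter, Finset.mem_range] at hk
      obtain ⟨g, hg, e⟩ := (h ⟨k, hk.1⟩).2 hk.2
      exact ⟨⟨k, hk.1⟩, ⟨⟨g, hg⟩, e⟩, rfl⟩

theorem isSimple_Γ : IsSimpleGroup Γ := by
  haveI := CfsgLib.Steiner.RankThreeHS.isHS_pairStab.1
  obtain ⟨e⟩ := isoHS_Γ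
  obtain ⟨f⟩ := CfsgLib.Steiner.RankThreeHS.nonempty_equiv
  haveI := (e.trans f.symm).isSimpleGroup
  infer_instance

end CfsgLib.HSRecog
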