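import Cfsg.Agent.Lib.HSRecog.Model
import Mathlib.GroupTheory.Perm.Cycle.Type
import Mathlib.GroupTheory.Sylow

/-!
# Stabilisers of points in the model
-/

set_option autoImplicit false
set_option linter.style.haveILetI false
set_option maxRecDepth 16000

namespace CfsgLib.HSRecog

open Subgroup CfsgLib.Presented ModelData

local notation "Ω" => Fin rep.N
local notation "Pm" => Equiv.Perm (Fin rep.N)

/-- The `k`-th base point. -/
def bp (k : Fin 6) : Ω := ⟨k.val, by have : rep.N = 100 := rfl; omega⟩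

theorem chain_cards : chainProd levels = 44352000 ∧ chainProd (levels.drop 1) = 443520 ∧
    chainProd (levels.drop 2) = 20160 ∧ chainProd (levels.drop 3) = 960 ∧ chainProd (levels.drop 4) = 48 ∧
    chainProd (levels.drop 5) = 3 := by decide +kernel

/-- The tower of stabilisers. -/
theorem tower :
    (Nat.card (lvl level1) = 443520 ∧ lvl level1 ≤ Γ ∧ ∀ x ∈ Γ, (x (bp 0) = bp 0 ↔ x ∈ lvl level1)) ∧
    (Nat.card (lvl level2) = 20160 ∧ lvl level2 ≤ lvl level1 ∧ ∀ x ∈ lvl level1, (x (bp 1) = bp 1 ↔ x ∈ lvl level2)) ∧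
    (Nat.card (lvl level3) = 960 ∧ lvl level3 ≤ lvl level2 ∧ ∀ x ∈ lvl level2, (x (bp 2) = bp 2 ↔ x ∈ lvl level3)) ∧
    (Nat.card (lvl level4) = 48 ∧ lvl level4 ≤ lvl level3 ∧ ∀ x ∈ lvl level3, (x (bp 3) = bp 3 ↔ x ∈ lvl level4)) ∧
    (Nat.card (lvl level5) = 3 ∧ lvl level5 ≤ lvl level4 ∧ ∀ x ∈ lvl level4, (x (bp 4) = bp 4 ↔ x ∈ lvl level5)) := by
  obtain ⟨c0, c1, c2, c3, c4, c5⟩ := chain_cards
  have h := levels_ok
  simp only [levels, chainOK, Bool.and_eq_true] at h
  have o0 : chainOK rep [level0, level1, level2, level3, level4, level5] = true := levels_ok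
  have o1 : chainOK rep [level1, level2, level3, level4, level5] = true := by simp only [chainOK, Bool.and_eq_true]; tauto
  have o2 : chainOK rep [level2, level3, level4, level5] = true := by simp only [chainOK, Bool.and_eq_true]; tauto
  have o3 : chainOK rep [level3, level4, level5] = true := by simp only [chainOK, Bool.and_eq_true]; tauto
  have o4 : chainOK rep [level4, level5] = true := by simp only [chainOK, Bool.and_eq_true]; tauto
  obtain ⟨a1, b1, d1⟩ := lvl_step o0 (by rw [lvl0, card_Γ]; decide +kernel)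
  obtain ⟨a2, b2, d2⟩ := lvl_step o1 (by rw [a1]; decide +kernel)
  obtain ⟨a3, b3, d3⟩ := lvl_step o2 (by rw [a2]; decide +kernel)
  obtain ⟨a4, b4, d4⟩ := lvl_step o3 (by rw [a3]; decide +kernel)
  obtain ⟨a5, b5, d5⟩ := lvl_step o4 (by rw [a4]; decide +kernel)
  rw [lvl0] at b1 d1
  exact ⟨⟨a1.trans c1, b1, d1 (bp 0).2⟩, ⟨a2.trans c2, b2, d2 (bp 1).2⟩, ⟨a3.trans c3, b3, d3 (bp 2).2⟩,
    ⟨a4.trans c4, b4, d4 (bp 3).2⟩, ⟨a5.trans c5, b5, d5 (bp 4).2⟩⟩

theorem orbit_of_level {L : BLevel} (hlev : levelOK rep L = true) {k : Fin 6} (hk : L.point = k.val) {j : Ω}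
    (hj : L.orb.testBit j = true) : ∃ h ∈ lvl L, h (bp k) = j := by
  obtain ⟨hi, h, -⟩ := orbit_level hlev
  have e : (⟨L.point, hi⟩ : Ω) = bp k := Fin.ext hk
  rw [← e]
  exact (h j).2 hj

theorem levels_each : levelOK rep level0 = true ∧ levelOK rep level1 = true ∧ levelOK rep level2 = true ∧
    levelOK rep level5 = true := by decide +kernel

theorem level_points : level0.point = 0 ∧ level1.point = 1 ∧ level2.point = 2 ∧ level5.point = 5 := by decide +kernel

theorem level0_orb : ∀ j : Ω, level0.orb.testBit j = true := by decide +kernel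

theorem exists_move (j : Ω) : ∃ h ∈ Γ, h (bp 0) = j := by
  rw [← lvl0]
  exact orbit_of_level levels_each.1 (k := 0) level_points.1 (level0_orb j)

/-- The orbit of length twenty-two. -/
def O22 : Finset Ω := Finset.univ.filter fun j => orb22.testBit j

theorem O22_card : O22.card = 22 := by decide +kernel

theorem O22_inv {x : Pm} (hx : x ∈ lvl level1) {j : Ω} (hj : j ∈ O22) : x j ∈ O22 := by
  simp only [O22, Finset.mem_filter, Finset.mem_univ, true_and] at hj ⊢
  have e : level1.orb = orb22 := rfl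
  obtain ⟨hi, h, -⟩ := orbit_level levels_each.2.1
  obtain ⟨g, hg, rfl⟩ := (h j).2 (e.symm ▸ hj)
  exact e ▸ (h _).1 ⟨x * g, mul_mem hx hg, rfl⟩

theorem base_mem : ∀ k : Fin 6, k ≠ 0 → bp k ∈ O22 := by decide +kernel

theorem orb2_facts : ∀ j : Ω, j ∈ O22 → j ≠ bp 1 → level2.orb.testBit j = true := by decide +kernel

/-- The pointwise stabiliser of the twenty-two points is trivial. -/
theorem faithful22 {x : Pm} (hx : x ∈ lvl level1) (hf : ∀ j ∈ O22, x j = j) : x = 1 := by
  obtain ⟨-, ⟨-, -, d2⟩, ⟨-, -, d3⟩, ⟨-, -, d4⟩, ⟨c5, -, d5⟩⟩ := tower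
  have h5 := (d5 x ((d4 x ((d3 x ((d2 x hx).1 (hf _ (base_mem 1 (by decide))))).1 (hf _ (base_mem 2 (by decide))))).1
    (hf _ (base_mem 3 (by decide))))).1 (hf _ (base_mem 4 (by decide)))
  obtain ⟨hi, -, hsz⟩ := orbit_level levels_each.2.2.2
  let S := MulAction.stabilizer (lvl level5) (⟨level5.point, hi⟩ : Ω)
  have h := S.card_mul_index
  rw [MulAction.index_stabilizer, hsz, c5, show level5.size = 3 from rfl] at h
  have h1 : Nat.card S = 1 := by omega
  have hS : (⟨x, h5⟩ : lvl level5) ∈ S := by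
    refine MulAction.mem_stabilizer_iff.2 ?_
    have e : (⟨level5.point, hi⟩ : Ω) = bp 5 := Fin.ext level_points.2.2.2
    rw [e]
    exact hf _ (base_mem 5 (by decide))
  rw [Subgroup.eq_bot_of_card_eq S h1, mem_bot] at hS
  exact congrArg Subtype.val hS

/-- Two elements of the stabiliser: the fixed points of a prime element. -/
theorem fix_mod {p : ℕ} [hp : Fact p.Prime] {x : Pm} (hx : x ∈ lvl level1) (ho : orderOf x = p)
    (S : Finset Ω) (hS : ∀ j ∈ S, x j ∈ S) : (S.filter fun j => x j = j).card ≡ S.card [MOD p] := by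
  let σ : Equiv.Perm S := Equiv.ofBijective (fun j => ⟨x j.1, hS j.1 j.2⟩)
    (Finite.injective_iff_bijective.1 fun i j e => Subtype.ext (x.injective (congrArg Subtype.val e)))
  have hpow : ∀ n : ℕ, ∀ j : S, ((σ ^ n) j).1 = (x ^ n) j.1 := by
    intro n
    induction n with
    | zero => simp
    | succ n ih => intro j; rw [pow_succ', pow_succ', Equiv.Perm.mul_apply, Equiv.Perm.mul_apply, ← ih]; rfl
  have hσ : σ ^ p ^ 1 = 1 := Equiv.ext fun j => Subtype.ext (by
    rw [hpow, pow_one, ← ho, pow_orderOf_eq_one]; rfl)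
  have h := Equiv.Perm.card_compl_support_modEq hσ
  rw [Fintype.card_coe] at h
  refine Eq.trans ?_ h
  have e : σ.supportᶜ.card = (S.filter fun j => x j = j).card := by
    refine Finset.card_bij (fun j _ => j.1) ?_ (fun i _ j _ e => Subtype.ext e) ?_
    · intro j hj
      rw [Finset.mem_compl, Equiv.Perm.notMem_support] at hj
      exact Finset.mem_filter.2 ⟨j.2, congrArg Subtype.val hj⟩
    · intro j hj
      rw [Finset.mem_filter] at hj
      exact ⟨⟨j, hj.1⟩, by rw [Finset.mem_compl, Equiv.Perm.notMem_support]; exact Subtype.ext hj.2, rfl⟩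
  rw [e]

/-- An element of order seven fixes exactly one of the twenty-two points. -/
theorem seven_fix {g : Pm} (hg : g ∈ lvl level1) (ho : orderOf g = 7) :
    (O22.filter fun j => g j = j).card = 1 := by
  haveI : Fact (Nat.Prime 7) := ⟨by norm_num⟩
  have hm := fix_mod hg ho O22 fun j hj => O22_inv hg hj
  rw [O22_card] at hm
  by_contra hne
  have h2 : 1 < (O22.filter fun j => g j = j).card := by
    rcases Nat.eq_zero_or_pos (O22.filter fun j => g j = j).card with h | h
    · rw [h] at hm; simp [Nat.ModEq] at hm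
    · omega
  obtain ⟨i, hi, j, hj, hij⟩ := Finset.one_lt_card.1 h2
  rw [Finset.mem_filter] at hi hj
  obtain ⟨-, ⟨-, b2, d2⟩, ⟨c3, b3, d3⟩, -⟩ := tower
  have hio : level1.orb.testBit i = true := (Finset.mem_filter.1 hi.1).2
  obtain ⟨h1, hh1, e1⟩ := orbit_of_level levels_each.2.1 (k := 1) level_points.2.1 hio
  have hj1 : h1⁻¹ j ∈ O22 := O22_inv (inv_mem hh1) hj.1
  have hne1 : h1⁻¹ j ≠ bp 1 := fun e => hij (by rw [← e1, ← e]; simp)
  obtain ⟨h2, hh2, e2⟩ := orbit_of_level levels_each.2.2.1 (k := 2) level_points.2.2.1 (orb2_facts _ hj1 hne1)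
  have f1 : h2 (bp 1) = bp 1 := (d2 h2 (b2 hh2)).2 hh2
  let c := (h1 * h2)⁻¹ * g * (h1 * h2)
  have hc : c ∈ lvl level1 := mul_mem (mul_mem (inv_mem (mul_mem hh1 (b2 hh2))) hg) (mul_mem hh1 (b2 hh2))
  have c1 : c (bp 1) = bp 1 := by
    show ((h1 * h2)⁻¹ * g * (h1 * h2)) (bp 1) = bp 1
    rw [Equiv.Perm.mul_apply, Equiv.Perm.mul_apply, Equiv.Perm.inv_eq_iff_eq, Equiv.Perm.mul_apply, f1, e1]
    exact hi.2
  have c2 : c (bp 2) = bp 2 := by
    show ((h1 * h2)⁻¹ * g * (h1 * h2)) (bp 2) = bp 2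
    rw [Equiv.Perm.mul_apply, Equiv.Perm.mul_apply, Equiv.Perm.inv_eq_iff_eq, Equiv.Perm.mul_apply, e2]
    simp [hj.2]
  have h3 := (d3 c ((d2 c hc).1 c1)).1 c2
  have ho' : orderOf c = 7 := by
    rw [show c = (MulAut.conj (h1 * h2)⁻¹) g by simp only [c, MulAut.conj_apply]; group, MulEquiv.orderOf_eq]
    exact ho
  have hd := orderOf_dvd_natCard (⟨c, h3⟩ : lvl level3)
  rw [← orderOf_injective (lvl level3).subtype (lvl level3).subtype_injective, c3] at hd
  simp only [subtype_apply, ho'] at hd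
  norm_num at hd

/-- An element of order eleven fixes none. -/
theorem eleven_fix {g : Pm} (hg : g ∈ lvl level1) (ho : orderOf g = 11) :
    ∀ j ∈ O22, g j ≠ j := by
  intro i hi e
  obtain ⟨-, ⟨c2, b2, d2⟩, -⟩ := tower
  obtain ⟨h1, hh1, e1⟩ := orbit_of_level levels_each.2.1 (k := 1) level_points.2.1
    (j := i) (Finset.mem_filter.1 hi).2
  have hc : h1⁻¹ * g * h1 ∈ lvl level2 := by
    refine (d2 _ (mul_mem (mul_mem (inv_mem hh1) hg) hh1)).1 ?_
    rw [Equiv.Perm.mul_apply, Equiv.Perm.mul_apply, Equiv.Perm.inv_eq_iff_eq, e1]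
    exact e
  have hd := orderOf_dvd_natCard (⟨_, hc⟩ : lvl level2)
  rw [← orderOf_injective (lvl level2).subtype (lvl level2).subtype_injective, c2] at hd
  simp only [subtype_apply] at hd
  rw [show h1⁻¹ * g * h1 = (MulAut.conj h1⁻¹) g by simp, MulEquiv.orderOf_eq, ho] at hd
  norm_num at hd

theorem three_facts : (triv (threeA ++ threeA ++ threeA) && triv (threeB ++ threeB ++ threeB) &&
    triv (threeA ++ threeB ++ iv threeA ++ iv threeB) &&
    (List.range 3).all fun i => (List.range 3).all fun j => (i == 0 && j == 0) ||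
      (Nat.beq (Vec.netPerm (rep.netW ((List.replicate i threeA).flatten ++ (List.replicate j threeB).flatten)) 0) 0 &&
      moved ((List.replicate i threeA).flatten ++ (List.replicate j threeB).flatten) &&
      Nat.beq (((List.range 100).filter fun p => orb22.testBit p &&
        Nat.beq (Vec.netPerm (rep.netW ((List.replicate i threeA).flatten ++ (List.replicate j threeB).flatten)) p) p).length) 4))
    = true := by decide +kernel

attribute [local irreducible] Vec.netPerm Rep.netW

/-- An element of order three fixes four of the twenty-two points. -/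
theorem three_fix {z : Pm} (hz : z ∈ lvl level1) (ho : orderOf z = 3) :
    (O22.filter fun j => z j = j).card = 4 := by
  classical
  have h := three_facts
  simp only [Bool.and_eq_true, List.all_eq_true, List.mem_range, Bool.or_eq_true, beq_iff_eq] at h
  obtain ⟨⟨⟨ta, tb⟩, tc⟩, tij⟩ := h
  have la : ∀ x ∈ threeA ++ threeB, x < 10 := by decide +kernel
  set A3 := evW evP threeA with hA3
  set B3 := evW evP threeB with hB3
  have a3 : A3 ^ 3 = 1 := by
    have := triv_eq ta; rw [evW_append, evW_append] at this; rw [pow_succ, pow_two]; exact this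
  have b3 : B3 ^ 3 = 1 := by
    have := triv_eq tb; rw [evW_append, evW_append] at this; rw [pow_succ, pow_two]; exact this
  have hcomm : A3 * B3 = B3 * A3 := by
    have h := triv_eq tc
    rw [evW_append, evW_append, evW_append, evP, evW_iv _ _ _ _ _ fun x hx => la x (List.mem_append_left _ hx),
      evW_iv _ _ _ _ _ fun x hx => la x (List.mem_append_right _ hx)] at h
    calc A3 * B3 = A3 * B3 * A3⁻¹ * B3⁻¹ * (B3 * A3) := by group
      _ = B3 * A3 := by rw [show A3 * B3 * A3⁻¹ * B3⁻¹ = 1 from h, one_mul]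
  have hw : ∀ i j : ℕ, A3 ^ i * B3 ^ j =
      evW evP ((List.replicate i threeA).flatten ++ (List.replicate j threeB).flatten) := fun i j => by
    rw [evW_append, evW_flatten_replicate, evW_flatten_replicate]
  have fz : ∀ i < 3, ∀ j < 3, ¬ (i = 0 ∧ j = 0) → A3 ^ i * B3 ^ j ≠ 1 ∧ (A3 ^ i * B3 ^ j) (bp 0) = bp 0 ∧
      (O22.filter fun p => (A3 ^ i * B3 ^ j) p = p).card = 4 := by
    intro i hi j hj hij
    rcases tij i hi j hj with h | ⟨⟨h0, hm⟩, h4⟩
    · exact absurd h hij
    rw [hw]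
    have hl : ∀ x ∈ (List.replicate i threeA).flatten ++ (List.replicate j threeB).flatten, x < 10 := by
      intro x hx
      simp only [List.mem_append, List.mem_flatten, List.mem_replicate] at hx
      rcases hx with ⟨l, ⟨-, rfl⟩, hx⟩ | ⟨l, ⟨-, rfl⟩, hx⟩
      · exact la x (List.mem_append_left _ hx)
      · exact la x (List.mem_append_right _ hx)
    have hv : ∀ p : Ω, ((evW evP ((List.replicate i threeA).flatten ++ (List.replicate j threeB).flatten)) p : ℕ) =
        Vec.netPerm (rep.netW ((List.replicate i threeA).flatten ++ (List.replicate j threeB).flatten)) p := fun p => by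
      rw [evW_evP hl]; exact Rep.netW_perm rep_valid _ p
    refine ⟨moved_ne hm, Fin.ext (by rw [hv]; exact Nat.eq_of_beq_eq_true h0), ?_⟩
    rw [← Nat.eq_of_beq_eq_true h4, ← List.toFinset_card_of_nodup (List.nodup_range.filter _)]
    refine Finset.card_bij (fun p _ => (p : ℕ)) ?_ (fun p _ p' _ e => Fin.ext e) ?_
    · intro p hp
      simp only [Finset.mem_filter, O22, Finset.mem_univ, true_and] at hp
      simp only [List.mem_toFinset, List.mem_filter, List.mem_range, Bool.and_eq_true]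
      refine ⟨p.2, hp.1, ?_⟩
      rw [← hv, hp.2]
      exact Nat.beq_refl _
    · intro p hp
      simp only [List.mem_toFinset, List.mem_filter, List.mem_range, Bool.and_eq_true] at hp
      refine ⟨⟨p, hp.1⟩, ?_, rfl⟩
      simp only [Finset.mem_filter, O22, Finset.mem_univ, true_and]
      exact ⟨hp.2.1, Fin.ext (by rw [hv]; exact Nat.eq_of_beq_eq_true hp.2.2)⟩
  have memΓ : ∀ w : List ℕ, (∀ x ∈ w, x < 10) → evW evP w ∈ Γ := fun w hw => list_prod_mem fun g hg => by
    obtain ⟨x, hx, rfl⟩ := List.mem_map.1 hg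
    exact evP_eq (hw x hx) ▸ pm_mem (hw x hx)
  obtain ⟨⟨c1, b1, d1⟩, -⟩ := tower
  have hAm : A3 ∈ lvl level1 := by
    refine (d1 _ (memΓ _ fun x hx => la x (List.mem_append_left _ hx))).1 ?_
    simpa using (fz 1 (by norm_num) 0 (by norm_num) (by norm_num)).2.1
  have hBm : B3 ∈ lvl level1 := by
    refine (d1 _ (memΓ _ fun x hx => la x (List.mem_append_right _ hx))).1 ?_
    simpa using (fz 0 (by norm_num) 1 (by norm_num) (by norm_num)).2.1
  let K := lvl level1
  let A' : K := ⟨A3, hAm⟩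
  let B' : K := ⟨B3, hBm⟩
  let φ : Multiplicative (ZMod 3) × Multiplicative (ZMod 3) → K := fun p =>
    A' ^ (p.1.toAdd.val) * B' ^ (p.2.toAdd.val)
  have a3' : A' ^ 3 = 1 := Subtype.ext a3
  have b3' : B' ^ 3 = 1 := Subtype.ext b3
  have hc' : Commute A' B' := Subtype.ext hcomm
  have hmulp : ∀ {g : K}, g ^ 3 = 1 → ∀ x y : ZMod 3, g ^ (x + y).val = g ^ x.val * g ^ y.val := by
    intro g hg x y
    rw [ZMod.val_add, ← pow_add, ← pow_mod_orderOf g ((x.val + y.val) % 3), ← pow_mod_orderOf g (x.val + y.val),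
      Nat.mod_mod_of_dvd _ (orderOf_dvd_of_pow_eq_one hg)]
  let ψ : Multiplicative (ZMod 3) × Multiplicative (ZMod 3) →* K :=
    { toFun := φ
      map_one' := by simp [φ]
      map_mul' := fun p r => by
        simp only [φ, Prod.fst_mul, Prod.snd_mul, toAdd_mul]
        rw [hmulp a3', hmulp b3', mul_assoc, ← mul_assoc (A' ^ r.1.toAdd.val), (hc'.pow_pow _ _).eq]
        simp only [mul_assoc] }
  have hinj : Function.Injective ψ := by
    refine (MonoidHom.ker_eq_bot_iff ψ).1 ((Subgroup.eq_bot_iff_forall _).2 fun p hp => ?_)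
    by_contra hne
    refine (fz p.1.toAdd.val (ZMod.val_lt _) p.2.toAdd.val (ZMod.val_lt _) ?_).1 ?_
    · rintro ⟨h1, h2⟩
      exact hne (Prod.ext (toAdd_eq_zero.1 ((ZMod.val_eq_zero _).1 h1)) (toAdd_eq_zero.1 ((ZMod.val_eq_zero _).1 h2)))
    · exact congrArg Subtype.val (MonoidHom.mem_ker.1 hp)
  haveI : Fact (Nat.Prime 3) := ⟨Nat.prime_three⟩
  have hP : Nat.card ψ.range = 3 ^ (Nat.card K).factorization 3 := by
    rw [Nat.card_congr (MonoidHom.ofInjective hinj).toEquiv.symm, c1]
    rw [show (443520 : ℕ) = 3 ^ 2 * 49280 by norm_num, Nat.factorization_mul (by norm_num) (by norm_num),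
      Finsupp.add_apply, Nat.Prime.factorization_pow Nat.prime_three, Finsupp.single_eq_same,
      Nat.factorization_eq_zero_of_not_dvd (by norm_num : ¬ 3 ∣ 49280)]
    simp
  let P : Sylow 3 K := Sylow.ofCard ψ.range hP
  let z' : K := ⟨z, hz⟩
  have hpz : IsPGroup 3 (zpowers z') := IsPGroup.of_card (n := 1) (by
    rw [Nat.card_zpowers, ← orderOf_injective K.subtype K.subtype_injective]; simpa [z'] using ho)
  obtain ⟨Q, hQ⟩ := hpz.exists_le_sylow
  obtain ⟨g, hgq⟩ := MulAction.exists_smul_eq K Q P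
  have hzP : g * z' * g⁻¹ ∈ (P : Subgroup K) := by
    rw [← hgq, Sylow.coe_subgroup_smul]
    refine ⟨z', hQ (mem_zpowers _), ?_⟩
    simp
  obtain ⟨p, hp⟩ := hzP
  set i := p.1.toAdd.val
  set j := p.2.toAdd.val
  have hne : ¬ (i = 0 ∧ j = 0) := by
    rintro ⟨h1, h2⟩
    have : g * z' * g⁻¹ = 1 := by
      rw [← hp]; show φ p = 1
      simp only [φ]; rw [show p.1.toAdd.val = 0 from h1, show p.2.toAdd.val = 0 from h2, pow_zero, pow_zero, one_mul]
    have hz1 : z' = 1 := by
      calc z' = g⁻¹ * (g * z' * g⁻¹) * g := by group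
        _ = 1 := by rw [this]; group
    rw [show z = 1 from congrArg Subtype.val hz1, orderOf_one] at ho
    norm_num at ho
  have e : (g : Pm) * z * (g : Pm)⁻¹ = A3 ^ i * B3 ^ j := by
    have := congrArg Subtype.val hp
    exact this.symm
  rw [← (fz i (ZMod.val_lt _) j (ZMod.val_lt _) hne).2.2, ← e]
  refine Finset.card_bij (fun p _ => (g : Pm) p) ?_ (fun p _ p' _ e => (g : Pm).injective e) ?_
  · intro p hp
    rw [Finset.mem_filter] at hp ⊢
    exact ⟨O22_inv g.2 hp.1, by simp [hp.2]⟩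
  · intro p hp
    rw [Finset.mem_filter] at hp
    refine ⟨(g : Pm)⁻¹ p, ?_, by simp⟩
    rw [Finset.mem_filter]
    refine ⟨O22_inv (inv_mem g.2) hp.1, ?_⟩
    rw [Equiv.Perm.eq_inv_iff_eq]
    simpa using hp.2

end CfsgLib.HSRecog
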