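import Cfsg.Agent.Lib.HSRecog.Lin

/-!
# The relators used in the recognition of HS

All lists are words in the letters `0, …, 9` for `a, a⁻¹, q, q⁻¹, y, y⁻¹, u, u⁻¹, s, s⁻¹`.
-/

set_option autoImplicit false

namespace CfsgLib.HSRecog

open CfsgLib.Presented

variable {W : Type*} [Group W]

/-- Push a letter, cancelling against the top. -/
def push1 : ℕ → List ℕ → List ℕ
  | k, [] => [k]
  | k, y :: ys => if y = flipLet k then ys else k :: y :: ys

/-- Free reduction. -/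
def freeRed (w : List ℕ) : List ℕ := (w.foldl (fun acc k => push1 k acc) []).reverse

/-- Cyclic reduction. -/
def cycRed : ℕ → List ℕ → List ℕ
  | 0, w => w
  | _ + 1, [] => []
  | n + 1, x :: rest => if rest.getLast? = some (flipLet x) then cycRed n rest.dropLast else x :: rest

/-- Reduction of a relator. -/
def rd (w : List ℕ) : List ℕ := cycRed w.length (freeRed w)

/-- The word of `g = q u q⁻¹ y⁻¹ u`. -/
def gw : List ℕ := [2, 6, 3, 5, 6]

/-- The word of `w = q u q⁻¹`. -/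
def ww : List ℕ := [2, 6, 3]

/-- The word of `k = a q a u q⁻¹`. -/
def kw : List ℕ := [0, 2, 0, 6, 3]

/-- The relators of `M` without parameters. -/
def baseRels : List (List ℕ) :=
  [[0, 0, 0, 0], [2, 2, 2, 2, 2, 2, 2], [4, 4, 4], [5, 2, 4, 3, 3],
    iv [0] ++ iv a1w ++ [0] ++ a1w, iv [0] ++ iv a2w ++ [0] ++ a2w, iv [0] ++ iv [4] ++ [0] ++ [4],
    iv [3, 3, 3, 0, 2, 2, 2] ++ vecWord (1, 3, 2), [6, 6], [6, 0, 6, 1],
    [6] ++ a1w ++ [6] ++ iv (vecWord (0, 3, 0)), [6] ++ a2w ++ [6] ++ iv (vecWord (3, 2, 3)),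
    [6, 5, 6, 4, 4, 6, 5]]

/-- `(q u)³ = c`. -/
def cRel (c : V4) : List ℕ := [2, 6, 2, 6, 2, 6] ++ iv (vecWord c)

/-- `(q y u)⁴ = e`. -/
def eRel (e : V4) : List ℕ := [2, 4, 6, 2, 4, 6, 2, 4, 6, 2, 4, 6] ++ iv (vecWord e)

/-- The relators of `s`; the flag tells whether `s² = t`. -/
def sRels (st : Bool) : List (List ℕ) :=
  [[8, 8] ++ (if st then iv [0, 0] else []), [9, 0, 8, 0], [9] ++ a1w ++ a1w ++ [8, 7],
    [9, 6, 8] ++ iv (a1w ++ a1w), [9, 4, 8, 5]]

/-- `(s x)³ = 1`. -/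
def zRel (x : List ℕ) : List ℕ := [8] ++ x ++ ([8] ++ x) ++ ([8] ++ x)

/-- `g^s = g a^j`. -/
def gRel (j : ℕ) : List ℕ := [9] ++ gw ++ [8] ++ iv (gw ++ List.replicate j 0)

/-- `g y g⁻¹ y = 1`. -/
def ygRel : List ℕ := iv gw ++ [4] ++ gw ++ [4]

/-- The relators of the true case, without the last one. -/
def stageRels : List (List ℕ) :=
  baseRels ++ [cRel (0, 0, 0), eRel (0, 0, 0)] ++ sRels false ++ [zRel kw, ygRel]

/-- The word `z` leading from `H` through `M` back to `H`. -/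
def zWord : List ℕ := [2, 8, 3, 0, 2, 4, 2, 9, 3, 3, 3, 9, 3, 3, 3, 3]

/-- The value of `z` in the group HS. -/
def zBase : List ℕ := [5, 8, 3, 0, 2, 6]

/-- The sixteen elements centralising the images under `z`. -/
def zCent : List (List ℕ) := [[],
  [6],
  [0, 0],
  [3, 0, 0, 2],
  [4, 2, 6, 3, 5, 6],
  [0, 0, 6],
  [3, 0, 0, 2, 6],
  [4, 2, 6, 3, 5, 6, 6],
  [0, 0, 3, 0, 0, 2],
  [0, 0, 4, 2, 6, 3, 5, 6],
  [3, 0, 0, 2, 4, 2, 6, 3, 5, 6],
  [0, 0, 3, 0, 0, 2, 6],
  [0, 0, 4, 2, 6, 3, 5, 6, 6],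
  [3, 0, 0, 2, 4, 2, 6, 3, 5, 6, 6],
  [0, 0, 3, 0, 0, 2, 4, 2, 6, 3, 5, 6],
  [0, 0, 3, 0, 0, 2, 4, 2, 6, 3, 5, 6, 6]]

/-- The sixteen possible values of `z`. -/
def zVals : List (List ℕ) := zCent.map (zBase ++ ·)

/-- `z` is the `i`-th value. -/
def pathRel (i : ℕ) : List ℕ := zWord ++ iv (zVals.getD i [])

/-- All relators of the true case. -/
def allRels : List (List ℕ) := stageRels ++ [gRel 2, pathRel 0]

/-- The words of the generators of `H`: `a, a₁, y, u, g, s`. -/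
def hLetters : List (List ℕ) := [[0], a1w, [4], [6], gw, [8]]

/-- The relators of `H` in the letters `0, …, 11` for its six generators and their inverses. -/
def hRels : List (List ℕ) :=
  [[2, 2, 2, 2],
  [4, 4, 4],
  [10, 10],
  [10, 0, 10, 0],
  [10, 4, 11, 5],
  [10, 2, 2, 10, 7],
  [11, 8, 10, 1, 1, 9],
  [10, 0, 6, 5, 3, 8, 6, 10, 0, 6, 5, 3, 8, 6, 10, 0, 6, 5, 3, 8, 6],
  [0, 4, 1, 5],
  [0, 8, 0, 9],
  [2, 4, 8, 3, 4, 9],
  [4, 8, 6, 4, 9, 7],
  [0, 2, 5, 3, 4, 6, 4, 2, 5, 7]]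

theorem push1_ev (a q y u s : W) {k : ℕ} (hk : k < 10) : ∀ acc : List ℕ, (∀ x ∈ acc, x < 10) →
    evW (evS a q y u s) (push1 k acc).reverse = evW (evS a q y u s) acc.reverse * evS a q y u s k
  | [], _ => by simp [push1]
  | z :: zs, h => by
    by_cases e : z = flipLet k
    · subst e
      rw [push1, if_pos rfl, List.reverse_cons, evW_append, evW_cons, evW_nil, mul_one, evS_flip a q y u s hk,
        mul_assoc, inv_mul_cancel, mul_one]
    · rw [push1, if_neg e]
      simp [evW_append, mul_assoc]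

theorem push1_lt {k : ℕ} (hk : k < 10) : ∀ acc : List ℕ, (∀ x ∈ acc, x < 10) → ∀ x ∈ push1 k acc, x < 10
  | [], _ => by simpa [push1] using hk
  | z :: zs, h => by
    intro x hx
    simp only [push1] at hx
    split at hx
    · exact h x (List.mem_cons_of_mem _ hx)
    · rcases List.mem_cons.1 hx with rfl | hx
      · exact hk
      · exact h x hx

theorem evW_freeRed_aux (a q y u s : W) : ∀ w acc : List ℕ, (∀ x ∈ w, x < 10) → (∀ x ∈ acc, x < 10) →
    evW (evS a q y u s) (w.foldl (fun acc k => push1 k acc) acc).reverse =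
      evW (evS a q y u s) acc.reverse * evW (evS a q y u s) w ∧
    ∀ x ∈ w.foldl (fun acc k => push1 k acc) acc, x < 10
  | [], acc, _, h => by simpa using h
  | k :: w, acc, hw, h => by
    have hk := hw k List.mem_cons_self
    obtain ⟨h1, h2⟩ := evW_freeRed_aux a q y u s w (push1 k acc) (fun x hx => hw x (List.mem_cons_of_mem _ hx))
      (push1_lt hk acc h)
    exact ⟨by rw [List.foldl_cons, h1, push1_ev a q y u s hk acc h, evW_cons, mul_assoc], h2⟩

theorem evW_cycRed (a q y u s : W) : ∀ (n : ℕ) (w : List ℕ), (∀ x ∈ w, x < 10) →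
    evW (evS a q y u s) w = 1 → evW (evS a q y u s) (cycRed n w) = 1
  | 0, w, _, h => by simpa [cycRed] using h
  | n + 1, [], _, h => by simpa [cycRed] using h
  | n + 1, x :: rest, hl, h => by
    simp only [cycRed]
    split
    · rename_i e
      have hx := hl x List.mem_cons_self
      have hd : rest.dropLast ++ [flipLet x] = rest := List.dropLast_append_getLast? _ e
      refine evW_cycRed a q y u s n _ (fun z hz => hl z (List.mem_cons_of_mem _ (List.dropLast_subset _ hz))) ?_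
      rw [evW_cons, ← hd, evW_append, evW_cons, evW_nil, mul_one, evS_flip a q y u s hx, ← mul_assoc,
        mul_inv_eq_one] at h
      exact mul_eq_left.1 h
    · exact h

theorem evW_rd (a q y u s : W) {w : List ℕ} (hl : ∀ x ∈ w, x < 10) (h : evW (evS a q y u s) w = 1) :
    evW (evS a q y u s) (rd w) = 1 := by
  obtain ⟨h1, h2⟩ := evW_freeRed_aux a q y u s w [] hl (by simp)
  refine evW_cycRed a q y u s _ _ (fun x hx => h2 x (List.mem_reverse.1 hx)) ?_
  rw [freeRed, h1, h]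
  simp

theorem evW_map_rd (a q y u s : W) {l : List (List ℕ)} (hlt : (l.all fun w => w.all fun x => Nat.blt x 10) = true)
    (h : ∀ w ∈ l, evW (evS a q y u s) w = 1) : ∀ w ∈ l.map rd, evW (evS a q y u s) w = 1 := by
  intro w hw
  obtain ⟨v, hv, rfl⟩ := List.mem_map.1 hw
  refine evW_rd a q y u s (fun x hx => ?_) (h v hv)
  have := List.all_eq_true.1 (List.all_eq_true.1 hlt v hv) x hx
  rwa [Nat.blt_eq] at this

end CfsgLib.HSRecog
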