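import Cfsg.Agent.Lib.HSRecog.Coords
import Cfsg.Agent.Lib.HSRecog.Five

/-!
# An involution over a transposition, and its image `u` of `v`
-/

set_option autoImplicit false
set_option linter.style.haveILetI false
set_option linter.unusedSectionVars false

namespace CfsgLib.HSRecog

open Subgroup

local notation "S5" => Equiv.Perm (Fin 5)

variable {G : Type*} [Group G] [Finite G] {t a : G} {H R V M A : Subgroup G}

namespace Loc

variable (L : Loc t a H R V M A)
include L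

theorem cyConj {h s : G} (hh : h ∈ H) (hs : s ∈ zpowers a) : h * s * h⁻¹ ∈ zpowers a := by
  have hsR := ((L.centR s).2 hs).1
  refine (L.centR _).1 ⟨L.Rconj h hh s hsR, fun r hr => ?_⟩
  have hr' : h⁻¹ * r * h ∈ R := by
    have := L.Rconj h⁻¹ (inv_mem hh) r hr
    rwa [inv_inv] at this
  calc h * s * h⁻¹ * r = h * (s * (h⁻¹ * r * h)) * h⁻¹ := by group
    _ = r * (h * s * h⁻¹) := by rw [((L.centR s).2 hs).2 _ hr']; group

theorem cy_cases {s : G} (hs : s ∈ zpowers a) : ∃ n < 4, s = a ^ n := by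
  classical
  rw [mem_zpowers_iff_mem_range_orderOf, ← Nat.card_zpowers, L.card_zpowers_a] at hs
  obtain ⟨n, hn, e⟩ := Finset.mem_image.1 hs
  exact ⟨n, Finset.mem_range.1 hn, e.symm⟩

theorem ne_a3 : a ^ 3 ≠ a := fun e => L.t1 (by
  have h : a ^ 2 * a = 1 * a := by rw [← pow_succ, one_mul]; exact e
  rw [← L.a2, ← pow_two]
  exact mul_right_cancel h)

/-- An element of `H` sends `a` to itself or to its inverse. -/
theorem conj_a {h : G} (hh : h ∈ H) : h⁻¹ * a * h = a ∨ h⁻¹ * a * h = a ^ 3 := by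
  have h' := L.cyConj (inv_mem hh) (mem_zpowers a)
  rw [inv_inv] at h'
  obtain ⟨n, hn, e⟩ := L.cy_cases h'
  interval_cases n
  · exfalso
    apply L.t1
    have : a = 1 := by
      calc a = h * (h⁻¹ * a * h) * h⁻¹ := by group
        _ = 1 := by rw [e, pow_zero]; group
    rw [← L.a2, this, one_mul]
  · exact Or.inl (by rw [e, pow_one])
  · exfalso
    have h4 : a ^ 2 = 1 := by
      calc a ^ 2 = h * ((h⁻¹ * a * h) * (h⁻¹ * a * h)) * h⁻¹ := by rw [pow_two]; group
        _ = h * a ^ 4 * h⁻¹ := by rw [e, ← pow_add]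
        _ = 1 := by rw [L.a4]; group
    rw [pow_two, L.a2] at h4
    exact L.t1 h4
  · exact Or.inr e

end Loc

section Phi

variable {φ : H →* S5} (L : Loc t a H R V M A) (hφR : ∀ h : H, φ h = 1 ↔ (h : G) ∈ R)
include L hφR

theorem phi_eq {g g' : H} : φ g = φ g' ↔ (g : G)⁻¹ * g' ∈ R := by
  rw [show (g : G)⁻¹ * g' = ((g⁻¹ * g' : H) : G) from rfl, ← hφR, map_mul, map_inv, inv_mul_eq_one]

theorem conj_coset {z z' : H} (hz : (z : G) ^ 3 = 1) (hz1 : φ z ≠ 1) (hz' : (z' : G) ^ 3 = 1)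
    (he : φ z = φ z') : ∃ r : G, r ∈ R ∧ r⁻¹ * z * r = z' := by
  classical
  haveI : Fact (Nat.Prime 3) := ⟨by norm_num⟩
  let K : Subgroup H := (zpowers (φ z)).comap φ
  have ho : ∀ w : H, (w : G) ^ 3 = 1 → φ w ≠ 1 → orderOf w = 3 := fun w h1 h2 =>
    orderOf_eq_prime (Subtype.ext (by push_cast; exact h1)) (fun e => h2 (by rw [e, map_one]))
  have hz'1 : φ z' ≠ 1 := he ▸ hz1
  let k : K := ⟨z, mem_zpowers _⟩
  let k' : K := ⟨z', by show φ z' ∈ zpowers (φ z); rw [← he]; exact mem_zpowers _⟩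
  have hfac : (Nat.card K).factorization 3 = 1 := by
    have h1 : Nat.card K ∣ 7680 := L.cardH ▸ card_subgroup_dvd_card K
    have h3 : 3 ∣ Nat.card K := by
      rw [← ho z hz hz1]
      exact (dvd_of_eq (orderOf_injective K.subtype K.subtype_injective k)).trans (orderOf_dvd_natCard k)
    refine le_antisymm ?_ ?_
    · by_contra hc
      push Not at hc
      have h9 : 3 ^ 2 ∣ Nat.card K := (Nat.Prime.pow_dvd_iff_le_factorization (by norm_num) Nat.card_pos.ne').2 hc
      exact absurd (h9.trans h1) (by norm_num)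
    · exact (Nat.Prime.dvd_iff_one_le_factorization (by norm_num) Nat.card_pos.ne').1 h3
  have hk : ∀ w : K, (w : H) = z ∨ (w : H) = z' → Nat.card (zpowers w) = 3 ^ (Nat.card K).factorization 3 := by
    intro w hw
    rw [hfac, pow_one, Nat.card_zpowers, ← orderOf_injective K.subtype K.subtype_injective]
    rcases hw with e | e <;> show orderOf (w : H) = 3 <;> rw [e]
    · exact ho z hz hz1
    · exact ho z' hz' hz'1
  let P : Sylow 3 K := Sylow.ofCard (zpowers k) (hk k (Or.inl rfl))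
  let P' : Sylow 3 K := Sylow.ofCard (zpowers k') (hk k' (Or.inr rfl))
  obtain ⟨c, hc⟩ := MulAction.exists_smul_eq K P P'
  have hmem : c⁻¹ * k' * c ∈ zpowers k := by
    have h1 : k' ∈ ((c • P : Sylow 3 K) : Subgroup K) := by
      rw [hc, Sylow.coe_ofCard]; exact mem_zpowers k'
    rw [Sylow.coe_subgroup_smul, Sylow.coe_ofCard, Subgroup.mem_pointwise_smul_iff_inv_smul_mem] at h1
    simpa [MulAut.conj_apply] using h1
  obtain ⟨i, hi⟩ := mem_zpowers_iff.1 c.2
  obtain ⟨j, hj⟩ := mem_zpowers_iff.1 hmem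
  set d : H := (c : H) * z ^ (-i) with hd
  have hdR : (d : G) ∈ R := (hφR d).1 (by rw [hd, map_mul, map_zpow, ← hi, ← zpow_add]; simp)
  have e1 : z ^ j = (c : H)⁻¹ * z' * c := by
    have := congrArg (fun w : K => (w : H)) hj
    simpa using this
  have e2 : d⁻¹ * z' * d = z ^ j := by
    rw [hd]
    calc _ = z ^ i * ((c : H)⁻¹ * z' * c) * z ^ (-i) := by group
      _ = z ^ j := by rw [← e1, ← zpow_add, ← zpow_add]; ring_nf
  have e3 : φ z ^ j = φ z ^ (1 : ℤ) := by
    rw [← map_zpow, ← e2, map_mul, map_mul, map_inv, (hφR d).2 hdR, ← he]; simp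
  have e4 : z ^ j = z := by
    have ho3 : orderOf (φ z) = 3 := orderOf_eq_prime (by
      rw [← map_pow, show z ^ 3 = 1 from Subtype.ext (by push_cast; exact hz), map_one]) hz1
    rw [zpow_eq_zpow_iff_modEq, ho3] at e3
    have h := (zpow_eq_zpow_iff_modEq (x := z) (m := j) (n := 1)).2 (by rw [ho z hz hz1]; exact e3)
    rwa [zpow_one] at h
  refine ⟨(d : G)⁻¹, inv_mem hdR, ?_⟩
  rw [e4] at e2
  have e5 := congrArg Subtype.val e2
  push_cast at e5
  rw [inv_inv]
  rw [← e5]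
  group

end Phi

theorem fix_Ym : ∀ v : V4, app v Ym = v → v.2.1 = 0 ∧ v.2.2 = 0 := by decide +kernel

/-- A matrix with the rows determined by commuting with `Ym`. -/
def centMat (i : ZMod 4) (r : V4) : M4 := ((i, 0, 0), r, app r Ym)

/-- `X` and `Y` agree modulo two. -/
def modTwoEq (X Y : M4) : Prop := X.1 + X.1 = Y.1 + Y.1 ∧ X.2.1 + X.2.1 = Y.2.1 + Y.2.1 ∧ X.2.2 + X.2.2 = Y.2.2 + Y.2.2

instance (X Y : M4) : Decidable (modTwoEq X Y) := by unfold modTwoEq; infer_instance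

set_option synthInstance.maxSize 2000 in
theorem cent_cases : ∀ i : ZMod 4, ∀ r : V4, mm (centMat i r) Ym = mm Ym (centMat i r) →
    i + i ≠ 0 → r + r ≠ 0 → app r Ym + app r Ym ≠ 0 → r + r + (app r Ym + app r Ym) ≠ 0 →
    r + r + (i + i, 0, 0) ≠ 0 → app r Ym + app r Ym + (i + i, 0, 0) ≠ 0 →
    r + r + (app r Ym + app r Ym) + (i + i, 0, 0) ≠ 0 →
    modTwoEq (centMat i r) one4 ∨ modTwoEq (centMat i r) Ym ∨ modTwoEq (centMat i r) (mm Ym Ym) := by
  decide +kernel

namespace Frame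

variable {q y : G} (F : Frame t a q y M A) (L : Loc t a H R V M A)
include F L

theorem yH : y ∈ H := (L.memH y).2 F.yt

theorem exists_acts {m : G} (hm : m ∈ M) : ∃ X, Acts a q m X := by
  have hc : ∀ x ∈ A, ∃ v, fv a q v = m⁻¹ * x * m := fun x hx => L.exists_fv F.qM F.orderQ (L.conjA hm hx)
  obtain ⟨v0, h0⟩ := hc a L.aA
  obtain ⟨v1, h1⟩ := hc _ (L.a1A F.qM F.orderQ)
  obtain ⟨v2, h2⟩ := hc _ (L.a2A F.qM F.orderQ)
  exact ⟨(v0, v1, v2), L.acts_of_basis F.qM F.orderQ h0.symm h1.symm h2.symm⟩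

theorem mem_V {x : G} : x ∈ V ↔ ∃ w : V4, x = fv a q (w + w) := by
  rw [L.mem_V_iff]
  constructor
  · rintro ⟨hx, h2⟩
    obtain ⟨v, rfl⟩ := L.exists_fv F.qM F.orderQ hx
    rw [← L.fv_add F.qM F.orderQ] at h2
    obtain ⟨w, rfl⟩ := half_vec v (L.fv_ker F.qM F.orderQ h2)
    exact ⟨w, rfl⟩
  · rintro ⟨w, rfl⟩
    refine ⟨L.fv_mem F.qM F.orderQ _, ?_⟩
    rw [← L.fv_add F.qM F.orderQ, show w + w + (w + w) = 0 by
      obtain ⟨i, j, k⟩ := w
      have h : ∀ i : ZMod 4, i + i + (i + i) = 0 := by decide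
      simp [h], L.fv_zero F.qM F.orderQ]

theorem app_add (v w : V4) (X : M4) : app (v + w) X = app v X + app w X := by
  simp only [app, Prod.fst_add, Prod.snd_add, Prod.mk_add_mk, Prod.mk.injEq]
  exact ⟨by ring, by ring, by ring⟩

/-- An element acting trivially modulo two lies in `A`. -/
theorem mem_A_of_mod_two {m : G} {X : M4} (hX : Acts a q m X) (h : modTwoEq X one4) : m ∈ A := by
  refine L.centV fun x hx => ?_
  obtain ⟨w, rfl⟩ := (F.mem_V L).1 hx
  have h2 := hX (w + w)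
  have e : app (w + w) X = w + w := by
    rw [app_eq]
    obtain ⟨⟨x1, x2, x3⟩, ⟨y1, y2, y3⟩, ⟨z1, z2, z3⟩⟩ := X
    obtain ⟨i, j, k⟩ := w
    simp only [modTwoEq, one4, Prod.mk_add_mk, Prod.mk.injEq] at h
    simp only [nsmul_eq, Prod.mk_add_mk, Prod.mk.injEq]
    obtain ⟨⟨a1, a2, a3⟩, ⟨b1, b2, b3⟩, ⟨c1, c2, c3⟩⟩ := h
    exact ⟨by linear_combination i * a1 + j * b1 + k * c1, by linear_combination i * a2 + j * b2 + k * c2,
      by linear_combination i * a3 + j * b3 + k * c3⟩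
  rw [e] at h2
  conv_lhs => rw [← h2]
  group

theorem cent_y {h : G} (hM : h ∈ M) (hH : h ∈ H) (hy : h * y = y * h) :
    ∃ k i : ℕ, h = y ^ k * a ^ i := by
  obtain ⟨X, hX⟩ := F.exists_acts L hM
  have hYX : mm X Ym = mm Ym X := L.acts_unique F.qM F.orderQ (hX.mul (F.actsY L)) (hy ▸ (F.actsY L).mul hX)
  obtain ⟨i, hi⟩ : ∃ i : ZMod 4, X.1 = (i, 0, 0) := by
    obtain ⟨⟨x1, x2, x3⟩, r1, r2⟩ := X
    have e := congrArg Prod.fst hYX
    have e' : app (x1, x2, x3) Ym = (x1, x2, x3) := by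
      rw [show (mm Ym ((x1, x2, x3), r1, r2)).1 = (x1, x2, x3) by simp [mm, Ym, app]] at e
      exact e
    obtain ⟨h2, h3⟩ := fix_Ym _ e'
    exact ⟨x1, by simp only at h2 h3; rw [h2, h3]⟩
  have hr : X.2.2 = app X.2.1 Ym := by
    have e := congrArg (fun Z : M4 => Z.2.1) hYX
    obtain ⟨r0, r1, r2⟩ := X
    simpa [mm, Ym, app] using e.symm
  have hXeq : X = centMat i X.2.1 := by
    obtain ⟨r0, r1, r2⟩ := X
    simp only at hi hr
    simp [centMat, hi, hr]
  generalize X.2.1 = r at hXeq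
  subst hXeq
  have hinj : ∀ w : V4, app (w + w) (centMat i r) = 0 → w + w = 0 := by
    intro w hw
    have h1 := hX (w + w)
    rw [hw, L.fv_zero F.qM F.orderQ] at h1
    refine L.fv_ker F.qM F.orderQ ?_
    calc fv a q (w + w) = h * (h⁻¹ * fv a q (w + w) * h) * h⁻¹ := by group
      _ = 1 := by rw [h1]; group
  have ne : ∀ (w : V4) (z : V4), w + w ≠ 0 → app (w + w) (centMat i r) = z → z ≠ 0 := fun w z hw e hz =>
    hw (hinj w (e.trans hz))
  have c := cent_cases i r hYX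
    (fun e => by
      have := ne (1, 0, 0) (i + i, 0, 0) (by decide) (by rw [app_add F L]; simp [app, centMat])
      exact this (by rw [e]; rfl))
    (ne (0, 1, 0) _ (by decide) (by rw [app_add F L]; simp [app, centMat]))
    (ne (0, 0, 1) _ (by decide) (by rw [app_add F L]; simp [app, centMat]))
    (ne (0, 1, 1) _ (by decide) (by
      rw [app_add F L]
      simp only [app, centMat, Prod.fst_add, Prod.snd_add, Prod.mk_add_mk, Prod.mk.injEq, Prod.ext_iff]
      refine ⟨?_, ?_, ?_⟩ <;> ring))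
    (ne (1, 1, 0) _ (by decide) (by
      rw [app_add F L]
      simp only [app, centMat, Prod.fst_add, Prod.snd_add, Prod.mk_add_mk, Prod.mk.injEq, Prod.ext_iff]
      refine ⟨?_, ?_, ?_⟩ <;> ring))
    (ne (1, 0, 1) _ (by decide) (by
      rw [app_add F L]
      simp only [app, centMat, Prod.fst_add, Prod.snd_add, Prod.mk_add_mk, Prod.mk.injEq, Prod.ext_iff]
      refine ⟨?_, ?_, ?_⟩ <;> ring))
    (ne (1, 1, 1) _ (by decide) (by
      rw [app_add F L]
      simp only [app, centMat, Prod.fst_add, Prod.snd_add, Prod.mk_add_mk, Prod.mk.injEq, Prod.ext_iff]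
      refine ⟨?_, ?_, ?_⟩ <;> ring))
  have fin : ∀ k : ℕ, ∀ Z : M4, Acts a q (h * y ^ k) Z → modTwoEq Z one4 → ∃ k i : ℕ, h = y ^ k * a ^ i := by
    intro k Z hZ hZ1
    have hA : h * y ^ k ∈ A := F.mem_A_of_mod_two L hZ hZ1
    obtain ⟨v, hv⟩ := L.exists_fv F.qM F.orderQ hA
    have hfix : app v Ym = v := by
      refine L.fv_injective F.qM F.orderQ ?_
      rw [← F.actsY L v, hv]
      calc y⁻¹ * (h * y ^ k) * y = y⁻¹ * (h * y) * y ^ k := by
            rw [mul_assoc (y⁻¹), mul_assoc h, ← pow_succ, pow_succ']; group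
        _ = h * y ^ k := by rw [hy]; group
    obtain ⟨h2, h3⟩ := fix_Ym v hfix
    refine ⟨(3 - k % 3), v.1.val, ?_⟩
    have hk : y ^ k * y ^ (3 - k % 3) = 1 := by
      rw [← pow_add, show k + (3 - k % 3) = 3 * (k / 3 + 1) by omega, pow_mul, F.y3, one_pow]
    have hfv : fv a q v = a ^ v.1.val := by
      rw [fv, h2, h3, show (0 : ZMod 4).val = 0 from rfl]; simp
    rw [hfv] at hv
    have hc : a ^ v.1.val * y ^ (3 - k % 3) = y ^ (3 - k % 3) * a ^ v.1.val :=
      (Commute.pow_pow (show Commute a y from F.ay.symm) _ _).eq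
    rw [← hc, hv, mul_assoc, hk, mul_one]
  rcases c with c | c | c
  · exact fin 0 _ (by rw [pow_zero, mul_one]; exact hX) c
  · refine fin 2 _ (hX.mul ((F.actsY L).pow 2)) ?_
    obtain ⟨a1, a2, a3⟩ := c
    refine ⟨?_, ?_, ?_⟩ <;>
      simp only [mm, ← app_add F L, a1, a2, a3] <;> rw [app_add F L] <;> decide +kernel
  · refine fin 1 _ (hX.mul ((F.actsY L).pow 1)) ?_
    obtain ⟨a1, a2, a3⟩ := c
    refine ⟨?_, ?_, ?_⟩ <;>
      simp only [mm, ← app_add F L, a1, a2, a3] <;> rw [app_add F L] <;> decide +kernel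

theorem cent_y_R {r : G} (hr : r ∈ R) (hy : r * y = y * r) : r ∈ zpowers a := by
  obtain ⟨k, i, e⟩ := F.cent_y L (L.RM hr) (L.RH hr) hy
  have h1 : y ^ k ∈ R := by
    rw [show y ^ k = r * (a ^ i)⁻¹ by rw [e, mul_inv_cancel_right]]
    exact mul_mem hr (inv_mem (pow_mem L.aR i))
  have h2 : y ^ k = 1 := by
    haveI : Fact (Nat.Prime 2) := ⟨Nat.prime_two⟩
    have h64 : (y ^ k) ^ 64 = 1 := by
      have := pow_card_eq_one' (x := (⟨y ^ k, h1⟩ : R))
      rw [L.cardR] at this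
      exact congrArg Subtype.val this
    rw [pow_succ, show (y ^ k) ^ 63 = 1 by
      rw [← pow_mul, show k * 63 = 3 * (21 * k) by ring, pow_mul, F.y3, one_pow], one_mul] at h64
    exact h64
  rw [e, h2, one_mul]
  exact npow_mem_zpowers a i

end Frame

end CfsgLib.HSRecog
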